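import Mathlib.GroupTheory.OrderOfElement
import Mathlib.GroupTheory.GroupAction.Quotient
import Mathlib.Data.Set.Card
import Mathlib.Data.ZMod.QuotientGroup
import Mathlib.Tactic.Group

/-!
A group with generators `a`, `b` and `a ^ 2 = b ^ 3 = (a * b) ^ 5 = 1` has at most 60 elements.
-/

set_option autoImplicit false

namespace CfsgLib.J2Type

variable {G : Type*} [Group G] [Finite G]

theorem card_closure_235_le {a b : G} (ha : a * a = 1) (hb : b ^ 3 = 1) (hab : (a * b) ^ 5 = 1) :
    Nat.card (Subgroup.closure {a, b} : Subgroup G) ≤ 60 := by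
  classical
  have := Fintype.ofFinite G
  set w := a * b with hw
  set H := Subgroup.zpowers w with hH
  let p0 : G ⧸ H := QuotientGroup.mk 1
  have aa : ∀ p : G ⧸ H, a • a • p = p := fun p => by rw [smul_smul, ha, one_smul]
  have bbb : ∀ p : G ⧸ H, b • b • b • p = p := fun p => by
    rw [smul_smul, smul_smul, show b * b * b = b ^ 3 by simp [pow_succ], hb, one_smul]
  have w5 : ∀ p : G ⧸ H, w • w • w • w • w • p = p := fun p => by
    simp only [smul_smul]
    rw [show w * (w * (w * (w * w))) = w ^ 5 by simp [pow_succ, mul_assoc], hab, one_smul]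
  have wd : ∀ p : G ⧸ H, w • p = a • b • p := fun p => by rw [smul_smul]
  have w0 : w • p0 = p0 := by
    show QuotientGroup.mk (w * 1) = QuotientGroup.mk 1
    rw [QuotientGroup.eq]
    simp [hH]
  set p1 := a • p0 with h1
  set p2 := b • p1 with h2
  set p3 := a • p2 with h3
  set p4 := b • p3 with h4
  set p5 := b • p4 with h5
  set p6 := a • p4 with h6
  set p7 := b • p6 with h7
  set p8 := b • p7 with h8
  set p9 := a • p8 with h9
  set p10 := b • p9 with h10
  set p11 := b • p10 with h11
  have b0 : b • p0 = p1 := by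
    have := congrArg (a • ·) (wd p0)
    simpa [w0, aa] using this.symm
  have b2 : b • p2 = p0 := by rw [h2, ← b0, bbb]
  have b5 : b • p5 = p3 := by rw [h5, h4, bbb]
  have b8 : b • p8 = p6 := by rw [h8, h7, bbb]
  have b11 : b • p11 = p9 := by rw [h11, h10, bbb]
  have a7 : a • p7 = p5 := by
    have e1 : w • p5 = p2 := by rw [wd, b5, h3, aa]
    have e2 : w • p2 = p1 := by rw [wd, b2]
    have e3 : w • p1 = p3 := by rw [wd]
    have e4 : w • p3 = p6 := by rw [wd]
    have := w5 p5
    rw [e1, e2, e3, e4, wd] at this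
    exact this
  have a5 : a • p5 = p7 := by rw [← a7, aa]
  have a10 : a • p10 = p11 := by
    have e1 : w • p4 = p7 := by rw [wd, ← h5, a5]
    have e2 : w • p7 = p9 := by rw [wd]
    have e3 : w • p8 = p4 := by rw [wd, b8, h6, aa]
    have e4 : w • p9 = a • p10 := by rw [wd]
    have := w5 p8
    rw [e3, e1, e2, e4, wd] at this
    have h := congrArg (fun x => b • b • a • x) this
    simp only [aa, bbb] at h
    rw [h]
  obtain ⟨Ω, hΩd⟩ : ∃ Ω : Finset (G ⧸ H), Ω = [p0, p1, p2, p3, p4, p5, p6, p7, p8, p9, p10, p11].toFinset := ⟨_, rfl⟩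
  have hΩ : Ω.card ≤ 12 := hΩd ▸ List.toFinset_card_le _
  have m0 : p0 ∈ Ω := by rw [hΩd]; simp
  have m1 : p1 ∈ Ω := by rw [hΩd]; simp
  have m2 : p2 ∈ Ω := by rw [hΩd]; simp
  have m3 : p3 ∈ Ω := by rw [hΩd]; simp
  have m4 : p4 ∈ Ω := by rw [hΩd]; simp
  have m5 : p5 ∈ Ω := by rw [hΩd]; simp
  have m6 : p6 ∈ Ω := by rw [hΩd]; simp
  have m7 : p7 ∈ Ω := by rw [hΩd]; simp
  have m8 : p8 ∈ Ω := by rw [hΩd]; simp
  have m9 : p9 ∈ Ω := by rw [hΩd]; simp
  have m10 : p10 ∈ Ω := by rw [hΩd]; simp
  have m11 : p11 ∈ Ω := by rw [hΩd]; simp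
  have closeA : ∀ p ∈ Ω, a • p ∈ Ω := by
    intro p hp
    rw [hΩd] at hp
    simp only [List.mem_toFinset, List.mem_cons, List.not_mem_nil, or_false] at hp
    rcases hp with rfl | rfl | rfl | rfl | rfl | rfl | rfl | rfl | rfl | rfl | rfl | rfl
    exacts [m1, (aa p0).symm ▸ m0, m3, (aa p2).symm ▸ m2, m6, a5 ▸ m7, (aa p4).symm ▸ m4, a7 ▸ m5, m9,
      (aa p8).symm ▸ m8, a10 ▸ m11, (a10 ▸ aa p10 : a • p11 = p10) ▸ m10]
  have closeB : ∀ p ∈ Ω, b • p ∈ Ω := by
    intro p hp
    rw [hΩd] at hp
    simp only [List.mem_toFinset, List.mem_cons, List.not_mem_nil, or_false] at hp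
    rcases hp with rfl | rfl | rfl | rfl | rfl | rfl | rfl | rfl | rfl | rfl | rfl | rfl
    exacts [b0 ▸ m1, m2, b2 ▸ m0, m4, m5, b5 ▸ m3, m7, m8, b8 ▸ m6, m10, m11, b11 ▸ m9]
  have hall : ∀ g ∈ Subgroup.closure {a, b}, ∀ p ∈ Ω, g • p ∈ Ω := by
    intro g hg
    have hg' : g ∈ Submonoid.closure {a, b} := by
      rw [← Subgroup.closure_toSubmonoid_of_finite]
      exact hg
    induction hg' using Submonoid.closure_induction with
    | mem x hx =>
      rcases hx with rfl | rfl
      exacts [closeA, closeB]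
    | one => intro p hp; rwa [one_smul]
    | mul x y hx hy ihx ihy =>
      intro p hp
      rw [mul_smul]
      exact ihx (by rw [← SetLike.mem_coe, ← Subgroup.closure_toSubmonoid_of_finite] at *; exact hx) _
        (ihy (by rw [← SetLike.mem_coe, ← Subgroup.closure_toSubmonoid_of_finite] at *; exact hy) p hp)
  set L := Subgroup.closure {a, b}
  let F : Finset G := Finset.univ.filter fun g => g ∈ L
  have hF : Nat.card L = F.card := by
    rw [Nat.card_eq_fintype_card, Fintype.card_subtype]
  have hsub : F.card ≤ 5 * Ω.card := by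
    refine Finset.card_le_mul_card_image_of_maps_to (f := fun g => (QuotientGroup.mk g : G ⧸ H)) ?_ 5 ?_
    · intro g hg
      have := hall g (Finset.mem_filter.1 hg).2 p0 m0
      rwa [show g • p0 = QuotientGroup.mk g from congrArg QuotientGroup.mk (mul_one g)] at this
    · intro p _
      induction p using QuotientGroup.induction_on with
      | _ g0 =>
        refine le_trans (Finset.card_le_card_of_injOn (fun g => g0⁻¹ * g) (t := Finset.univ.filter fun x => x ∈ H) ?_ ?_) ?_
        · intro g hg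
          simp only [Finset.coe_filter, Set.mem_setOf_eq, Finset.mem_filter] at hg ⊢
          exact ⟨Finset.mem_univ _, QuotientGroup.eq.1 hg.2.symm⟩
        · exact fun x _ y _ h => mul_left_cancel h
        · rw [← Fintype.card_subtype, ← Nat.card_eq_fintype_card]
          show Nat.card H ≤ 5
          rw [hH, Nat.card_zpowers]
          exact Nat.le_of_dvd (by norm_num) (orderOf_dvd_of_pow_eq_one hab)
  omega

end CfsgLib.J2Type
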