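import Cfsg.Agent.S3277
import Mathlib.GroupTheory.SpecificGroups.Alternating.Simple

/-!
Facts on the alternating group of degree five, and groups with a self-centralising four group.
-/

set_option autoImplicit false

namespace CfsgLib.J2Type

local notation "A₅" => alternatingGroup (Fin 5)

theorem alt5_gen : ∀ a : A₅, a * a = 1 → a ≠ 1 →
    ∃ b : A₅, b ^ 3 = 1 ∧ b ≠ 1 ∧ (a * b) ^ 5 = 1 ∧ a * b ≠ 1 := by
  decide +kernel

theorem alt5_invol_conj : ∀ a : A₅, a * a = 1 → a ≠ 1 → ∀ b : A₅, b * b = 1 → b ≠ 1 →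
    ∃ c : A₅, c * a * c⁻¹ = b := by
  decide +kernel

theorem alt5_invol_cent : ∀ a : A₅, a * a = 1 → a ≠ 1 →
    ((Finset.univ : Finset A₅).filter fun c => c * a = a * c).card = 4 ∧
    ∀ c : A₅, c * a = a * c → c * c = 1 := by
  decide +kernel

theorem alt5_invol_cent_comm : ∀ a : A₅, a * a = 1 → a ≠ 1 →
    ∀ c : A₅, c * a = a * c → ∀ d : A₅, d * a = a * d → c * d = d * c := by
  decide +kernel

theorem alt5_three_cent : ∀ x : A₅, x ^ 3 = 1 → x ≠ 1 →
    ∀ y : A₅, y * x = x * y → y = 1 ∨ y = x ∨ y = x ^ 2 := by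
  decide +kernel

theorem alt5_five_cent : ∀ x : A₅, x ^ 5 = 1 → x ≠ 1 →
    ∀ y : A₅, y * x = x * y → y = 1 ∨ y = x ∨ y = x ^ 2 ∨ y = x ^ 3 ∨ y = x ^ 4 := by
  decide +kernel

theorem alt5_three_inv : ∀ x : A₅, x ^ 3 = 1 → ∃ i : A₅, i * i = 1 ∧ i ≠ 1 ∧ i * x * i⁻¹ = x⁻¹ := by
  decide +kernel

theorem alt5_five_inv : ∀ x : A₅, x ^ 5 = 1 → ∃ i : A₅, i * i = 1 ∧ i ≠ 1 ∧ i * x * i⁻¹ = x⁻¹ := by
  decide +kernel

theorem alt5_five_not_sq : ∀ x : A₅, x ^ 5 = 1 → x ≠ 1 → ∀ c : A₅,
    c * x * c⁻¹ ≠ x ^ 2 ∧ c * x * c⁻¹ ≠ x ^ 3 := by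
  decide +kernel

set_option synthInstance.maxSize 2000 in
set_option synthInstance.maxHeartbeats 100000 in
theorem alt5_third : ∀ g : A₅, g ^ 3 = 1 → g ≠ 1 → ∀ w : A₅, w * w = 1 → w ≠ 1 →
    w * (g * w * g⁻¹) = g * w * g⁻¹ * w →
    ∃ u : A₅, (u * u = 1 ∧ u * (g * u * g⁻¹) = g * u * g⁻¹ * u ∧ (w * u) ^ 3 = 1 ∧ w * u ≠ 1) ∧
      (∀ v : A₅, v * v = 1 → v * (g * v * g⁻¹) = g * v * g⁻¹ * v → (w * v) ^ 3 = 1 → w * v ≠ 1 → v = u) ∧
      (w * (g * u * g⁻¹)) ^ 5 = 1 ∧ w * (g * u * g⁻¹) ≠ 1 := by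
  decide +kernel

set_option synthInstance.maxSize 2000 in
theorem alt5_align : ∀ g : A₅, g ^ 3 = 1 → g ≠ 1 → ∀ w : A₅, w * w = 1 → w ≠ 1 →
    w * (g * w * g⁻¹) = g * w * g⁻¹ * w → ∀ h : A₅, h ^ 3 = 1 → h ≠ 1 →
    w * (h * w * h⁻¹) = h * w * h⁻¹ * w →
    ∃ m : A₅, m * w = w * m ∧ (m * h * m⁻¹ = g ∨ m * h * m⁻¹ = g⁻¹) := by
  decide +kernel

theorem alt5_five_norm : ∀ x : A₅, x ^ 5 = 1 → x ≠ 1 →
    ((Finset.univ : Finset A₅).filter fun c =>
      c * x * c⁻¹ = x ∨ c * x * c⁻¹ = x ^ 2 ∨ c * x * c⁻¹ = x ^ 3 ∨ c * x * c⁻¹ = x ^ 4).card = 10 := by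
  decide +kernel

theorem card_alt5 : Nat.card A₅ = 60 := by
  rw [nat_card_alternatingGroup, Nat.card_eq_fintype_card, Fintype.card_fin]; decide

/-- A subgroup of the alternating group of degree five of order at least 30 is the whole group. -/
theorem alt5_eq_top {H : Subgroup A₅} (h : 30 ≤ Nat.card H) : H = ⊤ := by
  haveI : IsSimpleGroup A₅ := alternatingGroup.isSimpleGroup_five
  have hm := H.card_mul_index
  rw [card_alt5] at hm
  have hi : H.index ≤ 2 := by
    by_contra hc
    push Not at hc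
    have := Nat.mul_le_mul h hc
    omega
  have hi0 : H.index ≠ 0 := fun e => by rw [e, mul_zero] at hm; omega
  rcases (show H.index = 1 ∨ H.index = 2 by omega) with e | e
  · exact Subgroup.index_eq_one.1 e
  · rcases IsSimpleGroup.eq_bot_or_eq_top_of_normal H (Subgroup.normal_of_index_eq_two e) with r | r
    · rw [r, Subgroup.card_bot] at h; omega
    · exact r

/-- A group with a self-centralising four group normalised by an element outside it has order 12,
or is the alternating group of degree five. -/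
theorem four_group_case {X : Type*} [Group X] [Finite X] (W : Subgroup X) (hW : Nat.card W = 4)
    (hW2 : ∀ w ∈ W, w * w = 1)
    (hC : ∀ w ∈ W, w ≠ 1 → Subgroup.centralizer ({w} : Set X) = W)
    {g : X} (hg : g ∈ Subgroup.normalizer (W : Set X)) (hgW : g ∉ W) :
    (W.Normal ∧ Nat.card X = 12) ∨ Nonempty (X ≃* A₅) := by
  classical
  have := Fintype.ofFinite X
  haveI : Fact (Nat.Prime 2) := ⟨Nat.prime_two⟩
  have hWp : IsPGroup 2 W := IsPGroup.of_card (n := 2) (by rw [hW]; norm_num)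
  haveI : Nontrivial W := Finite.one_lt_card_iff_nontrivial.mp (by omega)
  obtain ⟨⟨w, hwW⟩, hw1'⟩ := exists_ne (1 : W)
  have hw1 : w ≠ 1 := fun e => hw1' (Subtype.ext e)
  have hcm : ∀ a ∈ W, ∀ b ∈ W, a * b = b * a := by
    intro a ha b hb
    by_cases h1 : a = 1
    · simp [h1]
    rw [← hC a ha h1] at hb
    exact (Subgroup.mem_centralizer_singleton_iff.1 hb).symm
  have hgc : ∀ x ∈ W, x ≠ 1 → g * x ≠ x * g := by
    intro x hx hx1 e
    exact hgW (hC x hx hx1 ▸ Subgroup.mem_centralizer_singleton_iff.2 e)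
  -- `W` is a Sylow subgroup
  obtain ⟨S, hWS⟩ := hWp.exists_le_sylow
  have hSW : W = (S : Subgroup X) := by
    refine le_antisymm hWS ?_
    haveI : Nontrivial (S : Subgroup X) :=
      ⟨⟨1, ⟨w, hWS hwW⟩, fun e => hw1 (congrArg Subtype.val e).symm⟩⟩
    haveI := S.2.center_nontrivial
    obtain ⟨⟨⟨c, hcS⟩, hc⟩, hne⟩ := exists_ne (1 : Subgroup.center (S : Subgroup X))
    have hc1 : c ≠ 1 := fun e => hne (Subtype.ext (Subtype.ext e))
    have hcc : ∀ x ∈ (S : Subgroup X), x * c = c * x := fun x hx =>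
      congrArg Subtype.val (Subgroup.mem_center_iff.1 hc ⟨x, hx⟩)
    have hcW : c ∈ W := by
      rw [← hC w hwW hw1]
      exact Subgroup.mem_centralizer_singleton_iff.2 (hcc w (hWS hwW)).symm
    intro x hx
    rw [← hC c hcW hc1]
    exact Subgroup.mem_centralizer_singleton_iff.2 (hcc x hx)
  by_cases hn : W.Normal
  · left
    refine ⟨hn, ?_⟩
    -- the orbit of `w`
    let O : Finset X := Finset.univ.image fun x => x * w * x⁻¹
    have hO : O ⊆ (Finset.univ.filter fun x => x ∈ W).erase 1 := by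
      intro y hy
      obtain ⟨x, -, rfl⟩ := Finset.mem_image.1 hy
      exact Finset.mem_erase.2 ⟨fun e => hw1 (conj_eq_one_iff.1 e),
        Finset.mem_filter.2 ⟨Finset.mem_univ _, hn.conj_mem w hwW x⟩⟩
    have hWc : (Finset.univ.filter fun x => x ∈ W).card = 4 := by
      rw [← hW, Nat.card_eq_fintype_card, Fintype.card_subtype]
    have hO3 : O.card ≤ 3 := (Finset.card_le_card hO).trans (by
      rw [Finset.card_erase_of_mem (by simp), hWc])
    have hXO : Fintype.card X = O.card * 4 := by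
      rw [← Finset.card_univ, Finset.card_eq_sum_card_image (fun x : X => x * w * x⁻¹) Finset.univ,
        Finset.sum_const_nat]
      intro y hy
      obtain ⟨x0, -, rfl⟩ := Finset.mem_image.1 hy
      rw [← hWc]
      refine Finset.card_bij (fun x _ => x0⁻¹ * x) ?_ (fun _ _ _ _ h => mul_left_cancel h) ?_
      · intro x hx
        have hx' := (Finset.mem_filter.1 hx).2
        refine Finset.mem_filter.2 ⟨Finset.mem_univ _, ?_⟩
        rw [← hC w hwW hw1, Subgroup.mem_centralizer_singleton_iff]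
        calc x0⁻¹ * x * w = x0⁻¹ * (x * w * x⁻¹) * x := by group
          _ = w * (x0⁻¹ * x) := by rw [hx']; group
      · intro c hc
        have hc' := (Finset.mem_filter.1 hc).2
        rw [← hC w hwW hw1, Subgroup.mem_centralizer_singleton_iff] at hc'
        refine ⟨x0 * c, Finset.mem_filter.2 ⟨Finset.mem_univ _, ?_⟩, by group⟩
        rw [mul_inv_rev, show x0 * c * w * (c⁻¹ * x0⁻¹) = x0 * (c * w) * c⁻¹ * x0⁻¹ by group, hc']
        group
    have hpos : O.card ≠ 0 := by
      intro e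
      rw [e, zero_mul] at hXO
      exact Fintype.card_ne_zero hXO
    have h1 : O.card ≠ 1 := by
      intro e
      have : Nat.card X = 4 := by rw [Nat.card_eq_fintype_card, hXO, e]
      exact hgW (Subgroup.eq_top_of_card_eq W (hW.trans this.symm) ▸ Subgroup.mem_top g)
    have h2 : O.card ≠ 2 := by
      intro e
      have hX8 : Nat.card X = 8 := by rw [Nat.card_eq_fintype_card, hXO, e]
      have hS : Nat.card (S : Subgroup X) = 8 := by
        rw [S.card_eq_multiplicity, hX8, show (8 : ℕ) = 2 ^ 3 from rfl,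
          Nat.prime_two.factorization_pow, Finsupp.single_eq_same]
      rw [← hSW, hW] at hS
      omega
    rw [Nat.card_eq_fintype_card, hXO]
    omega
  right
  refine Cfsg.Agent.S3277.result w (orderOf_eq_prime (by rw [pow_two]; exact hW2 w hwW) hw1)
    (by rw [hC w hwW hw1, hW]) (fun c hc => by rw [hC w hwW hw1] at hc; rw [pow_two]; exact hW2 c hc)
    ?_ ?_
  · rintro ⟨P, N, hN, hNP⟩
    obtain ⟨t, ht⟩ := MulAction.exists_smul_eq X S P
    have hPab : ∀ a ∈ (P : Subgroup X), ∀ b ∈ (P : Subgroup X), a * b = b * a := by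
      intro a ha b hb
      rw [← ht, Sylow.coe_subgroup_smul, ← hSW] at ha hb
      obtain ⟨a', ha', rfl⟩ := ha
      obtain ⟨b', hb', rfl⟩ := hb
      show t * a' * t⁻¹ * (t * b' * t⁻¹) = t * b' * t⁻¹ * (t * a' * t⁻¹)
      rw [show t * a' * t⁻¹ * (t * b' * t⁻¹) = t * (a' * b') * t⁻¹ by group, hcm a' ha' b' hb']
      group
    obtain ⟨⟨n1, p1⟩, e1⟩ := hNP.2 g
    obtain ⟨⟨n2, p2⟩, e2⟩ := hNP.2 w
    have key : g * w * g⁻¹ * w⁻¹ ∈ N := by
      set π := QuotientGroup.mk' N
      have hker : ∀ {n : X}, n ∈ N → π n = 1 := fun h => (QuotientGroup.eq_one_iff _).2 h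
      refine (QuotientGroup.eq_one_iff _).1 (show π (g * w * g⁻¹ * w⁻¹) = 1 from ?_)
      have eg : π g = π (p1 : X) := by
        rw [← show (n1 : X) * p1 = g from e1, map_mul, hker n1.2, one_mul]
      have ew : π w = π (p2 : X) := by
        rw [← show (n2 : X) * p2 = w from e2, map_mul, hker n2.2, one_mul]
      rw [map_mul, map_mul, map_mul, map_inv, map_inv, eg, ew, ← map_mul, hPab _ p1.2 _ p2.2,
        map_mul]
      group
    have hkW : g * w * g⁻¹ * w⁻¹ ∈ W :=
      W.mul_mem ((Subgroup.mem_normalizer_iff.1 hg w).1 hwW) (W.inv_mem hwW)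
    have hbot : N ⊓ (P : Subgroup X) = ⊥ := disjoint_iff.1 hNP.disjoint
    have hone : g * w * g⁻¹ * w⁻¹ = 1 := by
      set u := g * w * g⁻¹ * w⁻¹
      have huS : t * u * t⁻¹ ∈ (P : Subgroup X) := by
        rw [← ht, Sylow.coe_subgroup_smul]
        exact ⟨u, hSW ▸ hkW, rfl⟩
      have : t * u * t⁻¹ ∈ N ⊓ (P : Subgroup X) := ⟨hN.conj_mem u key t, huS⟩
      rw [hbot, Subgroup.mem_bot] at this
      exact conj_eq_one_iff.1 this
    rw [mul_inv_eq_one, mul_inv_eq_iff_eq_mul] at hone
    exact hgc w hwW hw1 hone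
  · intro E hE hEe
    refine ⟨fun h => ?_, fun h => ?_⟩
    · haveI : Nontrivial E := Finite.one_lt_card_iff_nontrivial.mp (by omega)
      obtain ⟨⟨e, heE⟩, he1'⟩ := exists_ne (1 : E)
      have he1 : e ≠ 1 := fun r => he1' (Subtype.ext r)
      have hcen : ∀ x : X, x * e = e * x := by
        intro x
        obtain ⟨y, -, huniq⟩ := (Nat.card_eq_two_iff' (1 : E)).1 h
        have a := huniq ⟨x * e * x⁻¹, hE.conj_mem e heE x⟩
          fun r => he1 (conj_eq_one_iff.1 (congrArg Subtype.val r))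
        have b := huniq ⟨e, heE⟩ he1'
        exact mul_inv_eq_iff_eq_mul.1 (congrArg Subtype.val (a.trans b.symm))
      have heW : e ∈ W := by
        rw [← hC w hwW hw1]
        exact Subgroup.mem_centralizer_singleton_iff.2 (hcen w).symm
      exact hgc e heW he1 (hcen g)
    · apply hn
      have hle : E ≤ W := by
        have hEp : IsPGroup 2 E := IsPGroup.of_card (n := 2) (by rw [h]; norm_num)
        obtain ⟨P, hP⟩ := hEp.exists_le_sylow
        obtain ⟨t, ht⟩ := MulAction.exists_smul_eq X S P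
        intro x hx
        have := hP (hE.conj_mem x hx t)
        rw [← ht, Sylow.coe_subgroup_smul, ← hSW] at this
        obtain ⟨y, hy, e⟩ := this
        simp only [MulDistribMulAction.toMonoidEnd_apply, MulDistribMulAction.toMonoidHom_apply,
          MulAut.smul_def, MulAut.conj_apply] at e
        exact (mul_left_cancel (mul_right_cancel e)) ▸ hy
      exact Subgroup.eq_of_le_of_card_ge hle (by rw [h, hW]) ▸ hE

/-- An automorphism of the alternating group of degree five fixing a point of a four group and an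
element of order three normalising it is trivial. -/
theorem centralizes_alt5 {X : Type*} [Group X] [Finite X] {B : Subgroup X} (e : B ≃* A₅) {x g w : X}
    (hx : ∀ b ∈ B, x * b * x⁻¹ ∈ B) (hg : g ∈ B) (hg3 : g ^ 3 = 1) (hg1 : g ≠ 1) (hw : w ∈ B)
    (hw2 : w * w = 1) (hw1 : w ≠ 1) (hwg : w * (g * w * g⁻¹) = g * w * g⁻¹ * w)
    (hxg : x * g = g * x) (hxw : x * w = w * x) : ∀ b ∈ B, x * b = b * x := by
  classical
  let σ : B →* B :=
  { toFun := fun b => ⟨x * b * x⁻¹, hx b b.2⟩
    map_one' := Subtype.ext (by simp)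
    map_mul' := fun a b => Subtype.ext (by show x * ((a : X) * b) * x⁻¹ = _; simp [mul_assoc]) }
  set gB : B := ⟨g, hg⟩
  set wB : B := ⟨w, hw⟩
  have hσg : σ gB = gB := Subtype.ext (mul_inv_eq_iff_eq_mul.2 hxg)
  have hσw : σ wB = wB := Subtype.ext (mul_inv_eq_iff_eq_mul.2 hxw)
  have inj : ∀ {a b : B}, e a = e b → a = b := fun h => e.injective h
  obtain ⟨u', ⟨hu2, huc, hu3, hune⟩, huniq, hu5, hu5ne⟩ := alt5_third (e gB)
    (by rw [← map_pow, show gB ^ 3 = 1 from Subtype.ext hg3, map_one])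
    (fun h => hg1 (congrArg Subtype.val (inj (h.trans (map_one e).symm)))) (e wB)
    (by rw [← map_mul, show wB * wB = 1 from Subtype.ext hw2, map_one])
    (fun h => hw1 (congrArg Subtype.val (inj (h.trans (map_one e).symm))))
    (by simp only [← map_mul, ← map_inv]; exact congrArg e (Subtype.ext hwg))
  set u : B := e.symm u'
  have hu' : u' = e u := by simp [u]
  rw [hu'] at hu2 huc hu3 hune huniq hu5 hu5ne
  simp only [← map_mul, ← map_inv, ← map_pow] at hu2 huc hu3 hu5
  have hσu : σ u = u := by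
    refine inj (huniq (e (σ u)) ?_ ?_ ?_ ?_) <;> simp only [← map_mul, ← map_inv, ← map_pow]
    · rw [show u * u = 1 from inj (hu2.trans (map_one e).symm), map_one, map_one]
    · rw [← hσg, ← map_inv σ, ← map_mul, ← map_mul, ← map_mul, ← map_mul, inj huc]
    · rw [← hσw, ← map_mul, ← map_pow, inj (hu3.trans (map_one e).symm), map_one, map_one]
    · intro h
      apply hune
      have h' : σ (wB * u) = 1 := by rw [map_mul, hσw]; exact inj (h.trans (map_one e).symm)
      have h2 : wB * u = 1 := by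
        have h3 : x * ((wB * u : B) : X) * x⁻¹ = 1 := congrArg Subtype.val h'
        exact Subtype.ext (conj_eq_one_iff.1 h3)
      rw [← map_mul, h2, map_one]
  let D : Subgroup B := σ.eqLocus (MonoidHom.id B)
  have hD : D = ⊤ := by
    have htop : D.map e.toMonoidHom = ⊤ := by
      apply alt5_eq_top
      have mg : e gB ∈ D.map e.toMonoidHom := ⟨gB, hσg, rfl⟩
      have mw : e wB ∈ D.map e.toMonoidHom := ⟨wB, hσw, rfl⟩
      have mu : e u ∈ D.map e.toMonoidHom := ⟨u, hσu, rfl⟩
      have d2 : 2 ∣ Nat.card (D.map e.toMonoidHom) := by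
        have h := Subgroup.orderOf_dvd_natCard _ mw
        haveI : Fact (Nat.Prime 2) := ⟨Nat.prime_two⟩
        rwa [orderOf_eq_prime (by rw [pow_two, ← map_mul, show wB * wB = 1 from Subtype.ext hw2, map_one])
          (fun h => hw1 (congrArg Subtype.val (inj (h.trans (map_one e).symm))))] at h
      have d3 : 3 ∣ Nat.card (D.map e.toMonoidHom) := by
        have h := Subgroup.orderOf_dvd_natCard _ mg
        haveI : Fact (Nat.Prime 3) := ⟨Nat.prime_three⟩
        rwa [orderOf_eq_prime (by rw [← map_pow, show gB ^ 3 = 1 from Subtype.ext hg3, map_one])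
          (fun h => hg1 (congrArg Subtype.val (inj (h.trans (map_one e).symm))))] at h
      have d5 : 5 ∣ Nat.card (D.map e.toMonoidHom) := by
        have h := Subgroup.orderOf_dvd_natCard _
          (Subgroup.mul_mem _ mw (Subgroup.mul_mem _ (Subgroup.mul_mem _ mg mu) (Subgroup.inv_mem _ mg)))
        haveI : Fact (Nat.Prime 5) := ⟨by decide⟩
        rwa [orderOf_eq_prime (p := 5) (by simp only [← map_mul, ← map_inv, ← map_pow]; exact hu5) hu5ne] at h
      have : 0 < Nat.card (D.map e.toMonoidHom) := Nat.card_pos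
      omega
    exact Subgroup.map_injective e.injective (htop.trans (Subgroup.map_top_of_surjective _ e.surjective).symm)
  intro b hb
  have : (⟨b, hb⟩ : B) ∈ D := hD ▸ Subgroup.mem_top _
  exact mul_inv_eq_iff_eq_mul.1 (congrArg Subtype.val this)

/-- The involutions generate the alternating group of degree five. -/
theorem alt5_invol_gen {X : Type*} [Group X] {B D : Subgroup X} (e : B ≃* A₅)
    (hD : ∀ b ∈ B, b * b = 1 → b ≠ 1 → b ∈ D) : B ≤ D := by
  set S : Set B := {b | b * b = 1}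
  have hle : Subgroup.closure S ≤ D.subgroupOf B := by
    rw [Subgroup.closure_le]
    intro b hb
    by_cases h1 : b = 1
    · rw [h1]; exact Subgroup.one_mem _
    · exact hD b b.2 (congrArg Subtype.val hb) fun h => h1 (Subtype.ext h)
  have hn : (Subgroup.closure S).Normal := by
    refine ⟨fun n hn g => ?_⟩
    have : Subgroup.closure S ≤ (Subgroup.closure S).comap (MulAut.conj g).toMonoidHom := by
      rw [Subgroup.closure_le]
      intro b hb
      have hb' : b * b = 1 := hb
      exact Subgroup.subset_closure (show (g * b * g⁻¹) * (g * b * g⁻¹) = 1 by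
        rw [show g * b * g⁻¹ * (g * b * g⁻¹) = g * (b * b) * g⁻¹ by group, hb']; group)
    exact this hn
  haveI : IsSimpleGroup A₅ := alternatingGroup.isSimpleGroup_five
  haveI : Nontrivial B := e.toEquiv.nontrivial
  haveI : IsSimpleGroup B := MulEquiv.isSimpleGroup e
  rcases IsSimpleGroup.eq_bot_or_eq_top_of_normal _ hn with h | h
  · exfalso
    obtain ⟨b, hb3, hb1, -⟩ : ∃ a : A₅, a * a = 1 ∧ a ≠ 1 ∧ True := by decide +kernel
    have : e.symm b ∈ Subgroup.closure S :=
      Subgroup.subset_closure (show e.symm b * e.symm b = 1 by rw [← map_mul, hb3, map_one])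
    rw [h, Subgroup.mem_bot] at this
    exact hb1 (by simpa using congrArg e this)
  · intro x hx
    exact hle (h ▸ Subgroup.mem_top (⟨x, hx⟩ : B))

end CfsgLib.J2Type
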