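import Cfsg.Agent.Lib.J2Order.Count
import Cfsg.Agent.Lib.J2Type.Pres
import Cfsg.Agent.Lib.J2Type.Small
import Cfsg.Agent.Lib.Layer.Basic
import Cfsg.Agent.Lib.PSolvable.Omega
import Cfsg.Agent.Lib.Classical.SymmOrth
import Cfsg.Prelude.Def_Classical
import Mathlib.GroupTheory.SpecificGroups.Alternating.Centralizer

/-!
Groups of Hall–Janko type: the centraliser of the central involution is a split extension.
-/

set_option autoImplicit false

open scoped Classical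

namespace CfsgLib.J2Type

open CfsgLib.J2Order

variable {G : Type*} [Group G] [Finite G]

/-- A complemented involution centraliser `2^(1+4) . A5`. -/
structure Core (z : G) (Q K C : Subgroup G) : Prop where
  setup : Setup z Q K C
  mem_C : ∀ g : G, g ∈ C ↔ g * z = z * g

/-- The data of a group of Hall–Janko type. -/
structure Hyp (z : G) (Q K C : Subgroup G) : Prop extends Core z Q K C where
  Qz : ∀ x ∈ Q, orderOf x = 2 → IsConj x z
  two : ∃ y ∈ C, orderOf y = 2 ∧ y ∉ Q ∧ ¬ IsConj y z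
  cov : ∀ x : G, orderOf x = 2 → ∃ g : G, g * x * g⁻¹ ∈ C

theorem omega_equiv_alt5 :
    Nonempty (Cfsg.Omega (ZMod 2) (Cfsg.quadFormMinus 1 (ZMod 2) 1 1) ≃* alternatingGroup (Fin 5)) := by
  obtain ⟨e⟩ := CfsgLib.Classical.SymmOrth.minus_four
  refine ⟨(Subgroup.equivMapOfInjective _ e.toMonoidHom e.injective).trans (MulEquiv.subgroupCongr ?_)⟩
  show (commutator _).map e.toMonoidHom = _
  rw [commutator_def, Subgroup.map_commutator, Subgroup.map_top_of_surjective e.toMonoidHom e.surjective,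
    ← commutator_def, alternatingGroup.commutator_perm_eq (by simp)]

theorem sylow_cov {C : Subgroup G} {z : G} (hmem : ∀ g : G, g ∈ C ↔ g * z = z * g)
    (hz : z ≠ 1) (hz2 : z * z = 1) (T : Sylow 2 C)
    (hT : ∀ c ∈ (T : Subgroup C), (∀ d ∈ (T : Subgroup C), d * c = c * d) → (c : G) = 1 ∨ (c : G) = z)
    {x : G} (hx : orderOf x = 2) : ∃ g : G, g * x * g⁻¹ ∈ C := by
  haveI : Fact (Nat.Prime 2) := ⟨Nat.prime_two⟩
  set T' := (T : Subgroup C).map C.subtype with hT'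
  have hp : IsPGroup 2 T' := T.2.map _
  obtain ⟨S, hS⟩ := hp.exists_le_sylow
  have hzT : z ∈ T' := by
    let zC : C := ⟨z, (hmem z).2 rfl⟩
    have hzc : Subgroup.zpowers zC ≤ (T : Subgroup C) := by
      have hn : (Subgroup.zpowers zC).Normal := ⟨fun n hn g => by
        obtain ⟨k, rfl⟩ := Subgroup.mem_zpowers_iff.1 hn
        have hcm : Commute g zC := Subtype.ext ((hmem g.1).1 g.2)
        rw [(hcm.zpow_right k).eq, mul_inv_cancel_right]
        exact Subgroup.zpow_mem _ (Subgroup.mem_zpowers _) k⟩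
      have hzp : IsPGroup 2 (Subgroup.zpowers zC) := by
        intro a
        obtain ⟨k, hk⟩ := Subgroup.mem_zpowers_iff.1 a.2
        refine ⟨1, Subtype.ext ?_⟩
        rw [SubgroupClass.coe_pow, pow_one, ← hk, ← zpow_natCast, ← zpow_mul, mul_comm, zpow_mul,
          zpow_natCast, pow_two, show zC * zC = 1 from Subtype.ext hz2, one_zpow]
        rfl
      obtain ⟨P, hP⟩ := hzp.exists_le_sylow
      obtain ⟨t, ht⟩ := MulAction.exists_smul_eq C P T
      intro a ha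
      rw [← ht, Sylow.coe_subgroup_smul]
      exact ⟨t⁻¹ * a * t, hP (by simpa using hn.conj_mem a ha t⁻¹),
        show t * (t⁻¹ * a * t) * t⁻¹ = a by group⟩
    exact ⟨zC, hzc (Subgroup.mem_zpowers _), rfl⟩
  have hST : (S : Subgroup G) = T' := by
    refine le_antisymm ?_ hS
    by_contra hne
    have hlt : T'.subgroupOf S < ⊤ := lt_of_le_of_ne le_top fun e =>
      hne (Subgroup.subgroupOf_eq_top.1 e)
    haveI := S.2.isNilpotent
    obtain ⟨s, hs, hs'⟩ := SetLike.exists_of_lt ((Group.normalizerCondition_of_isNilpotent (G := (S : Subgroup G))) _ hlt)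
    have hconj : ∀ a : G, a ∈ T' → (s : G) * a * (s : G)⁻¹ ∈ T' := fun a ha =>
      (Subgroup.mem_normalizer_iff.1 hs ⟨a, hS ha⟩).1 ha
    have hsz : (s : G) * z * (s : G)⁻¹ = z := by
      obtain ⟨c, hc, hce⟩ := hconj z hzT
      have hcent : ∀ d ∈ (T : Subgroup C), d * c = c * d := by
        intro d hd
        apply Subtype.ext
        show (d : G) * c = c * d
        have hd' : (s : G)⁻¹ * d * s ∈ T' := by
          have hs2 := Subgroup.inv_mem _ hs
          have := (Subgroup.mem_normalizer_iff.1 hs2 ⟨(d : G), hS ⟨d, hd, rfl⟩⟩).1 ⟨d, hd, rfl⟩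
          simpa [Subgroup.mem_subgroupOf] using this
        obtain ⟨d', hd'', hde⟩ := hd'
        have h1 := (hmem d'.1).1 d'.2
        change (d' : G) = (s : G)⁻¹ * d * s at hde
        change (c : G) = (s : G) * z * (s : G)⁻¹ at hce
        rw [hce, show (d : G) = (s : G) * d' * (s : G)⁻¹ by rw [hde]; group,
          show (s : G) * d' * (s : G)⁻¹ * (s * z * (s : G)⁻¹) = s * (d' * z) * (s : G)⁻¹ by group, h1]
        group
      change (c : G) = (s : G) * z * (s : G)⁻¹ at hce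
      rcases hT c hc hcent with h | h
      · rw [h] at hce
        exact absurd (conj_eq_one_iff.1 hce.symm) hz
      · rw [← hce, h]
    have hsC : (s : G) ∈ C := (hmem _).2 (mul_inv_eq_iff_eq_mul.1 hsz)
    -- a 2-subgroup of `C` containing `T`
    let R : Subgroup C := (S : Subgroup G).subgroupOf C
    have hRp : IsPGroup 2 R := by
      exact (S.2.comap_of_injective C.subtype C.subtype_injective)
    have hTR : (T : Subgroup C) ≤ R := fun a ha => hS ⟨a, ha, rfl⟩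
    have hRT := T.3 hRp hTR
    exact hs' (show (s : G) ∈ T' from ⟨⟨s, hsC⟩, hRT ▸ (show (⟨(s : G), hsC⟩ : C) ∈ R from s.2), rfl⟩)
  have hxp : IsPGroup 2 (Subgroup.zpowers x) :=
    IsPGroup.of_card (n := 1) (by rw [Nat.card_zpowers, hx, pow_one])
  obtain ⟨P, hP⟩ := hxp.exists_le_sylow
  obtain ⟨g, hg⟩ := MulAction.exists_smul_eq G P S
  refine ⟨g, ?_⟩
  have : g * x * g⁻¹ ∈ (S : Subgroup G) := by
    rw [← hg, Sylow.coe_subgroup_smul]
    exact ⟨x, hP (Subgroup.mem_zpowers x), rfl⟩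
  rw [hST] at this
  exact Subgroup.map_subtype_le _ this

theorem exists_core_aux (z : G) (hz : orderOf z = 2) (C : Subgroup G) (memC : ∀ g : G, g ∈ C ↔ g * z = z * g)
    (Q : Subgroup C) [hQn : Q.Normal] (hCC : ∀ c : C, (∀ q ∈ Q, q * c = c * q) → c ∈ Q)
    (hQ : Cfsg.IsExtraspecial 2 Q) (hcard : Nat.card Q = 2 ^ 5)
    (e : C ⧸ Q ≃* Cfsg.Omega (ZMod 2) (Cfsg.quadFormMinus 1 (ZMod 2) 1 1)) :
    (∀ x : G, orderOf x = 2 → ∃ g : G, g * x * g⁻¹ ∈ C) ∧
    ((∃ g : G, (∃ hq : g * z * g⁻¹ ∈ C, (⟨g * z * g⁻¹, hq⟩ : C) ∈ Q) ∧ g * z * g⁻¹ ≠ z) →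
      ∀ x ∈ Q.map C.subtype, orderOf x = 2 → IsConj x z) ∧
    ∀ y ∈ C, orderOf y = 2 → y ∉ Q.map C.subtype → ∃ K : Subgroup G, Core z (Q.map C.subtype) K C := by
  haveI : Fact (Nat.Prime 2) := ⟨Nat.prime_two⟩
  haveI := Fintype.ofFinite G
  obtain ⟨⟨hp, hfr, hder⟩, hcard2⟩ := hQ
  obtain ⟨hz1, hz2⟩ := orderTwo hz
  let zC : C := ⟨z, (memC z).2 rfl⟩
  have hzQ : zC ∈ Q := hCC _ fun q _ => Subtype.ext ((memC q.1).1 q.2)
  let zO : Q := ⟨zC, hzQ⟩
  have hzc : zO ∈ Subgroup.center Q := Subgroup.mem_center_iff.2 fun g =>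
    Subtype.ext (Subtype.ext ((memC (g : C).1).1 (g : C).2))
  have hcases : ∀ q : Q, q ∈ Subgroup.center Q → q = 1 ∨ q = zO := by
    intro q hq
    by_cases h1 : q = 1
    · exact Or.inl h1
    refine Or.inr ?_
    obtain ⟨y, -, huniq⟩ := (Nat.card_eq_two_iff' (1 : Subgroup.center Q)).1 hcard2
    have a := huniq ⟨q, hq⟩ fun h => h1 (congrArg Subtype.val h)
    have b := huniq ⟨zO, hzc⟩ fun h => hz1
      (congrArg (fun t : Subgroup.center Q => (((t : Q) : C) : G)) h)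
    exact congrArg Subtype.val (a.trans b.symm)
  set Q0 := Q.map C.subtype with hQ0
  have memQ : ∀ {g : G}, g ∈ Q0 ↔ ∃ q : Q, ((q : C) : G) = g := by
    intro g
    constructor
    · rintro ⟨c, hc, rfl⟩
      exact ⟨⟨c, hc⟩, rfl⟩
    · rintro ⟨q, rfl⟩
      exact ⟨q, q.2, rfl⟩
  have memQ' : ∀ c : C, (c : G) ∈ Q0 ↔ c ∈ Q := fun c =>
    ⟨fun h => by
      obtain ⟨q, hq⟩ := memQ.1 h
      exact Subtype.ext hq ▸ q.2,
    fun h => memQ.2 ⟨⟨c, h⟩, rfl⟩⟩
  have B : Base z Q0 C :=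
  { z_mem := memQ.2 ⟨zO, rfl⟩
    z_sq := hz2
    z_ne := hz1
    z_cen := fun c hc => (memC c).1 hc
    Q_le := Subgroup.map_subtype_le _
    conj_mem := by
      intro c hc q hq
      obtain ⟨q, rfl⟩ := memQ.1 hq
      exact memQ.2 ⟨⟨(⟨c, hc⟩ : C) * q * (⟨c, hc⟩ : C)⁻¹, hQn.conj_mem _ q.2 _⟩, rfl⟩
    cardQ := by
      rw [show (32 : ℕ) = Nat.card Q by rw [hcard]; norm_num]
      exact Nat.card_congr (Subgroup.equivMapOfInjective Q C.subtype C.subtype_injective).symm.toEquiv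
    comm := by
      intro a ha b hb
      obtain ⟨a, rfl⟩ := memQ.1 ha
      obtain ⟨b, rfl⟩ := memQ.1 hb
      have hc : a * b * a⁻¹ * b⁻¹ ∈ Subgroup.center Q := by
        rw [← hder, commutator_def]
        exact Subgroup.commutator_mem_commutator (Subgroup.mem_top a) (Subgroup.mem_top b)
      rcases hcases _ hc with h | h
      · left
        rw [mul_inv_eq_one, mul_inv_eq_iff_eq_mul] at h
        exact congrArg (fun t : Q => ((t : C) : G)) h
      · right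
        rw [mul_inv_eq_iff_eq_mul, mul_inv_eq_iff_eq_mul, mul_assoc] at h
        exact congrArg (fun t : Q => ((t : C) : G)) h
    sq := by
      intro a ha
      obtain ⟨a, rfl⟩ := memQ.1 ha
      have hc : a * a ∈ Subgroup.center Q := by
        rw [← hfr, ← pow_two]
        exact (CfsgLib.PSolvable.commutator_le_frattini hp).2 a
      rcases hcases _ hc with h | h
      · exact Or.inl (congrArg (fun t : Q => ((t : C) : G)) h)
      · exact Or.inr (congrArg (fun t : Q => ((t : C) : G)) h)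
    cen := by
      intro a ha hall
      obtain ⟨a, rfl⟩ := memQ.1 ha
      have hc : a ∈ Subgroup.center Q := Subgroup.mem_center_iff.2 fun b =>
        Subtype.ext (Subtype.ext (hall _ (memQ.2 ⟨b, rfl⟩)).symm)
      rcases hcases _ hc with h | h
      · exact Or.inl (congrArg (fun t : Q => ((t : C) : G)) h)
      · exact Or.inr (congrArg (fun t : Q => ((t : C) : G)) h) }
  obtain ⟨o⟩ := omega_equiv_alt5
  let π : C →* alternatingGroup (Fin 5) := (e.trans o).toMonoidHom.comp (QuotientGroup.mk' Q)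
  have hπ : ∀ c : C, π c = 1 ↔ c ∈ Q := fun c => by
    show (e.trans o) (QuotientGroup.mk' Q c) = 1 ↔ _
    rw [MulEquiv.map_eq_one_iff, QuotientGroup.mk'_apply, QuotientGroup.eq_one_iff]
  have hπs : Function.Surjective π := (e.trans o).surjective.comp (QuotientGroup.mk'_surjective Q)
  -- an element of order five
  haveI : Fact (Nat.Prime 5) := ⟨by decide⟩
  obtain ⟨f, hf⟩ := exists_prime_orderOf_dvd_card' (G := C) 5 (by
    refine dvd_trans ?_ (Subgroup.card_dvd_of_surjective π hπs)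
    rw [card_alt5]; norm_num)
  have hf5 : f ^ 5 = 1 := hf ▸ pow_orderOf_eq_one f
  have hQpow : ∀ q ∈ Q, q ^ (4 : ℕ) = 1 := by
    intro q hq
    have h := B.sq q.1 ((memQ' q).2 hq)
    apply Subtype.ext
    show (q : G) ^ 4 = 1
    rw [show (q : G) ^ 4 = (q : G) * q * ((q : G) * q) by
      simp only [pow_succ, pow_zero, one_mul, mul_assoc]]
    rcases h with h | h <;> rw [h] <;> simp [hz2]
  have five_not_Q : ∀ {k : C}, k ^ 5 = 1 → k ∈ Q → k = 1 := by
    intro k h5 hk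
    have h4 := hQpow k hk
    rwa [pow_succ, h4, one_mul] at h5
  have noncent : ∀ {k : C}, k ^ 5 = 1 → k ≠ 1 → ∃ q ∈ Q0, (k : G) * q ≠ q * k := by
    intro k h5 hk1
    by_contra hcon
    push Not at hcon
    refine hk1 (five_not_Q h5 (hCC k fun q hq => Subtype.ext ?_))
    exact (hcon _ ((memQ' q).2 hq)).symm
  have hf1 : f ≠ 1 := fun h => by rw [h, orderOf_one] at hf; omega
  have hf5G : (f : G) ^ 5 = 1 := by rw [← SubgroupClass.coe_pow, hf5]; rfl
  have hX10 : B.X.card = 10 := B.card_X_of_five f.2 hf5G (noncent hf5 hf1)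
  have hQz : (∃ g : G, (∃ hq : g * z * g⁻¹ ∈ C, (⟨g * z * g⁻¹, hq⟩ : C) ∈ Q) ∧ g * z * g⁻¹ ≠ z) →
      ∀ x ∈ Q0, orderOf x = 2 → IsConj x z := by
    intro hnwc
    obtain ⟨g, ⟨hq, hgQ⟩, hgz⟩ := hnwc
    set x0 := g * z * g⁻¹ with hx0
    have hx0z : IsConj x0 z := (isConj_iff.2 ⟨g, rfl⟩).symm
    obtain ⟨hx01, hx02⟩ := orderTwo (order_of_conj hz hx0z.symm)
    have hx0X : x0 ∈ B.X := B.mem_X.2 ⟨(memQ' ⟨x0, hq⟩).2 hgQ, hx02, hx01, hgz⟩
    obtain ⟨q0, hq0, hne⟩ : ∃ q ∈ Q0, x0 * q ≠ q * x0 := by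
      by_contra hcon
      push Not at hcon
      rcases B.cen x0 (B.mem_X.1 hx0X).1 hcon with h | h
      exacts [hx01 h, hgz h]
    have hflip : q0 * x0 * q0⁻¹ = x0 * z := by
      have h := (B.comm x0 (B.mem_X.1 hx0X).1 q0 hq0).resolve_left hne
      rw [mul_inv_eq_iff_eq_mul, mul_assoc x0 z, ← B.mul_z hq0, ← mul_assoc x0, h,
        ← B.mul_z (Q0.mul_mem hq0 (B.mem_X.1 hx0X).1), mul_assoc (q0 * x0) z, hz2, mul_one]
    let v : Fin 5 → G := fun i => (f : G) ^ (i : ℕ) * x0 * ((f : G) ^ (i : ℕ))⁻¹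
    have hvX : ∀ i, v i ∈ B.X := fun i => B.conj_X (C.pow_mem f.2 _) hx0X
    have hfix : ∀ n : ℕ, ¬ 5 ∣ n → (f : G) ^ n * x0 * ((f : G) ^ n)⁻¹ ≠ x0 := by
      intro n hn h
      have h5n : ((f : G) ^ n) ^ 5 = 1 := by rw [← pow_mul, mul_comm, pow_mul, hf5G, one_pow]
      have hne1 : f ^ n ≠ 1 := fun hh => hn (hf ▸ orderOf_dvd_of_pow_eq_one hh)
      rcases B.five_centralizer (C.pow_mem f.2 n) h5n
        (noncent (k := f ^ n) (by rw [← pow_mul, mul_comm, pow_mul, hf5, one_pow]) hne1)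
        (B.mem_X.1 hx0X).1 (mul_inv_eq_iff_eq_mul.1 h) with h' | h'
      exacts [hx01 h', hgz h']
    have hvinj : Function.Injective v := by
      intro i j hij
      by_contra hne'
      refine hfix (5 - (i : ℕ) + j) (by omega) ?_
      have e1 : (f : G) ^ (5 - (i : ℕ) + j) = ((f : G) ^ (i : ℕ))⁻¹ * (f : G) ^ (j : ℕ) := by
        rw [eq_inv_mul_iff_mul_eq, ← pow_add, show (i : ℕ) + (5 - i + j) = 5 + j by omega, pow_add,
          hf5G, one_mul]
      rw [e1, show ((f : G) ^ (i : ℕ))⁻¹ * (f : G) ^ (j : ℕ) * x0 *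
          (((f : G) ^ (i : ℕ))⁻¹ * (f : G) ^ (j : ℕ))⁻¹ = ((f : G) ^ (i : ℕ))⁻¹ * v j * (f : G) ^ (i : ℕ) by
        simp only [v]; group, ← hij]
      simp only [v]; group
    have hvz : ∀ i j, v i ≠ v j * z := by
      intro i j h
      have hzj : ∀ n : ℕ, (f : G) ^ n * (x0 * z) * ((f : G) ^ n)⁻¹ =
          (f : G) ^ n * x0 * ((f : G) ^ n)⁻¹ * z := by
        intro n
        rw [show (f : G) ^ n * (x0 * z) * ((f : G) ^ n)⁻¹ = (f : G) ^ n * x0 * (z * ((f : G) ^ n)⁻¹) by group,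
          ← B.z_cen _ (C.inv_mem (C.pow_mem f.2 n))]
        group
      set m := 5 - (j : ℕ) + i with hm
      have e1 : (f : G) ^ m = ((f : G) ^ (j : ℕ))⁻¹ * (f : G) ^ (i : ℕ) := by
        rw [eq_inv_mul_iff_mul_eq, ← pow_add, show (j : ℕ) + m = 5 + i by omega, pow_add, hf5G, one_mul]
      have hm1 : (f : G) ^ m * x0 * ((f : G) ^ m)⁻¹ = x0 * z := by
        rw [e1, show ((f : G) ^ (j : ℕ))⁻¹ * (f : G) ^ (i : ℕ) * x0 *
          (((f : G) ^ (j : ℕ))⁻¹ * (f : G) ^ (i : ℕ))⁻¹ = ((f : G) ^ (j : ℕ))⁻¹ * v i * (f : G) ^ (j : ℕ) by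
          simp only [v]; group, h]
        simp only [v]
        rw [← hzj]; group
      have h2 : (f : G) ^ (2 * m) * x0 * ((f : G) ^ (2 * m))⁻¹ = x0 := by
        rw [two_mul, pow_add, show (f : G) ^ m * (f : G) ^ m * x0 * ((f : G) ^ m * (f : G) ^ m)⁻¹ =
          (f : G) ^ m * ((f : G) ^ m * x0 * ((f : G) ^ m)⁻¹) * ((f : G) ^ m)⁻¹ by group, hm1, hzj, hm1,
          mul_assoc, hz2, mul_one]
      by_cases hd : 5 ∣ m
      · obtain ⟨c, hc⟩ := hd
        rw [hc, pow_mul, hf5G, one_pow, one_mul, inv_one, mul_one] at hm1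
        exact hz1 (mul_eq_left.1 hm1.symm)
      · exact hfix (2 * m) (by omega) h2
    let O := Finset.univ.image v ∪ Finset.univ.image (fun i => v i * z)
    have hO : O = B.X := by
      refine Finset.eq_of_subset_of_card_le ?_ ?_
      · intro a ha
        simp only [O, Finset.mem_union, Finset.mem_image, Finset.mem_univ, true_and] at ha
        rcases ha with ⟨i, rfl⟩ | ⟨i, rfl⟩
        exacts [hvX i, B.xz_mem (hvX i)]
      · rw [hX10, Finset.card_union_of_disjoint, Finset.card_image_of_injective _ hvinj,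
          Finset.card_image_of_injective _ fun a b h => hvinj (mul_right_cancel h), Finset.card_univ,
          Fintype.card_fin]
        simp only [Finset.disjoint_left, Finset.mem_image, Finset.mem_univ, true_and]
        rintro a ⟨i, rfl⟩ ⟨j, hj⟩
        exact hvz i j hj.symm
    intro x hx hx2
    obtain ⟨hx1, hxx⟩ := orderTwo hx2
    by_cases hxz : x = z
    · rw [hxz]
    have hxX : x ∈ B.X := B.mem_X.2 ⟨hx, hxx, hx1, hxz⟩
    rw [← hO] at hxX
    simp only [O, Finset.mem_union, Finset.mem_image, Finset.mem_univ, true_and] at hxX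
    rcases hxX with ⟨i, rfl⟩ | ⟨i, rfl⟩
    · exact (isConj_iff.2 ⟨(f : G) ^ (i : ℕ), rfl⟩).symm.trans hx0z
    · refine IsConj.trans ?_ hx0z
      refine (isConj_iff.2 ⟨(f : G) ^ (i : ℕ) * q0, ?_⟩).symm
      rw [show (f : G) ^ (i : ℕ) * q0 * x0 * ((f : G) ^ (i : ℕ) * q0)⁻¹ =
        (f : G) ^ (i : ℕ) * (q0 * x0 * q0⁻¹) * ((f : G) ^ (i : ℕ))⁻¹ by group, hflip]
      show _ = (f : G) ^ (i : ℕ) * x0 * ((f : G) ^ (i : ℕ))⁻¹ * z
      rw [show (f : G) ^ (i : ℕ) * (x0 * z) * ((f : G) ^ (i : ℕ))⁻¹ =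
          (f : G) ^ (i : ℕ) * x0 * (z * ((f : G) ^ (i : ℕ))⁻¹) by group,
        ← B.z_cen _ (C.inv_mem (C.pow_mem f.2 _))]
      group
  -- covering
  have hcov : ∀ x : G, orderOf x = 2 → ∃ g : G, g * x * g⁻¹ ∈ C := by
    intro x hx
    let T : Sylow 2 C := default
    refine sylow_cov memC hz1 hz2 T ?_ hx
    intro c hc hcc
    obtain ⟨P, hP⟩ := (hp.to_le le_rfl : IsPGroup 2 Q).exists_le_sylow
    obtain ⟨t, ht⟩ := MulAction.exists_smul_eq C P T
    have hQT : Q ≤ (T : Subgroup C) := by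
      intro q hq
      rw [← ht, Sylow.coe_subgroup_smul]
      exact ⟨t⁻¹ * q * t, hP (by simpa using hQn.conj_mem q hq t⁻¹),
        show t * (t⁻¹ * q * t) * t⁻¹ = q by group⟩
    have hcQ : c ∈ Q := hCC c fun q hq => hcc q (hQT hq)
    refine B.cen c ((memQ' c).2 hcQ) fun b hb => ?_
    obtain ⟨q, rfl⟩ := memQ.1 hb
    exact (congrArg Subtype.val (hcc (q : C) (hQT q.2))).symm
  refine ⟨hcov, hQz, fun y hyC hy2 hyQ => ?_⟩
  obtain ⟨hy1, hyy⟩ := orderTwo hy2
  set a : C := ⟨y, hyC⟩ with ha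
  have haQ : a ∉ Q := fun h => hyQ ((memQ' a).2 h)
  have ha2 : a * a = 1 := Subtype.ext hyy
  have hπa : π a ≠ 1 := fun h => haQ ((hπ a).1 h)
  obtain ⟨bb, hb3, hb1, hab5, habne⟩ := alt5_gen (π a) (by rw [← map_mul, ha2, map_one]) hπa
  obtain ⟨b0, hb0⟩ := hπs bb
  set b : C := b0 ^ 4 with hbdef
  have hbπ : π b = bb := by rw [hbdef, map_pow, hb0, pow_succ, hb3, one_mul]
  have hb3' : b ^ 3 = 1 := by
    rw [hbdef, ← pow_mul, show 4 * 3 = 3 * 4 from rfl, pow_mul]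
    exact hQpow _ ((hπ _).1 (by rw [map_pow, hb0, hb3]))
  obtain ⟨a', ha'2, ha'π, hab'⟩ : ∃ a' : C, a' * a' = 1 ∧ π a' = π a ∧ (a' * b) ^ 5 = 1 := by
    set w := a * b with hw
    have hwQ : w ^ 5 ∈ Q := (hπ _).1 (by rw [map_pow, map_mul, hbπ, hab5])
    set k := w ^ 16 with hk
    have hk5 : k ^ 5 = 1 := by
      rw [hk, ← pow_mul, show 16 * 5 = 5 * 4 * 4 from rfl, pow_mul, pow_mul, hQpow _ hwQ, one_pow]
    have hk1 : k ≠ 1 := by
      intro h
      apply habne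
      have h16 : (π a * bb) ^ 16 = 1 := by rw [← hbπ, ← map_mul, ← map_pow, ← hk, h, map_one]
      rwa [show 16 = 5 * 3 + 1 from rfl, pow_succ, pow_mul, hab5, one_pow, one_mul] at h16
    have hk5G : (k : G) ^ 5 = 1 := by rw [← SubgroupClass.coe_pow, hk5]; rfl
    rcases B.five_centralizer k.2 hk5G (noncent hk5 hk1) ((memQ' _).2 hwQ)
      (congrArg Subtype.val (((Commute.refl w).pow_left 16).pow_right 5)) with h | h
    · exact ⟨a, ha2, rfl, Subtype.ext h⟩
    · refine ⟨a * zC, ?_, ?_, ?_⟩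
      · apply Subtype.ext
        show y * z * (y * z) = 1
        rw [show y * z * (y * z) = y * (z * y) * z by group, ← (memC y).1 hyC,
          show y * (y * z) * z = (y * y) * (z * z) by group, hyy, hz2, one_mul]
      · rw [map_mul, (hπ zC).2 hzQ, mul_one]
      · have hcm : Commute zC (a * b) := Subtype.ext ((memC _).1 (a * b).2).symm
        have hcb : Commute zC b := Subtype.ext ((memC _).1 b.2).symm
        rw [mul_assoc, hcb.eq, ← mul_assoc, hcm.symm.mul_pow, show (a * b) ^ 5 = zC from Subtype.ext h,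
          show zC * zC ^ 5 = (zC * zC) ^ 3 by rw [← pow_two, ← pow_mul, ← pow_succ'],
          show zC * zC = 1 from Subtype.ext hz2, one_pow]
  set K0 : Subgroup C := Subgroup.closure {a', b} with hK0
  have hK60 : Nat.card K0 ≤ 60 := card_closure_235_le ha'2 hb3' hab'
  have htop : K0.map π = ⊤ := by
    apply alt5_eq_top
    have hsub : ∀ x ∈ ({a', b} : Set C), π x ∈ K0.map π := fun x hx => ⟨x, Subgroup.subset_closure hx, rfl⟩
    have ma : π a ∈ K0.map π := ha'π ▸ hsub a' (by simp)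
    have mb : bb ∈ K0.map π := hbπ ▸ hsub b (by simp)
    have d2 : 2 ∣ Nat.card (K0.map π) := by
      rw [← orderOf_eq_prime (show π a ^ 2 = 1 by rw [pow_two, ← map_mul, ha2, map_one]) hπa]
      exact Subgroup.orderOf_dvd_natCard _ ma
    haveI : Fact (Nat.Prime 3) := ⟨Nat.prime_three⟩
    have d3 : 3 ∣ Nat.card (K0.map π) := by
      rw [← orderOf_eq_prime hb3 hb1]
      exact Subgroup.orderOf_dvd_natCard _ mb
    have d5 : 5 ∣ Nat.card (K0.map π) := by
      have := Subgroup.orderOf_dvd_natCard _ (Subgroup.mul_mem _ ma mb)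
      rwa [orderOf_eq_prime hab5 habne] at this
    have hpos : 0 < Nat.card (K0.map π) := Nat.card_pos
    omega
  let φ : K0 →* alternatingGroup (Fin 5) := π.comp K0.subtype
  have hφs : Function.Surjective φ := fun x => by
    obtain ⟨k, hk, e⟩ := htop.ge (Subgroup.mem_top x)
    exact ⟨⟨k, hk⟩, e⟩
  have hφ : Function.Bijective φ := by
    refine hφs.bijective_of_nat_card_le ?_
    rw [card_alt5]; exact hK60
  refine ⟨K0.map C.subtype, ?_⟩
  have memK : ∀ {g : G}, g ∈ K0.map C.subtype ↔ ∃ k : K0, ((k : C) : G) = g :=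
    ⟨fun ⟨c, hc, e⟩ => ⟨⟨c, hc⟩, e⟩, fun ⟨k, e⟩ => ⟨k, k.2, e⟩⟩
  refine ⟨{ toBase := B
            K_le := Subgroup.map_subtype_le _
            equivK := ⟨(Subgroup.equivMapOfInjective K0 C.subtype C.subtype_injective).symm.trans
              (MulEquiv.ofBijective φ hφ)⟩
            inf := ?_, faith := ?_, decomp := ?_ }, memC⟩
  · rw [eq_bot_iff]
    intro g hg
    obtain ⟨k, rfl⟩ := memK.1 hg.1
    have : φ k = 1 := (hπ _).2 ((memQ' _).1 hg.2)
    rw [Subgroup.mem_bot, hφ.1 (this.trans (map_one φ).symm)]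
    rfl
  · intro g hg hall
    obtain ⟨k, rfl⟩ := memK.1 hg
    have hkQ : (k : C) ∈ Q := hCC _ fun q hq => Subtype.ext (hall _ ((memQ' q).2 hq)).symm
    rw [hφ.1 (((hπ _).2 hkQ).trans (map_one φ).symm)]
    rfl
  · intro c hc
    obtain ⟨k, hk⟩ := hφ.2 (π ⟨c, hc⟩)
    refine ⟨c * ((k : C) : G)⁻¹, ?_, (k : C), memK.2 ⟨k, rfl⟩, by group⟩
    refine (memQ' (⟨c, hc⟩ * (k : C)⁻¹)).2 ((hπ _).1 ?_)
    rw [map_mul, map_inv, show π (k : C) = π ⟨c, hc⟩ from hk, mul_inv_cancel]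

theorem exists_hyp_aux (z : G) (hz : orderOf z = 2) (C : Subgroup G) (memC : ∀ g : G, g ∈ C ↔ g * z = z * g)
    (Q : Subgroup C) [hQn : Q.Normal] (hF : Cfsg.generalizedFittingSubgroup C = Q)
    (hQ : Cfsg.IsExtraspecial 2 Q) (hcard : Nat.card Q = 2 ^ 5)
    (e : C ⧸ Q ≃* Cfsg.Omega (ZMod 2) (Cfsg.quadFormMinus 1 (ZMod 2) 1 1)) :
    (∀ x : G, orderOf x = 2 → ∃ g : G, g * x * g⁻¹ ∈ C) ∧
    ((∃ g : G, (∃ hq : g * z * g⁻¹ ∈ C, (⟨g * z * g⁻¹, hq⟩ : C) ∈ Q) ∧ g * z * g⁻¹ ≠ z) →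
      ∀ x ∈ Q.map C.subtype, orderOf x = 2 → IsConj x z) ∧
    ∀ y ∈ C, orderOf y = 2 → y ∉ Q.map C.subtype → ∃ K : Subgroup G, Core z (Q.map C.subtype) K C := by
  refine exists_core_aux z hz C memC Q (fun c hc => ?_) hQ hcard e
  have h1 : c ∈ Subgroup.centralizer (Cfsg.generalizedFittingSubgroup C : Set C) := by
    rw [hF, Subgroup.mem_centralizer_iff]; exact hc
  have := CfsgLib.Layer.centralizer_generalizedFitting_le h1
  rwa [hF] at this

theorem exists_hyp (z : G) (hz : orderOf z = 2) (C : Subgroup G) (memC : ∀ g : G, g ∈ C ↔ g * z = z * g)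
    (Q : Subgroup C) [hQn : Q.Normal] (hF : Cfsg.generalizedFittingSubgroup C = Q)
    (hQ : Cfsg.IsExtraspecial 2 Q) (hcard : Nat.card Q = 2 ^ 5)
    (e : C ⧸ Q ≃* Cfsg.Omega (ZMod 2) (Cfsg.quadFormMinus 1 (ZMod 2) 1 1))
    (hnwc : ∃ g : G, (∃ hq : g * z * g⁻¹ ∈ C, (⟨g * z * g⁻¹, hq⟩ : C) ∈ Q) ∧ g * z * g⁻¹ ≠ z)
    (hcl : ∃ x y : G, orderOf x = 2 ∧ orderOf y = 2 ∧ ¬ IsConj x y) :
    ∃ K : Subgroup G, Hyp z (Q.map C.subtype) K C := by
  haveI := Fintype.ofFinite G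
  obtain ⟨hcov, hQz, hK⟩ := exists_hyp_aux z hz C memC Q hF hQ hcard e
  obtain ⟨a, b, ha, hb, hab⟩ := hcl
  obtain ⟨w, hw, hwz⟩ : ∃ w : G, orderOf w = 2 ∧ ¬ IsConj w z := by
    by_cases h : IsConj a z
    · exact ⟨b, hb, fun h' => hab (h.trans h'.symm)⟩
    · exact ⟨a, ha, h⟩
  obtain ⟨g, hg⟩ := hcov w hw
  have hgw : IsConj w (g * w * g⁻¹) := isConj_iff.2 ⟨g, rfl⟩
  have hout : g * w * g⁻¹ ∉ Q.map C.subtype := fun hQm =>
    hwz (hgw.trans (hQz hnwc _ hQm (order_of_conj hw hgw)))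
  obtain ⟨K, hcore⟩ := hK _ hg (order_of_conj hw hgw) hout
  exact ⟨K, hcore, hQz hnwc, ⟨_, hg, order_of_conj hw hgw, hout, fun h => hwz (hgw.trans h)⟩, hcov⟩

end CfsgLib.J2Type
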