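import Mathlib.GroupTheory.Transfer

/-!
The value of a transfer on an abelian Sylow subgroup, for a homomorphism invariant under the
normaliser.
-/

set_option autoImplicit false

namespace CfsgLib.J2Type

variable {M : Type*} [Group M] [Finite M]

theorem transfer_on_sylow {A : Type*} [CommGroup A] {p : ℕ} [Fact p.Prime] (P : Sylow p M)
    (hab : ∀ a ∈ (P : Subgroup M), ∀ b ∈ (P : Subgroup M), a * b = b * a)
    (φ : (P : Subgroup M) →* A)
    (hinv : ∀ n ∈ Subgroup.normalizer ((P : Subgroup M) : Set M), ∀ a b : (P : Subgroup M),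
      (b : M) = n⁻¹ * a * n → φ b = φ a)
    (a : (P : Subgroup M)) :
    φ.transfer (a : M) = φ a ^ (P : Subgroup M).index := by
  classical
  haveI : IsMulCommutative (P : Subgroup M) := ⟨⟨fun x y => Subtype.ext (hab x x.2 y y.2)⟩⟩
  let := (P : Subgroup M).fintypeQuotientOfFiniteIndex
  rw [MonoidHom.transfer_eq_prod_quotient_orbitRel_zpowers_quot,
    Subgroup.index_eq_sum_minimalPeriod (P : Subgroup M) (a : M), ← Finset.prod_pow_eq_pow_sum]
  refine Finset.prod_congr rfl fun q _ => ?_
  set k := Function.minimalPeriod ((a : M) • ·) q.out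
  set g := q.out.out
  obtain ⟨n, hn, h⟩ := P.conj_eq_normalizer_conj_of_mem ((a : M) ^ k) g
    ((P : Subgroup M).pow_mem a.2 k) (QuotientGroup.out_conj_pow_minimalPeriod_mem (P : Subgroup M) (a : M) q.out)
  rw [← map_pow]
  refine hinv n hn (a ^ k) _ ?_
  show g⁻¹ * (a : M) ^ k * g = _
  rw [h, SubgroupClass.coe_pow]

end CfsgLib.J2Type
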