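import Cfsg.Agent.Lib.J2Type.Four
import Cfsg.Agent.Lib.J2Type.Transfer

/-!
Groups of Hall–Janko type: the centraliser of the second involution.
-/

set_option autoImplicit false

open scoped Classical IsMulCommutative

namespace CfsgLib.J2Type

open CfsgLib.J2Order

variable {G : Type*} [Group G] [Finite G] {z t : G} {Q K C : Subgroup G}

/-- The structure of `C(t)`. -/
structure Cent (z t : G) (Q K C V M0 : Subgroup G) (g : G) : Prop where
  pair : Pair z t Q K C
  V_le : V ≤ Subgroup.centralizer ({t} : Set G)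
  M0_le : M0 ≤ Subgroup.centralizer ({t} : Set G)
  t_mem : t ∈ V
  cardV : Nat.card V = 4
  V_sq : ∀ v ∈ V, v * v = 1
  V_A : ∀ v ∈ V, v ∈ C
  equiv : Nonempty (M0 ≃* alternatingGroup (Fin 5))
  comm : ∀ v ∈ V, ∀ b ∈ M0, v * b = b * v
  inf : V ⊓ M0 = ⊥
  decomp : ∀ m : G, m * t = t * m → ∃ v ∈ V, ∃ b ∈ M0, m = v * b
  z_mem : z ∈ M0
  g_mem : g ∈ M0
  g_three : g ^ 3 = 1
  g_ne : g ≠ 1
  g_z : g * z * g⁻¹ * z = z * (g * z * g⁻¹)

theorem mem_pairsAt [Fintype G] {z t i : G} {p : G × G} :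
    p ∈ pairsAt z t i ↔ IsConj z p.1 ∧ IsConj t p.2 ∧ i ∈ Subgroup.zpowers (p.1 * p.2) := by
  simp [pairsAt]

theorem mem_cls [Fintype G] {z x : G} : x ∈ cls z ↔ IsConj z x := by simp [cls]

namespace Pair

variable (P : Pair z t Q K C)
include P

theorem exists_g : ∃ g : G, g * t = t * g ∧ g ^ 3 = 1 ∧ g ≠ 1 ∧
    g ∈ Subgroup.normalizer ((C ⊓ Subgroup.centralizer ({t} : Set G) : Subgroup G) : Set G) ∧
    g * z * g⁻¹ ≠ z := by
  haveI : Fact (Nat.Prime 3) := ⟨Nat.prime_three⟩
  set N := (Subgroup.centralizer ({t} : Set G) ⊓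
      Subgroup.normalizer ((C ⊓ Subgroup.centralizer ({t} : Set G) : Subgroup G) : Set G) : Subgroup G)
  obtain ⟨⟨g, hgN⟩, hg⟩ := exists_prime_orderOf_dvd_card' (G := N) 3 (by rw [P.card_N]; norm_num)
  rw [Subgroup.orderOf_mk] at hg
  refine ⟨g, P.mem_M.1 hgN.1, hg ▸ pow_orderOf_eq_one g, fun h => by rw [h, orderOf_one] at hg; omega,
    hgN.2, fun h => ?_⟩
  have hgA : g ∈ C ⊓ Subgroup.centralizer ({t} : Set G) :=
    ⟨(P.hyp.mem_C g).2 (mul_inv_eq_iff_eq_mul.1 h), hgN.1⟩
  have := Subgroup.orderOf_dvd_natCard _ hgA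
  rw [P.card_A, hg] at this
  norm_num at this

/-- There is no normal subgroup `A` of `C(t)`: the order formula gives a contradiction. -/
theorem card_M_ne : Nat.card (Subgroup.centralizer ({t} : Set G)) ≠ 48 := by
  intro hM48
  haveI := Fintype.ofFinite G
  set M := Subgroup.centralizer ({t} : Set G) with hM
  set A := C ⊓ M with hA
  have hAM : M ≤ Subgroup.normalizer (A : Set G) := by
    have h := P.card_N
    have : M ⊓ Subgroup.normalizer (A : Set G) = M :=
      Subgroup.eq_of_le_of_card_ge inf_le_left (by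
        show Nat.card M ≤ Nat.card (M ⊓ Subgroup.normalizer (A : Set G) : Subgroup G)
        rw [h, hM48])
    exact this ▸ inf_le_right
  haveI : Fact (Nat.Prime 2) := ⟨Nat.prime_two⟩
  have hinv : ∀ x ∈ M, x * x = 1 → x ∈ A := by
    intro x hx hx2
    by_contra hxA
    let R : Subgroup G :=
    { carrier := {g | g ∈ M ∧ (g ∈ A ∨ x * g ∈ A)}
      one_mem' := ⟨M.one_mem, Or.inl A.one_mem⟩
      mul_mem' := by
        rintro a b ⟨ha, ha'⟩ ⟨hb, hb'⟩
        refine ⟨M.mul_mem ha hb, ?_⟩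
        have key : ∀ c ∈ A, x * c * x⁻¹ ∈ A := fun c hc => (Subgroup.mem_normalizer_iff.1 (hAM hx) c).1 hc
        have hxi : x⁻¹ = x := inv_eq_of_mul_eq_one_right hx2
        rcases ha' with h1 | h1 <;> rcases hb' with h2 | h2
        · exact Or.inl (A.mul_mem h1 h2)
        · right
          have := A.mul_mem (key a h1) h2
          rwa [show x * a * x⁻¹ * (x * b) = x * (a * b) by group] at this
        · right
          rw [← mul_assoc]; exact A.mul_mem h1 h2
        · left
          have := A.mul_mem (key _ h1) h2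
          rwa [show x * (x * a) * x⁻¹ * (x * b) = (x * x) * (a * b) by group, hx2, one_mul] at this
      inv_mem' := by
        rintro a ⟨ha, ha'⟩
        refine ⟨M.inv_mem ha, ?_⟩
        rcases ha' with h | h
        · exact Or.inl (A.inv_mem h)
        · right
          have := (Subgroup.mem_normalizer_iff.1 (hAM hx) _).1 (A.inv_mem h)
          rwa [show x * (x * a)⁻¹ * x⁻¹ = x * a⁻¹ * (x * x)⁻¹ by group, hx2, inv_one, mul_one] at this }
    have hRA : Nat.card R = 32 := by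
      have hAR : A ≤ R := fun a ha => ⟨ha.2, Or.inl ha⟩
      have hxR : x ∈ R := ⟨hx, Or.inr (by rw [hx2]; exact A.one_mem)⟩
      have hsplit : (Finset.univ.filter fun g => g ∈ R) =
          (Finset.univ.filter fun g => g ∈ A) ∪ (Finset.univ.filter fun g => g ∈ A).image (x * ·) := by
        ext g
        simp only [Finset.mem_filter, Finset.mem_univ, true_and, Finset.mem_union, Finset.mem_image]
        refine ⟨fun h => ?_, ?_⟩
        · rcases h.2 with h' | h'
          · exact Or.inl h'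
          · exact Or.inr ⟨x * g, h', by rw [← mul_assoc, hx2, one_mul]⟩
        · rintro (h | ⟨a, ha, rfl⟩)
          · exact hAR h
          · exact R.mul_mem hxR (hAR ha)
      rw [Nat.card_eq_fintype_card, Fintype.card_subtype, hsplit, Finset.card_union_of_disjoint,
        Finset.card_image_of_injective _ (mul_right_injective x), ← Fintype.card_subtype,
        ← Nat.card_eq_fintype_card]
      · show Nat.card A + Nat.card A = 32
        rw [P.card_A]
      simp only [Finset.disjoint_left, Finset.mem_filter, Finset.mem_univ, true_and, Finset.mem_image]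
      rintro g hg ⟨a, ha, rfl⟩
      exact hxA (by simpa using A.mul_mem hg (A.inv_mem ha))
    have : Nat.card R ∣ Nat.card M := Subgroup.card_dvd_of_le fun g hg => hg.1
    rw [hRA, hM48] at this
    norm_num at this
  -- the pairs at `t`
  have ht3 : (pairsAt z t t).card = 3 := by
    set O : Finset G := (Finset.univ.filter fun x => x ∈ Q ⊓ M).erase 1 with hO
    have hO3 : O.card = 3 := by
      rw [hO, Finset.card_erase_of_mem (by simp), ← Fintype.card_subtype, ← Nat.card_eq_fintype_card]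
      show Nat.card (Q ⊓ M : Subgroup G) - 1 = 3
      rw [P.card_W]
    rw [← hO3]
    refine Finset.card_bij (fun p _ => p.1) ?_ ?_ ?_
    · intro p hp
      obtain ⟨h1, h2, h3⟩ := mem_pairsAt.1 hp
      obtain ⟨hx1, hx2⟩ := orderTwo (order_of_conj P.hyp.orderOf_z h1)
      obtain ⟨hy1, hy2⟩ := orderTwo (order_of_conj P.orderOf_t h2)
      obtain ⟨hxM, -⟩ := mem_cent_of_zpowers hx2 hy2 P.t_sq h3
      have hxA := hinv p.1 (P.mem_M.2 hxM) hx2
      obtain ⟨hq, hne⟩ := P.A_z_type hxA.1 hxM h1.symm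
      exact Finset.mem_erase.2 ⟨hne, Finset.mem_filter.2 ⟨Finset.mem_univ _, hq, hxA.2⟩⟩
    · intro p hp r hr he
      have key : ∀ p : G × G, p ∈ pairsAt z t t → p.2 = p.1 * t := by
        intro p hp
        obtain ⟨h1, h2, h3⟩ := mem_pairsAt.1 hp
        obtain ⟨hx1, hx2⟩ := orderTwo (order_of_conj P.hyp.orderOf_z h1)
        obtain ⟨hy1, hy2⟩ := orderTwo (order_of_conj P.orderOf_t h2)
        obtain ⟨hxM, hyM⟩ := mem_cent_of_zpowers hx2 hy2 P.t_sq h3
        have hxA := hinv p.1 (P.mem_M.2 hxM) hx2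
        have hyA := hinv p.2 (P.mem_M.2 hyM) hy2
        have hsq := P.A_sq (a := p.1 * p.2) (C.mul_mem hxA.1 hyA.1) (P.mem_M.1 (M.mul_mem hxA.2 hyA.2))
        obtain ⟨k, hk⟩ := Subgroup.mem_zpowers_iff.1 h3
        rcases Int.even_or_odd k with ⟨m, rfl⟩ | ⟨m, rfl⟩
        · rw [← two_mul, zpow_mul, zpow_ofNat, pow_two, hsq, one_zpow] at hk
          exact absurd hk.symm P.t_ne
        · rw [zpow_add, zpow_mul, zpow_ofNat, pow_two, hsq, one_zpow, one_mul, zpow_one] at hk
          rw [← hk, ← mul_assoc, hx2, one_mul]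
      exact Prod.ext he (by rw [key p hp, key r hr, show p.1 = r.1 from he])
    · intro x hx
      obtain ⟨hx1, hxW⟩ := Finset.mem_erase.1 hx
      obtain ⟨hxQ, hxM⟩ := (Finset.mem_filter.1 hxW).2
      have hxC := P.S.Q_le hxQ
      have hxtA : x * t * t = t * (x * t) := by
        rw [← mul_assoc t, ← P.mem_M.1 hxM]
      refine ⟨(x, x * t), mem_pairsAt.2
        ⟨(P.W_conj hxQ (P.mem_M.1 hxM) hx1).symm, ?_, ?_⟩, rfl⟩
      · refine (P.A_notQ (C.mul_mem hxC P.t_memC) hxtA fun h => ?_).symm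
        exact P.hyp.notQ_of_K P.t_mem P.t_ne (by simpa using Q.mul_mem (Q.inv_mem hxQ) h)
      · rw [← mul_assoc, P.W_sq hxQ (P.mem_M.1 hxM), one_mul]
        exact Subgroup.mem_zpowers t
  have hz960 := P.S.card_pairs_z P.hyp.mem_C P.hyp.orderOf_z P.orderOf_t P.not_conj P.hyp.Qz P.Cz
  have hG := order_formula z t P.hyp.orderOf_z P.orderOf_t P.not_conj P.classes
  have hCz : Nat.card (Subgroup.centralizer ({z} : Set G)) = 1920 := by
    rw [← P.hyp.card_C]
    exact Nat.card_congr (Equiv.subtypeEquivRight fun g => by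
      rw [P.hyp.mem_C, Subgroup.mem_centralizer_singleton_iff])
  rw [hz960, ht3, hCz] at hG
  change Nat.card M = 48 at hM48
  rw [hM48] at hG
  have hc := card_cls z
  rw [hG, hCz] at hc
  -- the conjugates of `z` outside `C`
  set X := P.S.toBase.X
  set U : Finset G := (cls z).filter fun x => x ∉ C with hU
  have hin : (cls z).filter (fun x => x ∈ C) = insert z X := by
    ext x
    simp only [Finset.mem_filter, cls, Finset.mem_univ, true_and, Finset.mem_insert]
    constructor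
    · rintro ⟨hx, hxC⟩
      obtain ⟨hx1, hx2⟩ := orderTwo (order_of_conj P.hyp.orderOf_z hx)
      by_cases hxz : x = z
      · exact Or.inl hxz
      refine Or.inr (P.S.toBase.mem_X.2 ⟨?_, hx2, hx1, hxz⟩)
      by_contra hq
      exact P.not_conj (hx.trans (P.Cz x hxC (order_of_conj P.hyp.orderOf_z hx) hq))
    · rintro (rfl | hx)
      · exact ⟨IsConj.refl _, (P.hyp.mem_C _).2 rfl⟩
      · obtain ⟨hq, hx2, hx1, -⟩ := P.S.toBase.mem_X.1 hx
        exact ⟨(P.hyp.Qz x hq (orderTwo_of hx1 hx2)).symm, P.S.Q_le hq⟩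
  have hU16 : U.card = 16 := by
    have h := Finset.card_filter_add_card_filter_not (s := cls z) (fun x => x ∈ C)
    rw [hin, Finset.card_insert_of_notMem (by simp [X, P.S.toBase.mem_X]), P.S.card_X, ← hU] at h
    omega
  obtain ⟨f, hf, hf5, hf1⟩ := P.S.exists_five
  have hfC := P.S.K_le hf
  have hconjU : ∀ c ∈ C, ∀ x ∈ U, c * x * c⁻¹ ∈ U := by
    intro c hc x hx
    rw [hU, Finset.mem_filter] at hx ⊢
    refine ⟨?_, fun h => hx.2 ?_⟩
    · exact mem_cls.2 ((mem_cls.1 hx.1).trans (isConj_iff.2 ⟨c, rfl⟩))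
    · have := C.mul_mem (C.mul_mem (C.inv_mem hc) h) hc
      rwa [show c⁻¹ * (c * x * c⁻¹) * c = x by group] at this
  let π : Equiv.Perm U :=
  { toFun := fun a => ⟨f * a * f⁻¹, hconjU f hfC a a.2⟩
    invFun := fun a => ⟨f⁻¹ * a * f, by simpa using hconjU f⁻¹ (C.inv_mem hfC) a a.2⟩
    left_inv := fun a => Subtype.ext (by show f⁻¹ * (f * a * f⁻¹) * f = (a : G); group)
    right_inv := fun a => Subtype.ext (by show f * (f⁻¹ * a * f) * f⁻¹ = (a : G); group) }
  have hπ : ∀ (n : ℕ) (a : U), (((π ^ n) a : U) : G) = f ^ n * a * (f ^ n)⁻¹ := by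
    intro n
    induction n with
    | zero => intro a; simp
    | succ n ih =>
      intro a
      rw [pow_succ', Equiv.Perm.mul_apply]
      show f * (((π ^ n) a : U) : G) * f⁻¹ = _
      rw [ih, pow_succ']
      group
  have hmod := Base.fixed_count π (Equiv.ext fun a => Subtype.ext (by rw [hπ, hf5]; simp))
  rw [Nat.card_eq_fintype_card, Fintype.card_coe, hU16] at hmod
  obtain ⟨⟨⟨x, hx⟩, hxf⟩⟩ : Nonempty {a : U // π a = a} := by
    by_contra h
    rw [not_nonempty_iff] at h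
    rw [Nat.card_of_isEmpty] at hmod
    exact absurd hmod (by decide)
  have hfx : f * x = x * f := mul_inv_eq_iff_eq_mul.1 (congrArg Subtype.val hxf)
  obtain ⟨q1, hq1, q2, hq2, hne, heq⟩ := Finset.exists_ne_map_eq_of_card_lt_of_maps_to
    (s := P.S.QF) (t := U) (f := fun q => q * x * q⁻¹) (by rw [hU16, P.S.card_QF]; norm_num)
    (fun q hq => hconjU q (P.S.Q_le (P.S.mem_QF.1 hq)) x hx)
  rw [P.S.mem_QF] at hq1 hq2
  set q := q2⁻¹ * q1
  have hqQ : q ∈ Q := Q.mul_mem (Q.inv_mem hq2) hq1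
  have hq1' : q ≠ 1 := fun h => hne (inv_mul_eq_one.1 h).symm
  have hqx : q * x = x * q := by
    calc q * x = q2⁻¹ * (q1 * x * q1⁻¹) * q1 := by simp only [q]; group
      _ = x * q := by rw [heq]; simp only [q]; group
  have hzx : ¬ Commute z x := fun h => (Finset.mem_filter.1 hx).2 ((P.hyp.mem_C x).2 h.eq.symm)
  have hq2' : q * q = 1 := by
    rcases P.S.sq q hqQ with h | h
    · exact h
    · exact absurd (h ▸ (Commute.mul_left (show Commute q x from hqx) hqx)) hzx
  have hqz : q ≠ z := fun h => hzx (h ▸ hqx)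
  have hqX : q ∈ X := P.S.toBase.mem_X.2 ⟨hqQ, hq2', hq1', hqz⟩
  set r := f * q * f⁻¹ with hr
  have hrX : r ∈ X := P.S.toBase.conj_X hfC hqX
  have hrx : Commute r x := by
    have h : Commute r (f * x * f⁻¹) := (Commute.conj_iff f).2 hqx
    rwa [hfx, mul_inv_cancel_right] at h
  have hpr : P.S.pr r ≠ P.S.pr q := by
    intro h
    rcases P.S.mem_pr.1 (h ▸ Finset.mem_insert_self _ _ : r ∈ P.S.pr q) with e | e
    · rcases P.S.five_centralizer hf hf5 hf1 hqQ (mul_inv_eq_iff_eq_mul.1 e) with h' | h'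
      exacts [hq1' h', hqz h']
    · apply hzx
      have : z = q * r := by rw [e, ← mul_assoc, hq2', one_mul]
      exact this ▸ Commute.mul_left hqx hrx
  have hanti := P.S.anti_of_ne hrX hqX hpr
  apply hzx
  have : z = r * q * (r * q) := by
    obtain ⟨hrQ, hr2, -, -⟩ := P.S.toBase.mem_X.1 hrX
    have e : q * r = z * (r * q) := P.S.anti_symm hqQ hanti hrQ
    rw [show r * q * (r * q) = r * (q * r) * q by group, e, ← mul_assoc r z, P.S.mul_z hrQ,
      show z * r * (r * q) * q = z * (r * r) * (q * q) by group, hr2, hq2', mul_one, mul_one]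
  rw [this]
  exact (hrx.mul_left hqx).mul_left (hrx.mul_left hqx)

set_option maxHeartbeats 1600000 in
theorem exists_cent : ∃ (V M0 : Subgroup G) (g : G), Cent z t Q K C V M0 g := by
  haveI : Fact (Nat.Prime 2) := ⟨Nat.prime_two⟩
  obtain ⟨g, hgt, hg3, hg1, hgN, hgz⟩ := P.exists_g
  set M := Subgroup.centralizer ({t} : Set G) with hM
  set A := C ⊓ M with hA
  set W := Q ⊓ M with hW
  have hgM : g ∈ M := P.mem_M.2 hgt
  have hgA : ∀ a ∈ A, g * a * g⁻¹ ∈ A := fun a ha => (Subgroup.mem_normalizer_iff.1 hgN a).1 ha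
  have hWA : W ≤ A := fun w hw => ⟨P.S.Q_le hw.1, hw.2⟩
  have htA : t ∈ A := ⟨P.t_memC, P.mem_M.2 rfl⟩
  have htW : t ∉ W := fun h => P.hyp.notQ_of_K P.t_mem P.t_ne h.1
  have hgW : ∀ w ∈ W, g * w * g⁻¹ ∈ W := by
    intro w hw
    by_cases h1 : w = 1
    · rw [h1, mul_one, mul_inv_cancel]; exact W.one_mem
    have hm := hgA w (hWA hw)
    exact ⟨(P.A_z_type hm.1 (P.mem_M.1 hm.2)
      ((isConj_iff.2 ⟨g, rfl⟩).symm.trans (P.W_conj hw.1 (P.mem_M.1 hw.2) h1))).1, hm.2⟩
  have hAc : ∀ a ∈ A, ∀ b ∈ A, a * b = b * a := fun a ha b hb =>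
    P.A_comm ha.1 (P.mem_M.1 ha.2) hb.1 (P.mem_M.1 hb.2)
  have hA2 : ∀ a ∈ A, a * a = 1 := fun a ha => P.A_sq ha.1 (P.mem_M.1 ha.2)
  haveI : IsMulCommutative A := ⟨⟨fun a b => Subtype.ext (hAc a a.2 b b.2)⟩⟩
  let γ : A →* A :=
  { toFun := fun a => ⟨g * a * g⁻¹, hgA a a.2⟩
    map_one' := Subtype.ext (by simp)
    map_mul' := fun a b => Subtype.ext (by show g * ((a : G) * b) * g⁻¹ = _; simp [mul_assoc]) }
  have hγ3 : ∀ a : A, γ (γ (γ a)) = a := fun a => Subtype.ext (by
    show g * (g * (g * a * g⁻¹) * g⁻¹) * g⁻¹ = (a : G)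
    rw [show g * (g * (g * (a : G) * g⁻¹) * g⁻¹) * g⁻¹ = g ^ 3 * a * (g ^ 3)⁻¹ by
      simp only [pow_succ, pow_zero, one_mul]; group, hg3]
    group)
  let φ : A →* A :=
  { toFun := fun a => a * γ a * γ (γ a)
    map_one' := by simp
    map_mul' := fun a b => by
      simp only [map_mul]
      exact Subtype.ext (by
        have e : ∀ a b c d e f : A, a * b * (c * d) * (e * f) = a * c * e * (b * d * f) := by
          intro a b c d e f; simp [mul_assoc, mul_comm, mul_left_comm]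
        exact congrArg Subtype.val (e a b (γ a) (γ b) (γ (γ a)) (γ (γ b)))) }
  have hφγ : ∀ a, φ (γ a) = φ a := fun a => by
    show γ a * γ (γ a) * γ (γ (γ a)) = a * γ a * γ (γ a)
    rw [hγ3, mul_comm (γ a * γ (γ a)) a, mul_assoc]
  have hA2' : ∀ a : A, a * a = 1 := fun a => Subtype.ext (hA2 a a.2)
  -- `g` fixes `A / W` pointwise
  have hcoset : ∀ a ∈ A, a * (g * a * g⁻¹) ∈ W := by
    intro a ha
    have hgtt : g * t * g⁻¹ = t := mul_inv_eq_iff_eq_mul.2 hgt
    -- the four cosets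
    have hquot : ∀ a ∈ A, ∀ b ∈ A, a ∉ W → b ∉ W → a * t ∉ W → b * t ∉ W → a * b ∉ W →
        a * b * t ∈ W := by
      intro a ha b hb h1 h2 h3 h4 h5
      obtain ⟨q, k, hq, hqt, hk, hkt, rfl⟩ := P.A_decomp ha.1 (P.mem_M.1 ha.2)
      obtain ⟨r, l, hr, hrt, hl, hlt, rfl⟩ := P.A_decomp hb.1 (P.mem_M.1 hb.2)
      have hqW : q ∈ W := ⟨hq, P.mem_M.2 hqt⟩
      have hrW : r ∈ W := ⟨hr, P.mem_M.2 hrt⟩
      let D := K ⊓ M
      have : Fintype G := Fintype.ofFinite G
      have hD : (Finset.univ.filter fun x => x ∈ D).card = 4 := by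
        rw [← Fintype.card_subtype, ← Nat.card_eq_fintype_card]; exact P.card_cent_K
      have hkD : k ∈ D := ⟨hk, P.mem_M.2 hkt⟩
      have hlD : l ∈ D := ⟨hl, P.mem_M.2 hlt⟩
      have htD : t ∈ D := ⟨P.t_mem, P.mem_M.2 rfl⟩
      have hkl : (q * k) * (r * l) = (q * r) * (k * l) := by
        rw [show q * k * (r * l) = q * (k * r) * l by group, ← P.W_K_comm hr hrt hk hkt]; group
      have hk2 := (P.cent_K hk hkt).1
      have hl2 := (P.cent_K hl hlt).1
      have hk1 : k ≠ 1 := fun h => h1 (by rw [h, mul_one]; exact hqW)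
      have hl1 : l ≠ 1 := fun h => h2 (by rw [h, mul_one]; exact hrW)
      have hkt' : k ≠ t := fun h => h3 (by
        rw [h, mul_assoc, P.t_sq, mul_one]; exact hqW)
      have hlt' : l ≠ t := fun h => h4 (by
        rw [h, mul_assoc, P.t_sq, mul_one]; exact hrW)
      have hklne : k ≠ l := fun h => h5 (by
        rw [hkl, h, hl2, mul_one]; exact W.mul_mem hqW hrW)
      have hset : ({1, t, k, l} : Finset G) = Finset.univ.filter fun x => x ∈ D := by
        refine Finset.eq_of_subset_of_card_le ?_ ?_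
        · intro x hx
          simp only [Finset.mem_insert, Finset.mem_singleton] at hx
          rcases hx with rfl | rfl | rfl | rfl <;>
            exact Finset.mem_filter.2 ⟨Finset.mem_univ _, by first | exact D.one_mem | assumption⟩
        · rw [hD, Finset.card_insert_of_notMem (by simp [P.t_ne.symm, hk1.symm, hl1.symm]),
            Finset.card_insert_of_notMem (by simp [hkt'.symm, hlt'.symm]), Finset.card_pair hklne]
      have hklD : k * l ∈ ({1, t, k, l} : Finset G) := by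
        rw [hset]; exact Finset.mem_filter.2 ⟨Finset.mem_univ _, D.mul_mem hkD hlD⟩
      simp only [Finset.mem_insert, Finset.mem_singleton] at hklD
      have hklt : k * l = t := by
        rcases hklD with h | h | h | h
        · exact absurd ((eq_inv_of_mul_eq_one_left h).trans (inv_eq_of_mul_eq_one_right hl2)) hklne
        · exact h
        · exact absurd (mul_eq_left.1 h) hl1
        · exact absurd (mul_eq_right.1 h) hk1
      rw [hkl, hklt, mul_assoc, P.t_sq, mul_one]
      exact W.mul_mem hqW hrW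
    by_cases h1 : a ∈ W
    · exact W.mul_mem h1 (hgW a h1)
    by_cases h3 : a * t ∈ W
    · have h := W.mul_mem h3 (hgW _ h3)
      have e : a * t * (g * (a * t) * g⁻¹) = a * (g * a * g⁻¹) := by
        rw [show g * (a * t) * g⁻¹ = g * a * g⁻¹ * (g * t * g⁻¹) by group, hgtt,
          hAc _ (hgA a ha) t htA, ← mul_assoc, mul_assoc a t t, P.t_sq, mul_one]
      rwa [e] at h
    by_contra h5
    have hb := hgA a ha
    have hb1 : g * a * g⁻¹ ∉ W := fun h => h1 (by
      have := hgW _ (hgW _ h)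
      rwa [show g * (g * (g * a * g⁻¹) * g⁻¹) * g⁻¹ = g ^ 3 * a * (g ^ 3)⁻¹ by
        simp only [pow_succ, pow_zero, one_mul]; group, hg3, one_mul, inv_one, mul_one] at this)
    have hb3 : g * a * g⁻¹ * t ∉ W := fun h => h3 (by
      have := hgW _ (hgW _ h)
      rwa [show g * (g * (g * a * g⁻¹ * t) * g⁻¹) * g⁻¹ =
          g ^ 3 * a * (g ^ 3)⁻¹ * (g * (g * t * g⁻¹) * g⁻¹) by
        simp only [pow_succ, pow_zero, one_mul]; group, hgtt, hgtt, hg3, one_mul, inv_one, mul_one] at this)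
    have hab := hquot a ha _ hb h1 hb1 h3 hb3 h5
    -- iterate three times
    set b := g * a * g⁻¹ with hbdef
    set c := g * b * g⁻¹ with hcdef
    have hbc : b * c * t ∈ W := by
      have := hgW _ hab
      rwa [show g * (a * b * t) * g⁻¹ = b * c * (g * t * g⁻¹) by rw [hcdef, hbdef]; group, hgtt] at this
    have hgc : g * c * g⁻¹ = a := by
      rw [hcdef, hbdef, show g * (g * (g * a * g⁻¹) * g⁻¹) * g⁻¹ = g ^ 3 * a * (g ^ 3)⁻¹ by
        simp only [pow_succ, pow_zero, one_mul]; group, hg3]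
      group
    have hca : c * a * t ∈ W := by
      have := hgW _ hbc
      rwa [show g * (b * c * t) * g⁻¹ = c * (g * c * g⁻¹) * (g * t * g⁻¹) by rw [hcdef]; group, hgc, hgtt] at this
    have hc : c ∈ A := hgA b hb
    have := W.mul_mem (W.mul_mem hab hbc) hca
    apply htW
    have e : a * b * t * (b * c * t) * (c * a * t) = t := by
      have key : ∀ u v w r : A, u * v * r * (v * w * r) * (w * u * r) =
          (u * u) * (v * v) * (w * w) * (r * r) * r := fun u v w r => by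
        simp [mul_assoc, mul_comm, mul_left_comm]
      have h := key ⟨a, ha⟩ ⟨b, hb⟩ ⟨c, hc⟩ ⟨t, htA⟩
      simp only [hA2', one_mul] at h
      exact congrArg Subtype.val h
    rwa [e] at this
  -- `A` is a Sylow subgroup of `M`
  set A' : Subgroup M := A.subgroupOf M with hA'
  have hA'p : IsPGroup 2 A' := IsPGroup.of_card (n := 4) (by
    rw [Nat.card_congr (Subgroup.subgroupOfEquivOfLe inf_le_right).toEquiv, P.card_A]; norm_num)
  obtain ⟨T, hT⟩ := hA'p.exists_le_sylow
  have hTA : (T : Subgroup M) = A' := by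
    refine le_antisymm ?_ hT
    by_contra hne
    have hlt : A'.subgroupOf T < ⊤ := lt_of_le_of_ne le_top fun e => hne (Subgroup.subgroupOf_eq_top.1 e)
    haveI := T.2.isNilpotent
    have hlt2 := (Group.normalizerCondition_of_isNilpotent (G := (T : Subgroup M))) _ hlt
    set R := (Subgroup.normalizer ((A'.subgroupOf T : Subgroup (T : Subgroup M)) : Set (T : Subgroup M))).map
      ((M.subtype).comp (T : Subgroup M).subtype)
    have hinj : Function.Injective ((M.subtype).comp (T : Subgroup M).subtype) :=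
      M.subtype_injective.comp (T : Subgroup M).subtype_injective
    have hRN : R ≤ M ⊓ Subgroup.normalizer (A : Set G) := by
      rintro _ ⟨s, hs, rfl⟩
      refine ⟨(s : M).2, Subgroup.mem_normalizer_iff.2 fun a => ?_⟩
      have h := Subgroup.mem_normalizer_iff.1 hs
      constructor
      · intro ha
        exact (h ⟨⟨a, ha.2⟩, hT ha⟩).1 ha
      · intro ha
        have haM : a ∈ M := by
          have := M.mul_mem (M.mul_mem (M.inv_mem (s : M).2) ha.2) (s : M).2
          simpa [mul_assoc] using this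
        have haT : (⟨a, haM⟩ : M) ∈ (T : Subgroup M) := by
          have hsT : (s : M) * ⟨a, haM⟩ * (s : M)⁻¹ ∈ (T : Subgroup M) := hT ha
          have := (T : Subgroup M).mul_mem ((T : Subgroup M).mul_mem ((T : Subgroup M).inv_mem s.2) hsT) s.2
          simpa [mul_assoc] using this
        exact (h ⟨⟨a, haM⟩, haT⟩).2 ha
    have hR : IsPGroup 2 R := IsPGroup.map (T.2.to_subgroup _) _
    obtain ⟨n, hn⟩ := IsPGroup.iff_card.1 hR
    have h48 := Subgroup.card_dvd_of_le hRN
    rw [P.card_N, hn] at h48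
    have h16 : 16 < Nat.card R := by
      have hc : Nat.card (A'.subgroupOf T) <
          Nat.card (Subgroup.normalizer ((A'.subgroupOf T : Subgroup (T : Subgroup M)) : Set (T : Subgroup M))) := by
        exact Set.ncard_lt_ncard hlt2 (Set.toFinite _)
      rw [Nat.card_congr (Subgroup.subgroupOfEquivOfLe hT).toEquiv,
        Nat.card_congr (Subgroup.subgroupOfEquivOfLe inf_le_right).toEquiv, P.card_A] at hc
      rw [Nat.card_congr (Subgroup.equivMapOfInjective _ _ hinj).symm.toEquiv]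
      exact hc
    rw [hn] at h16
    have hn5 : 5 ≤ n := by
      by_contra hc
      have : 2 ^ n ≤ 2 ^ 4 := Nat.pow_le_pow_right (by norm_num) (by omega)
      omega
    exact absurd ((Nat.pow_dvd_pow 2 hn5).trans h48) (by norm_num)
  let ι : (T : Subgroup M) →* A :=
  { toFun := fun a => ⟨(a : M), (SetLike.ext_iff.1 hTA (a : M)).1 a.2⟩
    map_one' := rfl
    map_mul' := fun a b => rfl }
  let ψ : (T : Subgroup M) →* φ.range := φ.rangeRestrict.comp ι
  have hinv : ∀ n ∈ Subgroup.normalizer ((T : Subgroup M) : Set M), ∀ a b : (T : Subgroup M),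
      (b : M) = n⁻¹ * a * n → ψ b = ψ a := by
    intro n hn a b hb
    rw [hTA] at hn
    -- `n` is `A` times a power of `g`
    have hnN : (n : G) ∈ M ⊓ Subgroup.normalizer (A : Set G) := by
      refine ⟨n.2, Subgroup.mem_normalizer_iff.2 fun c => ⟨fun hc => ?_, fun hc => ?_⟩⟩
      · exact (Subgroup.mem_normalizer_iff.1 hn ⟨c, hc.2⟩).1 hc
      · have hcM : c ∈ M := by
          have := M.mul_mem (M.mul_mem (M.inv_mem n.2) hc.2) n.2
          simpa [mul_assoc] using this
        exact (Subgroup.mem_normalizer_iff.1 hn ⟨c, hcM⟩).2 hc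
    obtain ⟨i, c, hc, hnc⟩ : ∃ i : ℕ, ∃ c ∈ A, (n : G) = c * g ^ i := by
      have : Fintype G := Fintype.ofFinite G
      set N := M ⊓ Subgroup.normalizer (A : Set G)
      let F : Fin 3 × A → N := fun p => ⟨(p.2 : G) * g ^ (p.1 : ℕ),
        N.mul_mem ⟨p.2.2.2, Subgroup.le_normalizer p.2.2⟩ (N.pow_mem ⟨hgM, hgN⟩ _)⟩
      have hF : Function.Bijective F := by
        rw [Nat.bijective_iff_injective_and_card]
        refine ⟨fun p r h => ?_, by rw [Nat.card_prod, Nat.card_fin, P.card_A, P.card_N]⟩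
        have h' : (p.2 : G) * g ^ (p.1 : ℕ) = r.2 * g ^ (r.1 : ℕ) := congrArg Subtype.val h
        have hij : p.1 = r.1 := by
          by_contra hne
          have hgA' : g ^ (p.1 : ℕ) * (g ^ (r.1 : ℕ))⁻¹ ∈ A := by
            rw [show g ^ (p.1 : ℕ) * (g ^ (r.1 : ℕ))⁻¹ = (p.2 : G)⁻¹ * r.2 by
              rw [eq_inv_mul_iff_mul_eq, ← mul_assoc, h', mul_inv_cancel_right]]
            exact A.mul_mem (A.inv_mem p.2.2) r.2.2
          have h3 : (g ^ (p.1 : ℕ) * (g ^ (r.1 : ℕ))⁻¹) ^ 3 = 1 := by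
            rw [((Commute.pow_pow_self g _ _).inv_right).mul_pow, inv_pow, ← pow_mul, ← pow_mul, mul_comm (p.1 : ℕ),
              mul_comm (r.1 : ℕ), pow_mul, pow_mul, hg3, one_pow, one_pow, inv_one, mul_one]
          have h2 := hA2 _ hgA'
          have h1 : g ^ (p.1 : ℕ) * (g ^ (r.1 : ℕ))⁻¹ = 1 := by
            rwa [pow_succ, pow_two, h2, one_mul] at h3
          have hord : orderOf g = 3 := by
            haveI : Fact (Nat.Prime 3) := ⟨Nat.prime_three⟩
            exact orderOf_eq_prime hg3 hg1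
          exact hne (Fin.ext (pow_injOn_Iio_orderOf (by rw [hord]; exact p.1.2) (by rw [hord]; exact r.1.2)
            (mul_inv_eq_one.1 h1)))
        rw [hij] at h'
        exact Prod.ext hij (Subtype.ext (mul_right_cancel h'))
      obtain ⟨⟨i, c⟩, h⟩ := hF.2 ⟨(n : G), hnN⟩
      exact ⟨i, c, c.2, (congrArg Subtype.val h).symm⟩
    have key : ∀ (j : ℕ) (x y : A), (y : G) = g ^ j * x * (g ^ j)⁻¹ → φ y = φ x := by
      intro j
      induction j with
      | zero => intro x y h; rw [show y = x from Subtype.ext (by simpa using h)]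
      | succ j ih =>
        intro x y h
        rw [show y = γ ⟨g ^ j * x * (g ^ j)⁻¹, ?_⟩ from Subtype.ext (by
          rw [h, pow_succ']; show _ = g * (g ^ j * (x : G) * (g ^ j)⁻¹) * g⁻¹; group), hφγ]
        · exact ih x _ rfl
        · exact (Subgroup.mem_normalizer_iff.1 (Subgroup.pow_mem _ hgN j) x).1 x.2
    refine Subtype.ext ?_
    show φ (ι b) = φ (ι a)
    have hba : ((ι b : A) : G) = g⁻¹ ^ i * (ι a : A) * g ^ i := by
      show ((b : M) : G) = g⁻¹ ^ i * ((a : M) : G) * g ^ i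
      rw [hb]
      show (n : G)⁻¹ * ((a : M) : G) * n = _
      rw [hnc, show (c * g ^ i)⁻¹ * ((a : M) : G) * (c * g ^ i) =
        (g ^ i)⁻¹ * (c⁻¹ * (((a : M) : G) * c)) * g ^ i by group,
        hAc ((a : M) : G) (ι a).2 c hc, inv_mul_cancel_left,
        inv_pow]
    refine (key i (ι b) (ι a) ?_).symm
    rw [hba, inv_pow]; group
  have hidx : Odd ((T : Subgroup M).index) := Nat.not_even_iff_odd.1 fun h => T.not_dvd_index h.two_dvd
  obtain ⟨τ, hval⟩ : ∃ τ : M →* φ.range, ∀ a : (T : Subgroup M), τ a = ψ a := by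
    refine ⟨ψ.transfer, ?_⟩
    intro a
    show ψ.transfer (a : M) = ψ a
    rw [transfer_on_sylow T ?_ ψ hinv]
    · obtain ⟨m, hm⟩ := hidx
      rw [hm, pow_succ, pow_mul, pow_two, show ψ a * ψ a = 1 from Subtype.ext (hA2' _), one_pow, one_mul]
    · intro x hx y hy
      exact Subtype.ext (hAc _ ((SetLike.ext_iff.1 hTA x).1 hx) _ ((SetLike.ext_iff.1 hTA y).1 hy))
  -- `V`
  set V : Subgroup G := φ.range.map A.subtype with hV
  have hφW : ∀ a : A, φ a = 1 ↔ (a : G) ∈ W := by
    have hWφ : ∀ a : A, (a : G) ∈ W → φ a = 1 := by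
      intro a ha
      by_cases h1 : a = 1
      · rw [h1, map_one]
      -- the three involutions of `W`
      have : Fintype G := Fintype.ofFinite G
      have ha1 : (a : G) ≠ 1 := fun h => h1 (Subtype.ext h)
      have h2 : g * a * g⁻¹ ≠ a := by
        intro h
        apply hgz
        have hgA' : g ∈ Subgroup.centralizer ({(a : G)} : Set G) ⊓ M :=
          ⟨Subgroup.mem_centralizer_singleton_iff.2 (mul_inv_eq_iff_eq_mul.1 h), hgM⟩
        rw [P.cent_W ha.1 (P.mem_M.1 ha.2) ha1] at hgA'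
        rw [mul_inv_eq_iff_eq_mul]
        exact (P.hyp.mem_C g).1 hgA'.1
      set b := g * (a : G) * g⁻¹
      have hbW : b ∈ W := hgW _ ha
      have h3 : g * b * g⁻¹ = (a : G) * b := by
        have hcW : g * b * g⁻¹ ∈ W := hgW _ hbW
        have hset : ({1, (a : G), b, (a : G) * b} : Finset G) = Finset.univ.filter fun x => x ∈ W := by
          refine Finset.eq_of_subset_of_card_le ?_ ?_
          · intro x hx
            simp only [Finset.mem_insert, Finset.mem_singleton] at hx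
            rcases hx with rfl | rfl | rfl | rfl <;>
              refine Finset.mem_filter.2 ⟨Finset.mem_univ _, ?_⟩
            exacts [W.one_mem, ha, hbW, W.mul_mem ha hbW]
          · have hb1 : b ≠ 1 := fun e => ha1 (conj_eq_one_iff.1 e)
            rw [← Fintype.card_subtype, ← Nat.card_eq_fintype_card]
            show Nat.card W ≤ _
            rw [P.card_W, Finset.card_insert_of_notMem, Finset.card_insert_of_notMem,
              Finset.card_pair]
            · exact fun e => ha1 (mul_eq_right.1 e.symm)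
            · simp only [Finset.mem_insert, Finset.mem_singleton, not_or]
              exact ⟨h2.symm, fun e => hb1 (mul_eq_left.1 e.symm)⟩
            · simp only [Finset.mem_insert, Finset.mem_singleton, not_or]
              refine ⟨ha1.symm, hb1.symm, fun e => h2 ?_⟩
              rw [eq_inv_of_mul_eq_one_right e.symm]
              exact inv_eq_of_mul_eq_one_right (hA2 _ a.2)
        have := hset ▸ (Finset.mem_filter.2 ⟨Finset.mem_univ _, hcW⟩ : g * b * g⁻¹ ∈ Finset.univ.filter fun x => x ∈ W)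
        simp only [Finset.mem_insert, Finset.mem_singleton] at this
        rcases this with e | e | e | e
        · exact absurd (conj_eq_one_iff.1 e) fun e' => ha1 (conj_eq_one_iff.1 e')
        · exfalso
          apply h2
          show b = a
          have h' : g * (g * b * g⁻¹) * g⁻¹ = (a : G) := congrArg Subtype.val (hγ3 a)
          rw [e] at h'
          exact h'
        · exfalso
          apply h2
          exact mul_left_cancel (mul_right_cancel e)
        · exact e
      show a * γ a * γ (γ a) = 1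
      apply Subtype.ext
      show (a : G) * b * (g * b * g⁻¹) = 1
      rw [h3]
      exact hA2 _ (A.mul_mem a.2 (hWA hbW))
    intro a
    refine ⟨fun h => ?_, hWφ a⟩
    have hm := hcoset a a.2
    have e : γ (γ a) = a * γ a := by
      have h' : a * γ a * γ (γ a) = 1 := h
      exact (eq_inv_of_mul_eq_one_right h').trans (inv_eq_of_mul_eq_one_right (hA2' _))
    have h2 : ((γ (γ a) : A) : G) ∈ W := by rw [e]; exact hm
    have h3 := hgW _ h2
    have e3 : g * ((γ (γ a) : A) : G) * g⁻¹ = (a : G) := congrArg Subtype.val (hγ3 a)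
    rwa [e3] at h3
  have hφfix : ∀ a : A, γ (φ a) = φ a := fun a => by
    show γ (a * γ a * γ (γ a)) = a * γ a * γ (γ a)
    rw [map_mul, map_mul, hγ3, mul_comm (γ a * γ (γ a)) a, mul_assoc]
  have hφid : ∀ v : A, v ∈ φ.range → φ v = v := by
    rintro _ ⟨a, rfl⟩
    show φ a * γ (φ a) * γ (γ (φ a)) = φ a
    rw [hφfix, hφfix, hA2', one_mul]
  have hVA : ∀ v ∈ V, v ∈ A := fun v hv => Subgroup.map_subtype_le _ hv
  have hcard4 : Nat.card φ.range = 4 := by
    have h := φ.ker.card_mul_index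
    rw [Subgroup.index_ker, P.card_A, show Nat.card φ.ker = 4 from ?_] at h
    · exact Nat.eq_of_mul_eq_mul_left (by norm_num) (h.trans (by norm_num : (16 : ℕ) = 4 * 4))
    rw [← P.card_W]
    exact Nat.card_congr ⟨fun a => ⟨a.1.1, (hφW a.1).1 (MonoidHom.mem_ker.1 a.2)⟩,
      fun w => ⟨⟨w.1, hWA w.2⟩, MonoidHom.mem_ker.2 ((hφW _).2 w.2)⟩, fun _ => rfl, fun _ => rfl⟩
  have hval' : ∀ (a : A) (ha : (a : G) ∈ M), ((τ ⟨(a : G), ha⟩ : φ.range) : A) = φ a := by
    intro a ha
    have haT : (⟨(a : G), ha⟩ : M) ∈ (T : Subgroup M) := (SetLike.ext_iff.1 hTA _).2 a.2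
    have h := hval ⟨_, haT⟩
    exact congrArg Subtype.val h
  set M0 : Subgroup G := τ.ker.map M.subtype with hM0
  have memM0 : ∀ {x : G}, x ∈ M0 ↔ ∃ h : x ∈ M, τ ⟨x, h⟩ = 1 := fun {x} =>
    ⟨fun ⟨y, hy, e⟩ => e ▸ ⟨y.2, hy⟩, fun ⟨h, e⟩ => ⟨⟨x, h⟩, e, rfl⟩⟩
  have hA0 : ∀ a : A, (a : G) ∈ M0 ↔ (a : G) ∈ W := by
    intro a
    rw [← hφW, memM0]
    exact ⟨fun ⟨h, e⟩ => by rw [← hval' a h, e]; rfl,
      fun e => ⟨a.2.2, Subtype.ext (by rw [hval' a a.2.2, e]; rfl)⟩⟩
  have hW0 : W ≤ M0 := fun w hw => (hA0 ⟨w, hWA hw⟩).2 hw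
  have hg0 : g ∈ M0 := by
    refine memM0.2 ⟨hgM, ?_⟩
    set v := τ ⟨g, hgM⟩
    have h3 : v ^ 3 = 1 := by rw [← map_pow, show (⟨g, hgM⟩ : M) ^ 3 = 1 from Subtype.ext hg3, map_one]
    have h2 : v * v = 1 := Subtype.ext (hA2' _)
    rwa [pow_succ, pow_two, h2, one_mul] at h3
  have hM0n : ∀ m ∈ M, ∀ b ∈ M0, m * b * m⁻¹ ∈ M0 := by
    rintro m hm _ ⟨b, hb, rfl⟩
    exact ⟨⟨m, hm⟩ * b * (⟨m, hm⟩ : M)⁻¹, (MonoidHom.normal_ker τ).conj_mem b hb _, rfl⟩
  have hdec : ∀ m : G, m * t = t * m → ∃ v ∈ V, ∃ b ∈ M0, m = v * b := by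
    intro m hm
    have hmM : m ∈ M := P.mem_M.2 hm
    set u := τ ⟨m, hmM⟩
    have huM : ((u : A) : G) ∈ M := (u : A).2.2
    refine ⟨((u : A) : G), ⟨u, u.2, rfl⟩, ((u : A) : G)⁻¹ * m, memM0.2 ⟨M.mul_mem (M.inv_mem huM) hmM, ?_⟩,
      by group⟩
    have e : τ ⟨((u : A) : G), huM⟩ = u := Subtype.ext (by rw [hval' (u : A) huM, hφid _ u.2])
    have : (⟨((u : A) : G)⁻¹ * m, M.mul_mem (M.inv_mem huM) hmM⟩ : M) =
        (⟨((u : A) : G), huM⟩ : M)⁻¹ * ⟨m, hmM⟩ := rfl
    rw [this, map_mul, map_inv, e, inv_mul_cancel]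
  have hVinf : V ⊓ M0 = ⊥ := by
    rw [eq_bot_iff]
    rintro x ⟨⟨v, hv, rfl⟩, hx⟩
    obtain ⟨h, -⟩ := memM0.1 hx
    have : φ v = 1 := by rw [← hval' v h]; exact congrArg Subtype.val (memM0.1 hx).2
    rw [hφid v hv] at this
    rw [Subgroup.mem_bot, this]; rfl
  set W0 : Subgroup M0 := W.subgroupOf M0
  have hgW' : ∀ w : G, g * w * g⁻¹ ∈ W → w ∈ W := by
    intro w hw
    have h := hgW _ (hgW _ hw)
    rwa [show g * (g * (g * w * g⁻¹) * g⁻¹) * g⁻¹ = g ^ 3 * w * (g ^ 3)⁻¹ by
      simp only [pow_succ, pow_zero, one_mul]; group, hg3, one_mul, inv_one, mul_one] at h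
  have hC0 : ∀ w ∈ W0, w ≠ 1 → Subgroup.centralizer ({w} : Set M0) = W0 := by
    intro w hw hw1
    have hwG : (w : G) ≠ 1 := fun e => hw1 (Subtype.ext e)
    ext x
    rw [Subgroup.mem_centralizer_singleton_iff]
    refine ⟨fun h => ?_, fun h => Subtype.ext (hAc _ (hWA h) _ (hWA hw))⟩
    have hx : (x : G) ∈ Subgroup.centralizer ({(w : G)} : Set G) ⊓ M :=
      ⟨Subgroup.mem_centralizer_singleton_iff.2 (congrArg Subtype.val h), Subgroup.map_subtype_le _ x.2⟩
    replace hx : (x : G) ∈ A := (SetLike.ext_iff.1 (P.cent_W hw.1 (P.mem_M.1 hw.2) hwG) _).1 hx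
    exact (hA0 ⟨(x : G), hx⟩).1 x.2
  have hgN0 : (⟨g, hg0⟩ : M0) ∈ Subgroup.normalizer (W0 : Set M0) := by
    rw [Subgroup.mem_normalizer_iff]
    exact fun w => ⟨fun h => hgW _ h, fun h => hgW' _ h⟩
  have hgW0 : (⟨g, hg0⟩ : M0) ∉ W0 := by
    intro h
    have := hA2 g (hWA h)
    rw [pow_succ, pow_two, this, one_mul] at hg3
    exact hg1 hg3
  rcases four_group_case W0 ((Nat.card_congr (Subgroup.subgroupOfEquivOfLe hW0).toEquiv).trans P.card_W)
    (fun w hw => Subtype.ext (hA2 _ (hWA hw))) hC0 hgN0 hgW0 with ⟨-, h12⟩ | he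
  · exfalso
    refine P.card_M_ne ?_
    let F : V × M0 → M := fun p =>
      ⟨(p.1 : G) * p.2, M.mul_mem (hVA _ p.1.2).2 (Subgroup.map_subtype_le _ p.2.2)⟩
    have hF : Function.Bijective F := by
      refine ⟨fun p r h => ?_, fun m => ?_⟩
      · have h' : (p.1 : G) * p.2 = r.1 * r.2 := congrArg Subtype.val h
        have hm : (r.1 : G)⁻¹ * p.1 ∈ V ⊓ M0 := by
          refine ⟨V.mul_mem (V.inv_mem r.1.2) p.1.2, ?_⟩
          rw [show (r.1 : G)⁻¹ * p.1 = r.2 * (p.2 : G)⁻¹ by
            rw [inv_mul_eq_iff_eq_mul, ← mul_assoc, ← h', mul_inv_cancel_right]]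
          exact M0.mul_mem r.2.2 (M0.inv_mem p.2.2)
        rw [hVinf, Subgroup.mem_bot, inv_mul_eq_one] at hm
        rw [← hm] at h'
        exact Prod.ext (Subtype.ext hm.symm) (Subtype.ext (mul_left_cancel h'))
      · obtain ⟨v, hv, b, hb, e⟩ := hdec m (P.mem_M.1 m.2)
        exact ⟨(⟨v, hv⟩, ⟨b, hb⟩), Subtype.ext e.symm⟩
    rw [← Nat.card_eq_of_bijective F hF, Nat.card_prod, h12,
      Nat.card_congr (Subgroup.equivMapOfInjective _ _ A.subtype_injective).symm.toEquiv, hcard4]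
  · refine ⟨V, M0, g, ⟨P, fun v hv => (hVA v hv).2, Subgroup.map_subtype_le _, ?_, ?_,
      fun v hv => hA2 v (hVA v hv), fun v hv => (hVA v hv).1, he, ?_, hVinf, hdec,
      hW0 P.z_mem_W, hg0, hg3, hg1, hAc _ (hgA z (hWA P.z_mem_W)) z (hWA P.z_mem_W)⟩⟩
    · refine ⟨⟨t, htA⟩, ⟨⟨t, htA⟩, ?_⟩, rfl⟩
      have hgt' : γ ⟨t, htA⟩ = ⟨t, htA⟩ := Subtype.ext (mul_inv_eq_iff_eq_mul.2 hgt)
      show (⟨t, htA⟩ : A) * γ ⟨t, htA⟩ * γ (γ ⟨t, htA⟩) = _
      rw [hgt', hgt', hA2', one_mul]
    · rw [hV, Nat.card_congr (Subgroup.equivMapOfInjective _ _ A.subtype_injective).symm.toEquiv, hcard4]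
    · rintro _ ⟨v, hv, rfl⟩ b hb
      obtain ⟨eB⟩ := he
      obtain ⟨a, ha⟩ := hv
      refine centralizes_alt5 eB (x := (v : G)) (g := g) (w := z) (fun b hb => hM0n _ v.2.2 b hb) hg0 hg3 hg1
        (hW0 P.z_mem_W) P.S.z_sq P.S.z_ne (hAc z (hWA P.z_mem_W) _ (hgA z (hWA P.z_mem_W))) ?_
        (hAc _ v.2 z (hWA P.z_mem_W)) b hb
      have := congrArg Subtype.val (hφfix a)
      rw [ha] at this
      exact (mul_inv_eq_iff_eq_mul.1 this).symm

end Pair

end CfsgLib.J2Type
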