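import Cfsg.Agent.Lib.J2Type.Hyp

/-!
Groups of Hall–Janko type: the two classes of involutions.
-/

set_option autoImplicit false

open scoped Classical

namespace CfsgLib.J2Type

open CfsgLib.J2Order

variable {G : Type*} [Group G] [Finite G] {z : G} {Q K C : Subgroup G}

namespace Core

variable (H : Core z Q K C)
include H

theorem S : Setup z Q K C := H.setup

theorem orderOf_z : orderOf z = 2 :=
  orderOf_eq_prime (by rw [pow_two]; exact H.S.z_sq) H.S.z_ne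

theorem decomp_unique {q q' k k' : G} (hq : q ∈ Q) (hq' : q' ∈ Q) (hk : k ∈ K) (hk' : k' ∈ K)
    (h : q * k = q' * k') : q = q' ∧ k = k' := by
  have hmem : k * k'⁻¹ ∈ K ⊓ Q := by
    refine ⟨K.mul_mem hk (K.inv_mem hk'), ?_⟩
    rw [show k * k'⁻¹ = q⁻¹ * q' by rw [eq_inv_mul_iff_mul_eq, ← mul_assoc, h, mul_inv_cancel_right]]
    exact Q.mul_mem (Q.inv_mem hq) hq'
  rw [H.S.inf, Subgroup.mem_bot, mul_inv_eq_one] at hmem
  exact ⟨mul_right_cancel (hmem ▸ h), hmem⟩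

theorem card_C : Nat.card C = 1920 := by
  let f : Q × K → C := fun p => ⟨(p.1 : G) * p.2, C.mul_mem (H.S.Q_le p.1.2) (H.S.K_le p.2.2)⟩
  have hf : Function.Bijective f := by
    refine ⟨fun p r h => ?_, fun c => ?_⟩
    · obtain ⟨h1, h2⟩ := H.decomp_unique p.1.2 r.1.2 p.2.2 r.2.2 (congrArg Subtype.val h)
      exact Prod.ext (Subtype.ext h1) (Subtype.ext h2)
    · obtain ⟨q, hq, k, hk, h⟩ := H.S.decomp c c.2
      exact ⟨(⟨q, hq⟩, ⟨k, hk⟩), Subtype.ext h.symm⟩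
  rw [← Nat.card_eq_of_bijective f hf, Nat.card_prod, H.S.cardQ, H.S.card_K]

theorem commute_decomp {q k l : G} (hq : q ∈ Q) (hk : k ∈ K) (hl : l ∈ K)
    (h : q * k * l = l * (q * k)) : k * l = l * k ∧ q * l = l * q := by
  have h' : q * (k * l) = l * q * l⁻¹ * (l * k) := by rw [← mul_assoc, h]; group
  obtain ⟨h1, h2⟩ := H.decomp_unique hq (H.S.conj_mem l (H.S.K_le hl) q hq) (K.mul_mem hk hl)
    (K.mul_mem hl hk) h'
  exact ⟨h2, (mul_inv_eq_iff_eq_mul.1 h1.symm).symm⟩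

theorem notQ_of_K {k : G} (hk : k ∈ K) (h1 : k ≠ 1) : k ∉ Q := fun h => h1 (by
  have : k ∈ K ⊓ Q := ⟨hk, h⟩
  rwa [H.S.inf, Subgroup.mem_bot] at this)

/-- The centraliser in `Q` of an involution of `K`. -/
theorem cq {k : G} (hk : k ∈ K) (hk2 : k * k = 1) (hk1 : k ≠ 1) :
    Nat.card (Q ⊓ Subgroup.centralizer ({k} : Set G) : Subgroup G) = 4 ∧
    (∀ q ∈ Q, q * k = k * q → q * q = 1) ∧
    (∀ q ∈ Q, q * k = k * q ↔ q = 1 ∨ q = z ∨
      (q ∈ H.S.toBase.X ∧ H.S.pr (k * q * k⁻¹) = H.S.pr q)) ∧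
    ((H.S.QF.image fun r => r * k * r⁻¹) =
      (H.S.QF.filter fun q => (q * k) * (q * k) = 1).image fun q => q * k) := by
  have hkC := H.S.K_le hk
  have hkQ := H.notQ_of_K hk hk1
  obtain ⟨-, h8, hsq⟩ := H.S.local_count hkC hk2 hkQ
  have hsq' : ∀ q ∈ Q, q * k = k * q → q * q = 1 := fun q hq h =>
    hsq q hq (mul_inv_eq_iff_eq_mul.2 h.symm)
  obtain ⟨⟨p, hp⟩, hfix, huniq⟩ := H.S.ρ_invol (y := ⟨k, hkC⟩) hk2 hkQ
  obtain ⟨x0, hx0, rfl⟩ := Finset.mem_image.1 hp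
  set F : Finset G := H.S.QF.filter fun q => q * k = k * q with hF
  have hfixed : ∀ {x : G}, x ∈ H.S.toBase.X → H.S.pr (k * x * k⁻¹) = H.S.pr x → x ∈ H.S.pr x0 := by
    intro x hx h
    have := huniq ⟨H.S.pr x, Finset.mem_image_of_mem _ hx⟩ (Subtype.ext (by rw [H.S.ρ_pr _ hx]; exact h))
    have h2 : H.S.pr x = H.S.pr x0 := congrArg Subtype.val this
    exact h2 ▸ Finset.mem_insert_self _ _
  set E : Finset G := {1, z, x0, x0 * z} with hE
  have hFE : F ⊆ E := by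
    intro q hq
    obtain ⟨hqQ, hqk⟩ := Finset.mem_filter.1 hq
    rw [H.S.mem_QF] at hqQ
    simp only [hE, Finset.mem_insert, Finset.mem_singleton]
    by_cases h1 : q = 1
    · exact Or.inl h1
    by_cases h2 : q = z
    · exact Or.inr (Or.inl h2)
    have hqX : q ∈ H.S.toBase.X := H.S.toBase.mem_X.2 ⟨hqQ, hsq' q hqQ hqk, h1, h2⟩
    have := hfixed hqX (by rw [mul_inv_eq_iff_eq_mul.2 hqk.symm])
    rcases H.S.mem_pr.1 this with h | h
    · exact Or.inr (Or.inr (Or.inl h))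
    · exact Or.inr (Or.inr (Or.inr h))
  have hEc : E.card ≤ 4 := by
    rw [hE]
    exact (Finset.card_insert_le _ _).trans (Nat.succ_le_succ ((Finset.card_insert_le _ _).trans
      (Nat.succ_le_succ ((Finset.card_insert_le _ _).trans (Nat.succ_le_succ (Finset.card_singleton _).le)))))
  set I := H.S.QF.image fun r => r * k * r⁻¹
  have hI : I ⊆ (H.S.QF.filter fun q => (q * k) * (q * k) = 1).image fun q => q * k := by
    intro y hy
    obtain ⟨r, hr, rfl⟩ := Finset.mem_image.1 hy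
    rw [H.S.mem_QF] at hr
    refine Finset.mem_image.2 ⟨r * (k * r⁻¹ * k⁻¹), Finset.mem_filter.2 ⟨?_, ?_⟩, by group⟩
    · rw [H.S.mem_QF]
      exact Q.mul_mem hr (H.S.conj_mem k hkC _ (Q.inv_mem hr))
    · rw [show r * (k * r⁻¹ * k⁻¹) * k * (r * (k * r⁻¹ * k⁻¹) * k) = r * (k * k) * r⁻¹ by group, hk2]
      group
  have hfib : H.S.QF.card ≤ F.card * I.card := by
    refine Finset.card_le_mul_card_image _ _ ?_
    intro y hy
    obtain ⟨r0, hr0, rfl⟩ := Finset.mem_image.1 hy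
    rw [H.S.mem_QF] at hr0
    refine Finset.card_le_card_of_injOn (fun r => r0⁻¹ * r) ?_ (fun _ _ _ _ h => mul_left_cancel h)
    intro r hr
    simp only [Finset.coe_filter, Set.mem_setOf_eq] at hr
    obtain ⟨hrQ, hre⟩ := hr
    rw [H.S.mem_QF] at hrQ
    refine Finset.mem_filter.2 ⟨H.S.mem_QF.2 (Q.mul_mem (Q.inv_mem hr0) hrQ), ?_⟩
    calc r0⁻¹ * r * k = r0⁻¹ * (r * k * r⁻¹) * r := by group
      _ = k * (r0⁻¹ * r) := by rw [hre]; group
  have hI8 : I.card ≤ 8 := (Finset.card_le_card hI).trans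
    (le_of_eq (by rw [Finset.card_image_of_injective _ (mul_left_injective k), h8]))
  have hF4 : F.card ≤ 4 := (Finset.card_le_card hFE).trans hEc
  rw [H.S.card_QF] at hfib
  have hFc : F.card = 4 ∧ I.card = 8 := by
    constructor <;> nlinarith
  have hFEeq : F = E := Finset.eq_of_subset_of_card_le hFE (by omega)
  refine ⟨?_, hsq', fun q hq => ⟨fun h => ?_, ?_⟩, ?_⟩
  · have hmem : ∀ q, q ∈ F ↔ q ∈ Q ⊓ Subgroup.centralizer ({k} : Set G) := fun q => by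
      rw [hF, Finset.mem_filter, H.S.mem_QF, Subgroup.mem_inf, Subgroup.mem_centralizer_singleton_iff]
    rw [← hFc.1, ← Set.ncard_coe_finset, ← Nat.card_coe_set_eq]
    exact Nat.card_congr (Equiv.subtypeEquivRight fun q => (hmem q).symm)
  · by_cases h1 : q = 1
    · exact Or.inl h1
    by_cases h2 : q = z
    · exact Or.inr (Or.inl h2)
    exact Or.inr (Or.inr ⟨H.S.toBase.mem_X.2 ⟨hq, hsq' q hq h, h1, h2⟩,
      by rw [mul_inv_eq_iff_eq_mul.2 h.symm]⟩)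
  · rintro (rfl | rfl | ⟨hX, hpr⟩)
    · simp
    · exact (H.S.z_cen k hkC).symm
    · have : q ∈ F := by
        rw [hFEeq, hE]
        rcases H.S.mem_pr.1 (hfixed hX hpr) with rfl | rfl <;> simp
      exact (Finset.mem_filter.1 this).2
  · refine Finset.eq_of_subset_of_card_le hI ?_
    rw [hFc.2, Finset.card_image_of_injective _ (mul_left_injective k), h8]

theorem cq_eq {k l : G} (hk : k ∈ K) (hk2 : k * k = 1) (hk1 : k ≠ 1) (hl : l ∈ K) (hl2 : l * l = 1)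
    (hl1 : l ≠ 1) (hkl : k * l = l * k) : ∀ q ∈ Q, q * k = k * q → q * l = l * q := by
  intro q hq h
  rcases ((H.cq hk hk2 hk1).2.2.1 q hq).1 h with h' | h' | ⟨hX, hpr⟩
  · exact ((H.cq hl hl2 hl1).2.2.1 q hq).2 (Or.inl h')
  · exact ((H.cq hl hl2 hl1).2.2.1 q hq).2 (Or.inr (Or.inl h'))
  refine ((H.cq hl hl2 hl1).2.2.1 q hq).2 (Or.inr (Or.inr ⟨hX, ?_⟩))
  have hkC := H.S.K_le hk
  have hlC := H.S.K_le hl
  obtain ⟨p, -, huniq⟩ := H.S.ρ_invol (y := ⟨k, hkC⟩) hk2 (H.notQ_of_K hk hk1)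
  have e1 : H.S.ρ ⟨k, hkC⟩ ⟨H.S.pr q, Finset.mem_image_of_mem _ hX⟩ =
      ⟨H.S.pr q, Finset.mem_image_of_mem _ hX⟩ := Subtype.ext (by rw [H.S.ρ_pr _ hX]; exact hpr)
  have hcomm : (⟨k, hkC⟩ : C) * ⟨l, hlC⟩ = ⟨l, hlC⟩ * ⟨k, hkC⟩ := Subtype.ext hkl
  have e2 : H.S.ρ ⟨k, hkC⟩ (H.S.ρ ⟨l, hlC⟩ ⟨H.S.pr q, Finset.mem_image_of_mem _ hX⟩) =
      H.S.ρ ⟨l, hlC⟩ ⟨H.S.pr q, Finset.mem_image_of_mem _ hX⟩ := by
    rw [← Equiv.Perm.mul_apply, ← map_mul, hcomm, map_mul, Equiv.Perm.mul_apply, e1]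
  have e3 := (huniq _ e2).trans (huniq _ e1).symm
  have := congrArg Subtype.val e3
  rwa [H.S.ρ_pr _ hX] at this

theorem K_invol_conj {k l : G} (hk : k ∈ K) (hk2 : k * k = 1) (hk1 : k ≠ 1) (hl : l ∈ K)
    (hl2 : l * l = 1) (hl1 : l ≠ 1) : ∃ c ∈ K, c * k * c⁻¹ = l := by
  obtain ⟨e⟩ := H.S.equivK
  obtain ⟨c, hc⟩ := alt5_invol_conj (e ⟨k, hk⟩)
    (by rw [← map_mul, show (⟨k, hk⟩ : K) * ⟨k, hk⟩ = 1 from Subtype.ext hk2, map_one])
    (fun h => hk1 (congrArg Subtype.val (e.injective (h.trans (map_one e).symm)))) (e ⟨l, hl⟩)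
    (by rw [← map_mul, show (⟨l, hl⟩ : K) * ⟨l, hl⟩ = 1 from Subtype.ext hl2, map_one])
    (fun h => hl1 (congrArg Subtype.val (e.injective (h.trans (map_one e).symm))))
  refine ⟨(e.symm c : G), SetLike.coe_mem _, ?_⟩
  have : e.symm c * ⟨k, hk⟩ * (e.symm c)⁻¹ = ⟨l, hl⟩ := e.injective (by simp [hc])
  exact congrArg Subtype.val this

/-- The involutions of `C` outside `Q` are conjugate in `C`. -/
theorem conj_out {y k : G} (hy : y ∈ C) (hy2 : y * y = 1) (hyQ : y ∉ Q) (hk : k ∈ K) (hk2 : k * k = 1)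
    (hk1 : k ≠ 1) : ∃ c ∈ C, c * y * c⁻¹ = k := by
  obtain ⟨q, hq, l, hl, rfl⟩ := H.S.decomp y hy
  have hl2 : l * l = 1 := by
    have : l * l ∈ K ⊓ Q := by
      refine ⟨K.mul_mem hl hl, ?_⟩
      have : l * l = (l * q * l⁻¹)⁻¹ * q⁻¹ := by
        have h2 : q * (l * q * l⁻¹) * (l * l) = 1 := by rw [← hy2]; group
        rw [eq_inv_of_mul_eq_one_right h2, mul_inv_rev]
      rw [this]
      exact Q.mul_mem (Q.inv_mem (H.S.conj_mem l (H.S.K_le hl) q hq)) (Q.inv_mem hq)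
    rwa [H.S.inf, Subgroup.mem_bot] at this
  have hl1 : l ≠ 1 := fun h => hyQ (by rw [h, mul_one]; exact hq)
  have : q * l ∈ H.S.QF.image fun r => r * l * r⁻¹ := by
    rw [(H.cq hl hl2 hl1).2.2.2]
    exact Finset.mem_image.2 ⟨q, Finset.mem_filter.2 ⟨H.S.mem_QF.2 hq, hy2⟩, rfl⟩
  obtain ⟨r, hr, hre⟩ := Finset.mem_image.1 this
  rw [H.S.mem_QF] at hr
  obtain ⟨c, hc, hce⟩ := H.K_invol_conj hl hl2 hl1 hk hk2 hk1
  refine ⟨c * r⁻¹, C.mul_mem (H.S.K_le hc) (C.inv_mem (H.S.Q_le hr)), ?_⟩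
  rw [← hre, ← hce]; group

theorem exists_invol : ∃ t ∈ K, t * t = 1 ∧ t ≠ 1 := by
  obtain ⟨e⟩ := H.S.equivK
  obtain ⟨a, ha⟩ : ∃ a : alternatingGroup (Fin 5), a ≠ 1 ∧ a * a = 1 := by
    have h : 0 < ((Finset.univ : Finset (alternatingGroup (Fin 5))).filter
        fun p => p ≠ 1 ∧ p * p = 1).card := by rw [alt5_invol]; norm_num
    obtain ⟨a, ha⟩ := Finset.card_pos.1 h
    exact ⟨a, (Finset.mem_filter.1 ha).2⟩
  refine ⟨(e.symm a : G), SetLike.coe_mem _, ?_, fun h => ha.1 ?_⟩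
  · rw [← Subgroup.coe_mul, ← map_mul, ha.2, map_one]; rfl
  · have : e.symm a = 1 := Subtype.ext h
    simpa using congrArg e this

end Core

/-- The data with a chosen involution of the second class. -/
structure Pair (z t : G) (Q K C : Subgroup G) : Prop where
  hyp : Hyp z Q K C
  t_mem : t ∈ K
  t_sq : t * t = 1
  t_ne : t ≠ 1

namespace Pair

variable {t : G} (P : Pair z t Q K C)
include P

theorem S : Setup z Q K C := P.hyp.setup

theorem orderOf_t : orderOf t = 2 := orderOf_eq_prime (by rw [pow_two]; exact P.t_sq) P.t_ne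

theorem t_memC : t ∈ C := P.S.K_le P.t_mem

theorem conj_t {x : G} (hx : x ∈ C) (hx2 : x * x = 1) (hxQ : x ∉ Q) : ∃ c ∈ C, c * x * c⁻¹ = t :=
  P.hyp.conj_out hx hx2 hxQ P.t_mem P.t_sq P.t_ne

theorem not_conj : ¬ IsConj z t := by
  intro h
  obtain ⟨y, hyC, hy2, hyQ, hyz⟩ := P.hyp.two
  obtain ⟨c, -, hc⟩ := P.conj_t hyC (by rw [← pow_two, ← hy2, pow_orderOf_eq_one]) hyQ
  exact hyz ((isConj_iff.2 ⟨c, hc⟩).trans h.symm)

theorem Cz : ∀ x ∈ C, orderOf x = 2 → x ∉ Q → IsConj x t := by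
  intro x hx h2 hxQ
  obtain ⟨c, -, hc⟩ := P.conj_t hx (by rw [← pow_two, ← h2, pow_orderOf_eq_one]) hxQ
  exact isConj_iff.2 ⟨c, hc⟩

theorem classes : ∀ x : G, orderOf x = 2 → IsConj x z ∨ IsConj x t := by
  intro x hx
  obtain ⟨g, hg⟩ := P.hyp.cov x hx
  have h : IsConj x (g * x * g⁻¹) := isConj_iff.2 ⟨g, rfl⟩
  have h2 : orderOf (g * x * g⁻¹) = 2 := by
    obtain ⟨hx1, hxx⟩ : x ≠ 1 ∧ x * x = 1 :=
      ⟨fun e => by rw [e, orderOf_one] at hx; omega, by rw [← pow_two, ← hx, pow_orderOf_eq_one]⟩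
    exact orderOf_eq_prime (by rw [pow_two, show g * x * g⁻¹ * (g * x * g⁻¹) = g * (x * x) * g⁻¹ by group, hxx]; group)
      fun e => hx1 (conj_eq_one_iff.1 e)
  by_cases hQ : g * x * g⁻¹ ∈ Q
  · exact Or.inl (h.trans (P.hyp.Qz _ hQ h2))
  · exact Or.inr (h.trans (P.Cz _ hg h2 hQ))

/-- `C(t)` is transitive on the conjugates of `z` that it contains. -/
theorem trans_t {x : G} (hx : IsConj x z) (hxt : x * t = t * x) :
    ∃ h : G, h * t = t * h ∧ h * x * h⁻¹ = z := by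
  obtain ⟨g, hg⟩ := isConj_iff.1 hx
  have hC : g * t * g⁻¹ ∈ C := by
    rw [P.hyp.mem_C, ← hg]
    calc g * t * g⁻¹ * (g * x * g⁻¹) = g * (t * x) * g⁻¹ := by group
      _ = g * x * g⁻¹ * (g * t * g⁻¹) := by rw [← hxt]; group
  have h2 : g * t * g⁻¹ * (g * t * g⁻¹) = 1 := by
    rw [show g * t * g⁻¹ * (g * t * g⁻¹) = g * (t * t) * g⁻¹ by group, P.t_sq]; group
  have hQ : g * t * g⁻¹ ∉ Q := fun h => P.not_conj (by
    refine (P.hyp.Qz _ h (orderOf_eq_prime (by rw [pow_two]; exact h2) ?_)).symm.trans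
      (isConj_iff.2 ⟨g, rfl⟩).symm
    exact fun e => P.t_ne (conj_eq_one_iff.1 e))
  obtain ⟨c, hc, hce⟩ := P.conj_t hC h2 hQ
  refine ⟨c * g, ?_, ?_⟩
  · refine mul_inv_eq_iff_eq_mul.1 ?_
    rw [show c * g * t * (c * g)⁻¹ = c * (g * t * g⁻¹) * c⁻¹ by group, hce]
  · rw [show c * g * x * (c * g)⁻¹ = c * (g * x * g⁻¹) * c⁻¹ by group, hg, (P.hyp.mem_C c).1 hc]
    group

end Pair

end CfsgLib.J2Type
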