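import Cfsg.Agent.Lib.J2Type.Odd

/-!
Groups of Hall–Janko type: the Sylow 5-subgroup.
-/

set_option autoImplicit false

open scoped Classical

namespace CfsgLib.J2Type

variable {G : Type*} [Group G] [Finite G] {z t g : G} {Q K C V M0 : Subgroup G}

theorem conj_zpowers (u a : G) :
    (Subgroup.zpowers a).map (MulAut.conj u).toMonoidHom = Subgroup.zpowers (u * a * u⁻¹) :=
  MonoidHom.map_zpowers _ a

theorem card_conj_eq (u a : G) :
    Nat.card (Subgroup.centralizer ({u * a * u⁻¹} : Set G)) = Nat.card (Subgroup.centralizer ({a} : Set G)) := by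
  refine Nat.card_congr ⟨fun y => ⟨u⁻¹ * y.1 * u, ?_⟩, fun y => ⟨u * y.1 * u⁻¹, ?_⟩,
    fun y => Subtype.ext ?_, fun y => Subtype.ext ?_⟩
  · rw [Subgroup.mem_centralizer_singleton_iff]
    have h := Subgroup.mem_centralizer_singleton_iff.1 y.2
    calc u⁻¹ * y.1 * u * a = u⁻¹ * (y.1 * (u * a * u⁻¹)) * u := by group
      _ = a * (u⁻¹ * y.1 * u) := by rw [h]; group
  · rw [Subgroup.mem_centralizer_singleton_iff]
    have h := Subgroup.mem_centralizer_singleton_iff.1 y.2
    calc u * y.1 * u⁻¹ * (u * a * u⁻¹) = u * (y.1 * a) * u⁻¹ := by group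
      _ = u * a * u⁻¹ * (u * y.1 * u⁻¹) := by rw [h]; group
  · show u * (u⁻¹ * y.1 * u) * u⁻¹ = y.1; group
  · show u⁻¹ * (u * y.1 * u⁻¹) * u = y.1; group

/-- The number of conjugates of an element under a subgroup. -/
theorem card_orbit [Fintype G] (N : Subgroup G) (x : G) :
    ((Finset.univ.filter fun n => n ∈ N).image fun n => n * x * n⁻¹).card *
      Nat.card (N ⊓ Subgroup.centralizer ({x} : Set G) : Subgroup G) = Nat.card N := by
  rw [Nat.card_eq_fintype_card (α := N), Fintype.card_subtype,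
    Finset.card_eq_sum_card_image (fun n => n * x * n⁻¹) (Finset.univ.filter fun n => n ∈ N),
    Finset.sum_const_nat]
  intro y hy
  obtain ⟨n0, hn0, rfl⟩ := Finset.mem_image.1 hy
  have hn0' := (Finset.mem_filter.1 hn0).2
  rw [Nat.card_eq_fintype_card, Fintype.card_subtype]
  refine (Finset.card_bij (fun n _ => n0 * n) ?_ (fun _ _ _ _ e => mul_left_cancel e) ?_).symm
  · intro n hn
    obtain ⟨h1, h2⟩ := (Finset.mem_filter.1 hn).2
    refine Finset.mem_filter.2 ⟨Finset.mem_filter.2 ⟨Finset.mem_univ _, N.mul_mem hn0' h1⟩, ?_⟩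
    rw [show n0 * n * x * (n0 * n)⁻¹ = n0 * (n * x) * n⁻¹ * n0⁻¹ by group,
      Subgroup.mem_centralizer_singleton_iff.1 h2]
    group
  · intro m hm
    obtain ⟨h1, h2⟩ := Finset.mem_filter.1 hm
    refine ⟨n0⁻¹ * m, Finset.mem_filter.2 ⟨Finset.mem_univ _, N.mul_mem (N.inv_mem hn0') (Finset.mem_filter.1 h1).2,
      Subgroup.mem_centralizer_singleton_iff.2 (mul_inv_eq_iff_eq_mul.1 ?_)⟩, by group⟩
    rw [show n0⁻¹ * m * x * (n0⁻¹ * m)⁻¹ = n0⁻¹ * (m * x * m⁻¹) * n0 by group, h2]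
    group

theorem card_sylow_of {p n m : ℕ} [hp : Fact p.Prime] (h : Nat.card G = p ^ n * m) (hm : ¬ p ∣ m)
    (P : Sylow p G) : Nat.card P = p ^ n := by
  rw [P.card_eq_multiplicity, h, Nat.factorization_mul (pow_ne_zero _ hp.out.ne_zero)
    (fun e => hm (by rw [e]; exact dvd_zero p)), Finsupp.add_apply, hp.out.factorization_pow, Finsupp.single_eq_same,
    Nat.factorization_eq_zero_of_not_dvd hm, add_zero]

theorem comm_of_card_sq {p : ℕ} [Fact p.Prime] {P : Subgroup G} (h : Nat.card P = p ^ 2) {a b : G}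
    (ha : a ∈ P) (hb : b ∈ P) : a * b = b * a :=
  congrArg Subtype.val (IsPGroup.commutative_of_card_eq_prime_sq h (⟨a, ha⟩ : P) ⟨b, hb⟩)

namespace Cent

variable (D : Cent z t Q K C V M0 g)
include D

theorem exists_f : ∃ f ∈ M0, orderOf f = 5 ∧
    (∀ y ∈ M0, y * f = f * y → y ∈ Subgroup.zpowers f) ∧
    ∀ b ∈ M0, b * f * b⁻¹ ≠ f ^ 2 ∧ b * f * b⁻¹ ≠ f ^ 3 := by
  obtain ⟨e⟩ := D.equiv
  haveI : Fact (Nat.Prime 5) := ⟨by decide⟩
  obtain ⟨⟨f, hf⟩, ho⟩ := exists_prime_orderOf_dvd_card' (G := M0) 5 (by rw [D.card_M0]; norm_num)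
  set F : M0 := ⟨f, hf⟩
  have hF5 : F ^ 5 = 1 := ho ▸ pow_orderOf_eq_one F
  have hF1 : e F ≠ 1 := fun h => by
    rw [e.injective (h.trans (map_one e).symm), orderOf_one] at ho; omega
  rw [Subgroup.orderOf_mk] at ho
  refine ⟨f, hf, ho, fun y hy hyf => ?_, fun b hb => ?_⟩
  · have hm := Subgroup.mem_zpowers f
    rcases alt5_five_cent (e F) (by rw [← map_pow, hF5, map_one]) hF1 (e ⟨y, hy⟩)
      (by rw [← map_mul, ← map_mul, show (⟨y, hy⟩ : M0) * F = F * ⟨y, hy⟩ from Subtype.ext hyf])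
      with h | h | h | h | h
    · rw [show y = 1 from congrArg Subtype.val (e.injective (h.trans (map_one e).symm))]
      exact Subgroup.one_mem _
    · rw [show y = f from congrArg Subtype.val (e.injective h)]; exact hm
    all_goals
      rw [← map_pow] at h
      first
      | (rw [show y = f ^ 2 from congrArg Subtype.val (e.injective h)]; exact Subgroup.pow_mem _ hm _)
      | (rw [show y = f ^ 3 from congrArg Subtype.val (e.injective h)]; exact Subgroup.pow_mem _ hm _)
      | (rw [show y = f ^ 4 from congrArg Subtype.val (e.injective h)]; exact Subgroup.pow_mem _ hm _)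
  · have key := alt5_five_not_sq (e F) (by rw [← map_pow, hF5, map_one]) hF1 (e ⟨b, hb⟩)
    simp only [← map_mul, ← map_inv, ← map_pow, ne_eq] at key
    exact ⟨fun h => key.1 (congrArg e (Subtype.ext h)), fun h => key.2 (congrArg e (Subtype.ext h))⟩

theorem exists_f1 : ∃ f ∈ K, orderOf f = 5 ∧
    (∀ c ∈ C, c * f = f * c → ∃ q k : G, (q = 1 ∨ q = z) ∧ k ∈ Subgroup.zpowers f ∧ c = q * k) ∧
    ∀ c ∈ C, c * f * c⁻¹ ≠ f ^ 2 ∧ c * f * c⁻¹ ≠ f ^ 3 := by
  obtain ⟨e⟩ := D.pair.S.equivK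
  haveI : Fact (Nat.Prime 5) := ⟨by decide⟩
  obtain ⟨⟨f, hf⟩, ho⟩ := exists_prime_orderOf_dvd_card' (G := K) 5 (by rw [D.pair.S.card_K]; norm_num)
  set F : K := ⟨f, hf⟩
  have hF5 : F ^ 5 = 1 := ho ▸ pow_orderOf_eq_one F
  have hF1 : e F ≠ 1 := fun h => by
    rw [e.injective (h.trans (map_one e).symm), orderOf_one] at ho; omega
  rw [Subgroup.orderOf_mk] at ho
  have hf5 : f ^ 5 = 1 := congrArg Subtype.val hF5
  have hf1 : f ≠ 1 := fun h => by rw [h, orderOf_one] at ho; omega
  have hm := Subgroup.mem_zpowers f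
  refine ⟨f, hf, ho, fun c hc hcf => ?_, fun c hc => ?_⟩
  · obtain ⟨q, hq, k, hk, rfl⟩ := D.pair.S.decomp c hc
    obtain ⟨h1, h2⟩ := D.pair.hyp.commute_decomp hq hk hf hcf
    refine ⟨q, k, D.pair.S.five_centralizer hf hf5 hf1 hq h2.symm, ?_, rfl⟩
    rcases alt5_five_cent (e F) (by rw [← map_pow, hF5, map_one]) hF1 (e ⟨k, hk⟩)
      (by rw [← map_mul, ← map_mul, show (⟨k, hk⟩ : K) * F = F * ⟨k, hk⟩ from Subtype.ext h1])
      with h | h | h | h | h
    · rw [show k = 1 from congrArg Subtype.val (e.injective (h.trans (map_one e).symm))]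
      exact Subgroup.one_mem _
    · rw [show k = f from congrArg Subtype.val (e.injective h)]; exact hm
    all_goals
      rw [← map_pow] at h
      first
      | (rw [show k = f ^ 2 from congrArg Subtype.val (e.injective h)]; exact Subgroup.pow_mem _ hm _)
      | (rw [show k = f ^ 3 from congrArg Subtype.val (e.injective h)]; exact Subgroup.pow_mem _ hm _)
      | (rw [show k = f ^ 4 from congrArg Subtype.val (e.injective h)]; exact Subgroup.pow_mem _ hm _)
  · obtain ⟨q, hq, k, hk, rfl⟩ := D.pair.S.decomp c hc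
    have key := alt5_five_not_sq (e F) (by rw [← map_pow, hF5, map_one]) hF1 (e ⟨k, hk⟩)
    simp only [← map_mul, ← map_inv, ← map_pow, ne_eq] at key
    have hkf : k * f * k⁻¹ ∈ K := K.mul_mem (K.mul_mem hk hf) (K.inv_mem hk)
    have hsplit : ∀ m : G, m ∈ K → q * k * f * (q * k)⁻¹ = m → k * f * k⁻¹ = m := by
      intro m hm' h
      have h' : (1 : G) * (k * f * k⁻¹) = q⁻¹ * (m * q * m⁻¹) * m := by rw [← h]; group
      exact (D.pair.hyp.decomp_unique Q.one_mem
        (Q.mul_mem (Q.inv_mem hq) (D.pair.S.conj_mem m (D.pair.S.K_le hm') q hq)) hkf hm' h').2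
    exact ⟨fun h => key.1 (congrArg e (Subtype.ext (hsplit _ (K.pow_mem hf 2) h))),
      fun h => key.2 (congrArg e (Subtype.ext (hsplit _ (K.pow_mem hf 3) h)))⟩

theorem z_centralizes {f : G} (hf : f ∈ C) : z * f = f * z := ((D.pair.hyp.mem_C f).1 hf).symm

/-- A Sylow 5-subgroup has order 25. -/
theorem card_five (P : Sylow 5 G) : Nat.card P = 25 := by
  haveI : Fact (Nat.Prime 5) := ⟨by decide⟩
  exact card_sylow_of (p := 5) (n := 2) (m := 24192) (by rw [D.order]; norm_num) (by norm_num) P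

/-- The centraliser of an element of order five of `C(t)`. -/
theorem cent_f {f : G} (hf : f ∈ M0) (ho : orderOf f = 5)
    (hsc : ∀ y ∈ M0, y * f = f * y → y ∈ Subgroup.zpowers f) :
    Nat.card (Subgroup.centralizer ({f} : Set G)) = 300 ∧
    ∃ π : Subgroup.centralizer ({f} : Set G) →* alternatingGroup (Fin 5),
      Function.Surjective π ∧ (∀ h, π h = 1 ↔ (h : G) ∈ Subgroup.zpowers f) ∧
      ∃ P : Sylow 5 G, f ∈ P ∧ ∀ p ∈ P, p * f = f * p := by
  haveI : Fact (Nat.Prime 5) := ⟨by decide⟩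
  have hp : IsPGroup 5 (Subgroup.zpowers f) :=
    IsPGroup.of_card (n := 1) (by rw [Nat.card_zpowers, ho, pow_one])
  obtain ⟨P, hP⟩ := hp.exists_le_sylow
  have hfP := hP (Subgroup.mem_zpowers f)
  have h25 := D.card_five P
  have hcm : ∀ p ∈ P, p * f = f * p := fun p hp' =>
    comm_of_card_sq (p := 5) (P := (P : Subgroup G)) (by rw [h25]; norm_num) hp' hfP
  have hPH : (P : Subgroup G) ≤ Subgroup.centralizer ({f} : Set G) := fun p hp' =>
    Subgroup.mem_centralizer_singleton_iff.2 (hcm p hp')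
  have hdvd := Subgroup.card_dvd_of_le hPH
  rcases D.cent_cases hf hsc (by rw [ho]; decide) with h | ⟨π, h1, h2, h3⟩
  · rw [h25, h, ho] at hdvd; norm_num at hdvd
  · exact ⟨by rw [h3, ho], π, h1, h2, P, hfP, hcm⟩

theorem centralizer_sylow (P : Sylow 5 G) :
    Subgroup.centralizer ((P : Subgroup G) : Set G) = P := by
  haveI : Fact (Nat.Prime 5) := ⟨by decide⟩
  obtain ⟨f, hf, ho, hsc, -⟩ := D.exists_f
  obtain ⟨-, π, hπs, hπ, P0, hfP, hcm⟩ := D.cent_f hf ho hsc
  have h0 : Subgroup.centralizer ((P0 : Subgroup G) : Set G) = P0 := by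
    refine le_antisymm (fun y hy => ?_) fun p hp => Subgroup.mem_centralizer_iff.2 fun q hq =>
      comm_of_card_sq (p := 5) (P := (P0 : Subgroup G)) (by rw [D.card_five P0]; norm_num) hq hp
    rw [Subgroup.mem_centralizer_iff] at hy
    obtain ⟨p, hp, hpf⟩ : ∃ p ∈ P0, p ∉ Subgroup.zpowers f := by
      by_contra h
      push Not at h
      have := Subgroup.card_le_of_le (show (P0 : Subgroup G) ≤ Subgroup.zpowers f from h)
      rw [D.card_five P0, Nat.card_zpowers, ho] at this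
      omega
    have hyH : y ∈ Subgroup.centralizer ({f} : Set G) :=
      Subgroup.mem_centralizer_singleton_iff.2 (hy f hfP).symm
    set pH : Subgroup.centralizer ({f} : Set G) := ⟨p, Subgroup.mem_centralizer_singleton_iff.2 (hcm p hp)⟩
    set yH : Subgroup.centralizer ({f} : Set G) := ⟨y, hyH⟩
    have hp1 : π pH ≠ 1 := fun h => hpf ((hπ _).1 h)
    have hp5 : π pH ^ 5 = 1 := by
      rw [← map_pow, hπ]
      show p ^ 5 ∈ _
      have h5 : p ^ 25 = 1 := by
        have h' := pow_card_eq_one' (x := (⟨p, hp⟩ : (P0 : Subgroup G)))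
        rw [D.card_five P0] at h'
        exact congrArg Subtype.val h'
      by_contra hne
      apply hne
      -- `p ^ 5` is central in the group of order 60
      have hz : π (pH ^ 5) = 1 := by
        have h' : π pH ^ 25 = 1 := by
          rw [← map_pow, show pH ^ 25 = 1 from Subtype.ext h5, map_one]
        have h60 : π pH ^ 60 = 1 := by
          have := pow_card_eq_one' (x := π pH)
          rwa [card_alt5] at this
        have := pow_gcd_eq_one.2 ⟨h', h60⟩
        rw [map_pow]; exact this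
      exact (hπ _).1 hz
    have hcomm : π yH * π pH = π pH * π yH := by
      rw [← map_mul, ← map_mul, show yH * pH = pH * yH from Subtype.ext (hy p hp).symm]
    have key : ∃ i : ℕ, π yH = π pH ^ i := by
      rcases alt5_five_cent _ hp5 hp1 _ hcomm with h | h | h | h | h
      exacts [⟨0, by rw [h, pow_zero]⟩, ⟨1, by rw [h, pow_one]⟩, ⟨2, h⟩, ⟨3, h⟩, ⟨4, h⟩]
    obtain ⟨i, hi⟩ := key
    have hm : π ((pH ^ i)⁻¹ * yH) = 1 := by rw [map_mul, map_inv, map_pow, hi, inv_mul_cancel]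
    have hm' : (p ^ i)⁻¹ * y ∈ (P0 : Subgroup G) := Subgroup.zpowers_le.2 hfP ((hπ _).1 hm)
    have := (P0 : Subgroup G).mul_mem ((P0 : Subgroup G).pow_mem hp i) hm'
    rwa [mul_inv_cancel_left] at this
  obtain ⟨c, hc⟩ := MulAction.exists_smul_eq G P0 P
  refine le_antisymm (fun y hy => ?_) fun p hp => Subgroup.mem_centralizer_iff.2 fun q hq =>
    comm_of_card_sq (p := 5) (P := (P : Subgroup G)) (by rw [D.card_five P]; norm_num) hq hp
  rw [Subgroup.mem_centralizer_iff] at hy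
  have : c⁻¹ * y * c ∈ (P0 : Subgroup G) := by
    rw [← h0, Subgroup.mem_centralizer_iff]
    intro q hq
    have hq' : c * q * c⁻¹ ∈ (P : Subgroup G) := by
      rw [← hc, Sylow.coe_subgroup_smul]; exact ⟨q, hq, rfl⟩
    calc q * (c⁻¹ * y * c) = c⁻¹ * (c * q * c⁻¹ * y) * c := by group
      _ = c⁻¹ * y * c * q := by rw [hy _ hq']; group
  rw [← hc, Sylow.coe_subgroup_smul]
  exact ⟨_, this, show c * (c⁻¹ * y * c) * c⁻¹ = y by group⟩

/-- The centraliser of an element of order five of `C(z)`. -/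
theorem cent_f1 {f : G} (hf : f ∈ K) (ho : orderOf f = 5)
    (hsc : ∀ c ∈ C, c * f = f * c → ∃ q k : G, (q = 1 ∨ q = z) ∧ k ∈ Subgroup.zpowers f ∧ c = q * k) :
    Nat.card (Subgroup.centralizer ({f} : Set G)) = 50 ∧
    (∀ i : G, orderOf i = 2 → i * f = f * i →
      ∃ h : G, h * f = f * h ∧ h * i * h⁻¹ = z) ∧
    ∀ P : Sylow 5 G, f ∈ P → Subgroup.centralizer ({f} : Set G) ≤
      Subgroup.normalizer ((P : Subgroup G) : Set G) := by
  haveI : Fact (Nat.Prime 2) := ⟨Nat.prime_two⟩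
  haveI : Fact (Nat.Prime 5) := ⟨by decide⟩
  set H := Subgroup.centralizer ({f} : Set G) with hH
  have memH : ∀ {h : G}, h ∈ H ↔ h * f = f * h := Subgroup.mem_centralizer_singleton_iff
  have hf5 : f ^ 5 = 1 := ho ▸ pow_orderOf_eq_one f
  have hz2 := D.pair.S.z_sq
  have hzH : z ∈ H := memH.2 (D.z_centralizes (D.pair.S.K_le hf))
  set Z : Subgroup G := Subgroup.zpowers z
  have hZmem : ∀ y, y ∈ Z → y = 1 ∨ y = z := by
    intro y hy
    obtain ⟨j, rfl⟩ := Subgroup.mem_zpowers_iff.1 hy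
    rcases Int.even_or_odd j with ⟨m, rfl⟩ | ⟨m, rfl⟩
    · left; rw [← two_mul, zpow_mul, zpow_ofNat, pow_two, hz2, one_zpow]
    · right; rw [zpow_add, zpow_mul, zpow_ofNat, pow_two, hz2, one_zpow, one_mul, zpow_one]
  have hcent : ∀ h ∈ H, h * z = z * h → ∀ k : ℕ, h ^ (2 ^ k) = 1 → h = 1 ∨ h = z := by
    intro h hh hhz k hk
    obtain ⟨q, b, hq, hb, rfl⟩ := hsc h ((D.pair.hyp.mem_C h).2 hhz) (memH.1 hh)
    have hqb : Commute q b := by
      rcases hq with rfl | rfl
      · exact Commute.one_left b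
      · exact D.z_centralizes (D.pair.S.K_le (Subgroup.zpowers_le.2 hf hb))
    have hb5 : b ^ 5 = 1 := by
      obtain ⟨j, rfl⟩ := Subgroup.mem_zpowers_iff.1 hb
      rw [← zpow_natCast, ← zpow_mul, mul_comm, zpow_mul, zpow_natCast, hf5, one_zpow]
    have hq2 : q ^ (2 ^ (k + 1)) = 1 := by
      rw [pow_succ', pow_mul]
      rcases hq with rfl | rfl
      · simp
      · rw [pow_two, hz2, one_pow]
    have hb2 : b ^ (2 ^ (k + 1)) = 1 := by
      have h2 : (q * b) ^ (2 ^ (k + 1)) = 1 := by rw [pow_succ, pow_mul, hk, one_pow]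
      rwa [hqb.mul_pow, hq2, one_mul] at h2
    rw [eq_one_of_coprime_pow hb5 hb2 (Nat.Coprime.pow_right _ (by norm_num)), mul_one]
    exact hq
  have hZH : Z ≤ H := Subgroup.zpowers_le.2 hzH
  have hZp : IsPGroup 2 (Z.subgroupOf H) := IsPGroup.of_card (n := 1) (by
    rw [Nat.card_congr (Subgroup.subgroupOfEquivOfLe hZH).toEquiv, Nat.card_zpowers,
      D.pair.hyp.orderOf_z, pow_one])
  obtain ⟨T, hT⟩ := hZp.exists_le_sylow
  have hzT : (⟨z, hzH⟩ : H) ∈ (T : Subgroup H) := hT (Subgroup.mem_zpowers z)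
  have hTmem : ∀ s ∈ (T : Subgroup H), (s : G) = 1 ∨ (s : G) = z := by
    haveI : Nontrivial (T : Subgroup H) := ⟨⟨1, ⟨_, hzT⟩, fun e => D.pair.S.z_ne
      (congrArg (fun a : (T : Subgroup H) => ((a : H) : G)) e).symm⟩⟩
    haveI := T.2.center_nontrivial
    obtain ⟨⟨⟨c, hcT⟩, hc⟩, hne⟩ := exists_ne (1 : Subgroup.center (T : Subgroup H))
    have hcc : ∀ s ∈ (T : Subgroup H), s * c = c * s := fun s hs =>
      congrArg Subtype.val (Subgroup.mem_center_iff.1 hc ⟨s, hs⟩)
    have hpow : ∀ s ∈ (T : Subgroup H), ∃ k : ℕ, (s : G) ^ (2 ^ k) = 1 := fun s hs => by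
      obtain ⟨k, hk⟩ := T.2 ⟨s, hs⟩
      exact ⟨k, congrArg (fun a : (T : Subgroup H) => ((a : H) : G)) hk⟩
    obtain ⟨k, hk⟩ := hpow c hcT
    have hcz : (c : G) = z := by
      rcases hcent c c.2 (congrArg Subtype.val (hcc _ hzT)).symm k hk with h | h
      · exact absurd (Subtype.ext (Subtype.ext (Subtype.ext h))) hne
      · exact h
    intro s hs
    obtain ⟨k, hk⟩ := hpow s hs
    refine hcent s s.2 ?_ k hk
    rw [← hcz]; exact congrArg Subtype.val (hcc s hs)
  have hTZ : ∀ s : H, s ∈ (T : Subgroup H) ↔ s = 1 ∨ s = ⟨z, hzH⟩ := fun s =>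
    ⟨fun hs => (hTmem s hs).imp (fun e => Subtype.ext e) (fun e => Subtype.ext e),
      by rintro (rfl | rfl); exacts [(T : Subgroup H).one_mem, hzT]⟩
  have hinv : ∀ i : G, orderOf i = 2 → i * f = f * i → ∃ h : G, h * f = f * h ∧ h * i * h⁻¹ = z := by
    intro i hi hif
    obtain ⟨c, hc, y, hy, hyc⟩ := mem_conj_sylow T (memH.2 hif)
      ⟨1, by rw [pow_one, ← hi, pow_orderOf_eq_one]⟩
    refine ⟨c, memH.1 hc, ?_⟩
    rcases hTmem y hy with h | h
    · rw [hyc, conj_eq_one_iff] at h; rw [h, orderOf_one] at hi; omega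
    · rwa [hyc] at h
  -- Burnside's transfer
  have hTc : Subgroup.normalizer ((T : Subgroup H) : Set H) ≤
      Subgroup.centralizer ((T : Subgroup H) : Set H) := by
    intro n hn
    rw [Subgroup.mem_centralizer_iff]
    intro s hs
    rcases (hTZ s).1 hs with rfl | rfl
    · simp
    · rcases (hTZ _).1 ((Subgroup.mem_normalizer_iff.1 hn _).1 hs) with h | h
      · exact absurd (congrArg Subtype.val (conj_eq_one_iff.1 h)) D.pair.S.z_ne
      · exact (mul_inv_eq_iff_eq_mul.1 h).symm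
  set O := (MonoidHom.transferSylow T hTc).ker with hO
  have hOc := MonoidHom.ker_transferSylow_isComplement' T hTc
  have hOodd := MonoidHom.not_dvd_card_ker_transferSylow T hTc
  rw [← hO] at hOc hOodd
  have hT2 : Nat.card (T : Subgroup H) = 2 := by
    have e : ((T : Subgroup H) : Set H) = {1, ⟨z, hzH⟩} := by
      ext s; rw [SetLike.mem_coe, hTZ]; simp
    rw [← SetLike.coe_sort_coe, Nat.card_coe_set_eq, e, Set.ncard_pair]
    intro h
    exact D.pair.S.z_ne (congrArg Subtype.val h).symm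
  haveI hOn : O.Normal := MonoidHom.normal_ker _
  have odd_mem : ∀ h : H, ∀ n : ℕ, Odd n → h ^ n = 1 → h ∈ O := by
    intro h n hn hh
    rw [hO, MonoidHom.mem_ker]
    set u := MonoidHom.transferSylow T hTc h
    have h1 : u ^ n = 1 := by rw [← map_pow, hh, map_one]
    have h2 : u ^ 2 = 1 := by
      have := pow_card_eq_one' (x := u)
      rwa [hT2] at this
    exact eq_one_of_coprime_pow h2 h1 (Nat.coprime_two_left.2 hn)
  -- `z` inverts `O` modulo `⟨f⟩`
  set zH : H := ⟨z, hzH⟩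
  set fH : H := ⟨f, memH.2 rfl⟩
  set Z0 := Subgroup.zpowers fH with hZ0
  have hfO : fH ∈ O := odd_mem fH 5 (by decide) (Subtype.ext hf5)
  have hfc : ∀ h : H, Commute h fH := fun h => Subtype.ext (memH.1 h.2)
  have hzz : zH * zH = 1 := Subtype.ext hz2
  have hfix : ∀ o ∈ O, zH * o = o * zH → o ∈ Z0 := by
    intro o ho h
    obtain ⟨q, b, hq, hb, e⟩ := hsc o.1 ((D.pair.hyp.mem_C _).2 (congrArg Subtype.val h).symm) (memH.1 o.2)
    obtain ⟨j, hj⟩ := Subgroup.mem_zpowers_iff.1 hb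
    rcases hq with rfl | rfl
    · rw [one_mul, ← hj] at e
      exact Subgroup.mem_zpowers_iff.2 ⟨j, Subtype.ext e.symm⟩
    · exfalso
      have : zH ∈ O := by
        have e' : o = zH * fH ^ j := Subtype.ext (by rw [e, ← hj]; rfl)
        have := O.mul_mem ho (O.inv_mem (O.zpow_mem hfO j))
        rwa [e', mul_inv_cancel_right] at this
      have hd := Subgroup.orderOf_dvd_natCard _ this
      rw [orderOf_eq_prime (by rw [pow_two, hzz]) fun e' => D.pair.S.z_ne (congrArg Subtype.val e')] at hd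
      exact hOodd hd
  haveI hZ0n : Z0.Normal := ⟨fun n hn h => by
    obtain ⟨j, rfl⟩ := Subgroup.mem_zpowers_iff.1 hn
    rw [((hfc h).zpow_right j).eq, mul_inv_cancel_right]
    exact Subgroup.zpow_mem _ (Subgroup.mem_zpowers _) j⟩
  set O' := O.map (QuotientGroup.mk' Z0)
  let σ : O' →* O' :=
  { toFun := fun a => ⟨(QuotientGroup.mk' Z0 zH) * a.1 * (QuotientGroup.mk' Z0 zH)⁻¹, by
      obtain ⟨o, ho, e⟩ := a.2
      exact ⟨zH * o * zH⁻¹, hOn.conj_mem o ho zH, by rw [map_mul, map_mul, map_inv, e]⟩⟩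
    map_one' := Subtype.ext (by simp)
    map_mul' := fun a b => Subtype.ext (by simp [mul_assoc]) }
  have hσfix : MonoidHom.FixedPointFree σ := by
    rintro ⟨_, o, ho, rfl⟩ h
    have h' := congrArg Subtype.val h
    change QuotientGroup.mk' Z0 zH * QuotientGroup.mk' Z0 o * (QuotientGroup.mk' Z0 zH)⁻¹ =
      QuotientGroup.mk' Z0 o at h'
    rw [← map_mul, ← map_inv, ← map_mul] at h'
    have h1 : zH * o * zH⁻¹ * o⁻¹ ∈ Z0 := by
      apply (QuotientGroup.eq_one_iff _).1
      show QuotientGroup.mk' Z0 (zH * o * zH⁻¹ * o⁻¹) = 1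
      rw [map_mul, map_inv, h', mul_inv_cancel]
    obtain ⟨j, hj⟩ := Subgroup.mem_zpowers_iff.1 h1
    have hzi : zH⁻¹ = zH := inv_eq_of_mul_eq_one_right hzz
    have e1 : zH * o * zH = fH ^ j * o := by rw [hj, hzi]; group
    have hzf : Commute zH (fH ^ j) := (hfc zH).zpow_right j
    have e2 : fH ^ j * fH ^ j = 1 := by
      have h3 : zH * (zH * o * zH) * zH = o := by
        rw [show zH * (zH * o * zH) * zH = (zH * zH) * o * (zH * zH) by group, hzz]; group
      rw [e1, show zH * (fH ^ j * o) * zH = zH * fH ^ j * (o * zH) by group, hzf.eq,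
        show fH ^ j * zH * (o * zH) = fH ^ j * (zH * o * zH) by group, e1, ← mul_assoc] at h3
      exact mul_eq_right.1 h3
    have hj1 : fH ^ j = 1 := by
      refine eq_one_of_coprime_pow (m := 2) (by rw [pow_two]; exact e2) (n := 5) ?_ (by norm_num)
      rw [← zpow_natCast, ← zpow_mul, mul_comm, zpow_mul, zpow_natCast,
        show fH ^ 5 = 1 from Subtype.ext hf5, one_zpow]
    rw [hj1, one_mul] at e1
    have hoz : zH * o = o * zH := by
      calc zH * o = zH * o * (zH * zH) := by rw [hzz, mul_one]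
        _ = zH * o * zH * zH := by group
        _ = o * zH := by rw [e1]
    exact Subtype.ext ((QuotientGroup.eq_one_iff _).2 (hfix o ho hoz))
  have hσinv : Function.Involutive σ := fun a => Subtype.ext (by
    show QuotientGroup.mk' Z0 zH * (QuotientGroup.mk' Z0 zH * a.1 * (QuotientGroup.mk' Z0 zH)⁻¹) *
      (QuotientGroup.mk' Z0 zH)⁻¹ = a.1
    rw [show QuotientGroup.mk' Z0 zH * (QuotientGroup.mk' Z0 zH * a.1 * (QuotientGroup.mk' Z0 zH)⁻¹) *
      (QuotientGroup.mk' Z0 zH)⁻¹ = (QuotientGroup.mk' Z0 zH * QuotientGroup.mk' Z0 zH) * a.1 *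
      (QuotientGroup.mk' Z0 zH * QuotientGroup.mk' Z0 zH)⁻¹ by group, ← map_mul, hzz, map_one]
    group)
  have hcomm : ∀ a ∈ O, ∀ b ∈ O, a * b * a⁻¹ * b⁻¹ ∈ Z0 := by
    intro a ha b hb
    apply (QuotientGroup.eq_one_iff _).1
    have hc := (hσfix.commute_all_of_involutive hσinv) ⟨_, a, ha, rfl⟩ ⟨_, b, hb, rfl⟩
    have h' : QuotientGroup.mk' Z0 a * QuotientGroup.mk' Z0 b =
        QuotientGroup.mk' Z0 b * QuotientGroup.mk' Z0 a := congrArg Subtype.val hc
    show QuotientGroup.mk' Z0 (a * b * a⁻¹ * b⁻¹) = 1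
    rw [map_mul, map_mul, map_mul, map_inv, map_inv, h']
    group
  -- a Sylow subgroup containing `f`
  have key : ∀ P : Sylow 5 G, f ∈ P → Nat.card H = 50 ∧
      H ≤ Subgroup.normalizer ((P : Subgroup G) : Set G) := by
    intro P hfP
    have h25 := D.card_five P
    have hPH : (P : Subgroup G) ≤ H := fun p hp =>
      memH.2 (comm_of_card_sq (p := 5) (P := (P : Subgroup G)) (by rw [h25]; norm_num) hp hfP)
    set P' : Subgroup H := (P : Subgroup G).subgroupOf H with hP'
    have hP'O : P' ≤ O := fun p hp => odd_mem p 25 (by decide) (Subtype.ext (by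
      have h' := pow_card_eq_one' (x := (⟨(p : G), hp⟩ : (P : Subgroup G)))
      rw [h25] at h'
      rw [SubgroupClass.coe_pow]
      exact congrArg Subtype.val h'))
    have hZ0P : Z0 ≤ P' := Subgroup.zpowers_le.2 hfP
    have hOP : O ≤ P' := by
      intro o ho
      have hnorm : ∀ o ∈ O, ∀ p ∈ P', o * p * o⁻¹ ∈ P' := fun o ho p hp => by
        have := P'.mul_mem (hZ0P (hcomm o ho p (hP'O hp))) hp
        rwa [inv_mul_cancel_right] at this
      -- the powers of `o` of order prime to five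
      obtain ⟨e5, m, hm, hom⟩ := Nat.exists_eq_pow_mul_and_not_dvd (orderOf_pos o).ne' 5 (by norm_num)
      set x := o ^ (5 ^ e5) with hx
      have hxm : x ^ m = 1 := by rw [hx, ← pow_mul, ← hom, pow_orderOf_eq_one]
      have hxc : ∀ p ∈ P', x * p = p * x := by
        intro p hp
        have hxO : x ∈ O := O.pow_mem ho _
        set c := x * p * x⁻¹ * p⁻¹
        have hcz : c ∈ Z0 := hcomm x hxO p (hP'O hp)
        have hcx : ∀ h : H, Commute h c := fun h => by
          obtain ⟨j, hj⟩ := Subgroup.mem_zpowers_iff.1 hcz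
          rw [← hj]; exact (hfc h).zpow_right j
        have hxpn : ∀ n : ℕ, x ^ n * p * (x ^ n)⁻¹ = c ^ n * p := by
          intro n
          induction n with
          | zero => simp
          | succ n ih =>
            rw [pow_succ', show x * x ^ n * p * (x * x ^ n)⁻¹ = x * (x ^ n * p * (x ^ n)⁻¹) * x⁻¹ by group,
              ih, show x * (c ^ n * p) * x⁻¹ = x * c ^ n * (p * x⁻¹) by group,
              ((hcx x).pow_right n).eq, pow_succ]
            simp only [c]; group
        have hcm1 : c ^ m = 1 := by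
          have := hxpn m
          rw [hxm, one_mul, inv_one, mul_one] at this
          exact mul_eq_right.1 this.symm
        have hc5 : c ^ 5 = 1 := by
          obtain ⟨j, hj⟩ := Subgroup.mem_zpowers_iff.1 hcz
          rw [← hj, ← zpow_natCast, ← zpow_mul, mul_comm, zpow_mul, zpow_natCast,
            show fH ^ 5 = 1 from Subtype.ext hf5, one_zpow]
        have hc1 := eq_one_of_coprime_pow hc5 hcm1 ((Nat.Prime.coprime_iff_not_dvd (by norm_num)).2 hm)
        exact mul_inv_eq_iff_eq_mul.1 (mul_inv_eq_one.1 hc1)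
      have hxP : x ∈ P' := by
        show (x : G) ∈ (P : Subgroup G)
        rw [← D.centralizer_sylow P, Subgroup.mem_centralizer_iff]
        exact fun p hp => (congrArg Subtype.val (hxc ⟨p, hPH hp⟩ hp)).symm
      have hx1 : x = 1 := by
        refine eq_one_of_coprime_pow hxm (n := 25) (Subtype.ext ?_) ?_
        · have h' := pow_card_eq_one' (x := (⟨(x : G), hxP⟩ : (P : Subgroup G)))
          rw [h25] at h'
          rw [SubgroupClass.coe_pow]
          exact congrArg Subtype.val h'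
        · rw [show (25 : ℕ) = 5 ^ 2 from rfl]
          exact (((Nat.Prime.coprime_iff_not_dvd (by norm_num)).2 hm).symm).pow_right 2
      -- so `o` is a 5-element normalising the Sylow subgroup
      have hoP : (o : G) ∈ Subgroup.normalizer ((P : Subgroup G) : Set G) := by
        have hn := fun y hy => hnorm o ho ⟨y, hPH hy⟩ hy
        refine Subgroup.mem_normalizer_iff.2 fun y => ⟨fun hy => hn y hy, fun hy => ?_⟩
        have := hnorm o⁻¹ (O.inv_mem ho) ⟨(o : G) * y * (o : G)⁻¹, hPH hy⟩ hy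
        change (o : G)⁻¹ * ((o : G) * y * (o : G)⁻¹) * ((o : G)⁻¹)⁻¹ ∈ (P : Subgroup G) at this
        rwa [show (o : G)⁻¹ * ((o : G) * y * (o : G)⁻¹) * ((o : G)⁻¹)⁻¹ = y by group] at this
      have hop : IsPGroup 5 (Subgroup.zpowers (o : G)) := by
        refine IsPGroup.of_card (n := e5) ?_
        rw [Nat.card_zpowers, Subgroup.orderOf_coe]
        have h' := orderOf_dvd_of_pow_eq_one hx1
        rw [hom] at h' ⊢
        have : m = 1 := by
          have h'' : m ∣ 1 := by
            have : 5 ^ e5 * m ∣ 5 ^ e5 * 1 := by rwa [mul_one]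
            exact Nat.dvd_of_mul_dvd_mul_left (by positivity) this
          exact Nat.dvd_one.1 h''
        rw [this, mul_one]
      show (o : G) ∈ (P : Subgroup G)
      have hle : Subgroup.zpowers (o : G) ≤ Subgroup.normalizer ((P : Subgroup G) : Set G) :=
        Subgroup.zpowers_le.2 hoP
      have hsup := P.3 (hop.to_sup_of_normal_right' P.2 hle) le_sup_right
      exact hsup ▸ (Subgroup.mem_sup_left (Subgroup.mem_zpowers (o : G)))
    have hPO : O = P' := le_antisymm hOP hP'O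
    refine ⟨?_, fun h hh => ?_⟩
    · have := hOc.card_mul
      rw [hT2, hPO, hP', Nat.card_congr (Subgroup.subgroupOfEquivOfLe hPH).toEquiv, h25] at this
      exact this.symm
    · refine Subgroup.mem_normalizer_iff.2 fun y => ⟨fun hy => ?_, fun hy => ?_⟩
      · have := hOn.conj_mem ⟨y, hPH hy⟩ (hPO.ge hy) ⟨h, hh⟩
        exact hPO.le this
      · have := hOn.conj_mem ⟨_, hPH hy⟩ (hPO.ge hy) (⟨h, hh⟩⁻¹ : H)
        have h2 := hPO.le this
        change h⁻¹ * (h * y * h⁻¹) * h⁻¹⁻¹ ∈ (P : Subgroup G) at h2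
        rwa [show h⁻¹ * (h * y * h⁻¹) * h⁻¹⁻¹ = y by group] at h2
  obtain ⟨P, hP⟩ := (IsPGroup.of_card (p := 5) (G := Subgroup.zpowers f) (n := 1)
    (by rw [Nat.card_zpowers, ho, pow_one])).exists_le_sylow
  exact ⟨(key P (hP (Subgroup.mem_zpowers f))).1, hinv, fun P hP => (key P hP).2⟩

theorem f1_t_free {f : G} (hf : f ∈ K) (ho : orderOf f = 5)
    (hsc : ∀ c ∈ C, c * f = f * c → ∃ q k : G, (q = 1 ∨ q = z) ∧ k ∈ Subgroup.zpowers f ∧ c = q * k)
    {i : G} (hi : IsConj i t) : ¬ i * f = f * i := by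
  intro h
  have h2 : orderOf i = 2 := by
    haveI := Fintype.ofFinite G
    exact CfsgLib.J2Order.order_of_conj D.pair.orderOf_t hi.symm
  obtain ⟨c, -, hc⟩ := (D.cent_f1 hf ho hsc).2.1 i h2 h
  exact D.pair.not_conj ((isConj_iff.2 ⟨c, hc⟩).symm.trans hi)

end Cent

end CfsgLib.J2Type
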