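import Cfsg.Agent.Lib.J2Type.Five

/-!
Groups of Hall–Janko type: the two classes of subgroups of order five.
-/

set_option autoImplicit false

open scoped Classical Pointwise

namespace CfsgLib.J2Type

variable {G : Type*} [Group G] [Finite G] {z t g : G} {Q K C V M0 : Subgroup G}

theorem zpowers_eq_of_mem {a b : G} (ha : orderOf a = 5) (hb : b ∈ Subgroup.zpowers a) (hb1 : b ≠ 1) :
    Subgroup.zpowers b = Subgroup.zpowers a := by
  refine Subgroup.eq_of_le_of_card_ge (Subgroup.zpowers_le.2 hb) ?_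
  rw [Nat.card_zpowers, Nat.card_zpowers, ha]
  have h := orderOf_dvd_of_mem_zpowers hb
  rw [ha] at h
  rcases (Nat.dvd_prime (by norm_num)).1 h with e | e
  · exact absurd (orderOf_eq_one_iff.1 e) hb1
  · exact e.ge

theorem centralizer_eq_of_zpowers {a b : G} (h : Subgroup.zpowers a = Subgroup.zpowers b) :
    Subgroup.centralizer ({a} : Set G) = Subgroup.centralizer ({b} : Set G) := by
  have key : ∀ {a b : G}, b ∈ Subgroup.zpowers a →
      Subgroup.centralizer ({a} : Set G) ≤ Subgroup.centralizer ({b} : Set G) := by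
    intro a b hb x hx
    obtain ⟨j, rfl⟩ := Subgroup.mem_zpowers_iff.1 hb
    rw [Subgroup.mem_centralizer_singleton_iff] at hx ⊢
    exact ((show Commute x a from hx).zpow_right j).eq
  exact le_antisymm (key (h ▸ Subgroup.mem_zpowers b)) (key (h.symm ▸ Subgroup.mem_zpowers a))

namespace Cent

variable (D : Cent z t Q K C V M0 g)
include D

theorem f_not_sq {f : G} (hf : f ∈ M0) (ho : orderOf f = 5)
    (hsc : ∀ y ∈ M0, y * f = f * y → y ∈ Subgroup.zpowers f)
    (hns : ∀ b ∈ M0, b * f * b⁻¹ ≠ f ^ 2 ∧ b * f * b⁻¹ ≠ f ^ 3) (u : G) : u * f * u⁻¹ ≠ f ^ 2 := by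
  haveI := Fintype.ofFinite G
  intro h
  have hodd : Odd (orderOf f) := by rw [ho]; decide
  have hif : u * t * u⁻¹ * f = f * (u * t * u⁻¹) := by
    have h1 : Commute (u * t * u⁻¹) (f ^ 2) := h ▸ (Commute.conj_iff u).2 (D.comm t D.t_mem f hf)
    have := h1.pow_right 3
    rwa [← pow_mul, show 2 * 3 = 5 + 1 from rfl, pow_succ, ← ho, pow_orderOf_eq_one, one_mul] at this
  obtain ⟨c, hc, hcV, hc1⟩ := D.invol_conj_V hf hsc hodd
    (CfsgLib.J2Order.order_of_conj D.pair.orderOf_t (isConj_iff.2 ⟨u, rfl⟩)) hif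
  obtain ⟨r, hr, hre⟩ := D.R_trans hcV hc1
  have hM : r⁻¹ * c * u * t = t * (r⁻¹ * c * u) := by
    refine mul_inv_eq_iff_eq_mul.1 ?_
    rw [show r⁻¹ * c * u * t * (r⁻¹ * c * u)⁻¹ = r⁻¹ * (c * (u * t * u⁻¹) * c⁻¹) * r by group, ← hre]
    group
  obtain ⟨v, hv, b, hb, e⟩ := D.decomp _ hM
  have h1 : r⁻¹ * c * u * f * (r⁻¹ * c * u)⁻¹ = f ^ 2 := by
    rw [show r⁻¹ * c * u * f * (r⁻¹ * c * u)⁻¹ = r⁻¹ * (c * (u * f * u⁻¹) * c⁻¹) * r by group, h,
      ((show Commute c f from hc).pow_right 2).eq, mul_inv_cancel_right]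
    have hrf : Commute r⁻¹ (f ^ 2) := ((show Commute r f from D.R_comm hr hf).inv_left).pow_right 2
    rw [hrf.eq, inv_mul_cancel_right]
  rw [e, show v * b * f * (v * b)⁻¹ = v * (b * f * b⁻¹) * v⁻¹ by group,
    D.comm v hv _ (M0.mul_mem (M0.mul_mem hb hf) (M0.inv_mem hb)), mul_inv_cancel_right] at h1
  exact (hns b hb).1 h1

theorem f1_not_sq {f : G} (hf : f ∈ K) (ho : orderOf f = 5)
    (hsc : ∀ c ∈ C, c * f = f * c → ∃ q k : G, (q = 1 ∨ q = z) ∧ k ∈ Subgroup.zpowers f ∧ c = q * k)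
    (hns : ∀ c ∈ C, c * f * c⁻¹ ≠ f ^ 2 ∧ c * f * c⁻¹ ≠ f ^ 3) (u : G) : u * f * u⁻¹ ≠ f ^ 2 := by
  haveI := Fintype.ofFinite G
  intro h
  have hif : u * z * u⁻¹ * f = f * (u * z * u⁻¹) := by
    have h1 : Commute (u * z * u⁻¹) (f ^ 2) :=
      h ▸ (Commute.conj_iff u).2 (D.z_centralizes (D.pair.S.K_le hf))
    have := h1.pow_right 3
    rwa [← pow_mul, show 2 * 3 = 5 + 1 from rfl, pow_succ, ← ho, pow_orderOf_eq_one, one_mul] at this
  obtain ⟨c, hc, hcz⟩ := (D.cent_f1 hf ho hsc).2.1 _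
    (CfsgLib.J2Order.order_of_conj D.pair.hyp.orderOf_z (isConj_iff.2 ⟨u, rfl⟩)) hif
  refine (hns (c * u) ((D.pair.hyp.mem_C _).2 (mul_inv_eq_iff_eq_mul.1 ?_))).1 ?_
  · rw [show c * u * z * (c * u)⁻¹ = c * (u * z * u⁻¹) * c⁻¹ by group, hcz]
  · rw [show c * u * f * (c * u)⁻¹ = c * (u * f * u⁻¹) * c⁻¹ by group, h,
      ((show Commute c f from hc).pow_right 2).eq, mul_inv_cancel_right]

/-- Sylow 5-subgroups: normalisers and classes. -/
theorem five_main : ∃ f f1 : G, f ∈ M0 ∧ orderOf f = 5 ∧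
    (∀ y ∈ M0, y * f = f * y → y ∈ Subgroup.zpowers f) ∧
    (∀ u : G, u * f * u⁻¹ ≠ f ^ 2) ∧
    orderOf f1 = 5 ∧ Nat.card (Subgroup.centralizer ({f1} : Set G)) = 50 ∧
    (∀ u : G, u * f * u⁻¹ ∉ Subgroup.zpowers f1) ∧
    (∀ y : G, orderOf y = 5 → ∃ u : G, u * y * u⁻¹ ∈ Subgroup.zpowers f ∨ u * y * u⁻¹ ∈ Subgroup.zpowers f1) ∧
    ∀ P : Sylow 5 G, Nat.card (Subgroup.normalizer ((P : Subgroup G) : Set G)) = 300 := by
  haveI := Fintype.ofFinite G
  haveI : Fact (Nat.Prime 5) := ⟨by decide⟩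
  obtain ⟨f, hf, ho, hsc, hns⟩ := D.exists_f
  obtain ⟨b, hb, hbo, hbsc, hbns⟩ := D.exists_f1
  obtain ⟨hH, π, hπs, hπ, P, hfP, hcm⟩ := D.cent_f hf ho hsc
  obtain ⟨hB, -, hBN⟩ := D.cent_f1 hb hbo hbsc
  obtain ⟨P1, hP1⟩ := (IsPGroup.of_card (p := 5) (G := Subgroup.zpowers b) (n := 1)
    (by rw [Nat.card_zpowers, hbo, pow_one])).exists_le_sylow
  obtain ⟨d, hd⟩ := MulAction.exists_smul_eq G P1 P
  set a := d * b * d⁻¹ with ha
  have hbP := hP1 (Subgroup.mem_zpowers b)
  have haP : a ∈ (P : Subgroup G) := by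
    rw [← hd, Sylow.coe_subgroup_smul]; exact ⟨b, hbP, rfl⟩
  have hao : orderOf a = 5 := by
    rw [ha, show d * b * d⁻¹ = MulAut.conj d b from rfl, MulEquiv.orderOf_eq, hbo]
  have hA : Nat.card (Subgroup.centralizer ({a} : Set G)) = 50 := by rw [ha, card_conj_eq, hB]
  set N := Subgroup.normalizer ((P : Subgroup G) : Set G) with hN
  have hAN : Subgroup.centralizer ({a} : Set G) ≤ N := by
    intro y hy
    rw [Subgroup.mem_centralizer_singleton_iff] at hy
    have h1 : d⁻¹ * y * d ∈ Subgroup.normalizer ((P1 : Subgroup G) : Set G) := by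
      refine hBN P1 hbP (Subgroup.mem_centralizer_singleton_iff.2 ?_)
      calc d⁻¹ * y * d * b = d⁻¹ * (y * a) * d := by rw [ha]; group
        _ = b * (d⁻¹ * y * d) := by rw [hy, ha]; group
    have hmem : ∀ x : G, x ∈ (P : Subgroup G) ↔ d⁻¹ * x * d ∈ (P1 : Subgroup G) := by
      intro x
      rw [← hd, Sylow.coe_subgroup_smul]
      exact ⟨fun ⟨w, hw, e⟩ => by
        change d * w * d⁻¹ = x at e
        rwa [← e, show d⁻¹ * (d * w * d⁻¹) * d = w by group],
        fun h => ⟨_, h, show d * (d⁻¹ * x * d) * d⁻¹ = x by group⟩⟩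
    refine Subgroup.mem_normalizer_iff.2 fun x => ?_
    show x ∈ (P : Subgroup G) ↔ y * x * y⁻¹ ∈ (P : Subgroup G)
    rw [hmem, hmem]
    have h2 := Subgroup.mem_normalizer_iff.1 h1 (d⁻¹ * x * d)
    rwa [show d⁻¹ * y * d * (d⁻¹ * x * d) * (d⁻¹ * y * d)⁻¹ = d⁻¹ * (y * x * y⁻¹) * d by group] at h2
  -- the centraliser of `f` in `N`
  have hFN : Nat.card (N ⊓ Subgroup.centralizer ({f} : Set G) : Subgroup G) = 50 := by
    obtain ⟨p, hp, hpf⟩ : ∃ p ∈ P, p ∉ Subgroup.zpowers f := by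
      by_contra h
      push Not at h
      have := Subgroup.card_le_of_le (show (P : Subgroup G) ≤ Subgroup.zpowers f from h)
      rw [D.card_five P, Nat.card_zpowers, ho] at this
      omega
    set pH : (Subgroup.centralizer ({f} : Set G)) := ⟨p, Subgroup.mem_centralizer_singleton_iff.2 (hcm p hp)⟩
    have hp1 : π pH ≠ 1 := fun h => hpf ((hπ pH).1 h)
    have hPH : (P : Subgroup G) ≤ (Subgroup.centralizer ({f} : Set G)) := fun x hx => Subgroup.mem_centralizer_singleton_iff.2 (hcm x hx)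
    set P' := (P : Subgroup G).subgroupOf (Subgroup.centralizer ({f} : Set G)) with hP'
    set Im := P'.map π with hIm
    have hfle : Subgroup.zpowers f ≤ (P : Subgroup G) := Subgroup.zpowers_le.2 hfP
    have hker : ∀ x : (Subgroup.centralizer ({f} : Set G)), π x ∈ Im ↔ x ∈ P' := by
      intro x
      refine ⟨?_, fun h => ⟨x, h, rfl⟩⟩
      rintro ⟨w, hw, e⟩
      have : π (w⁻¹ * x) = 1 := by rw [map_mul, map_inv, e, inv_mul_cancel]
      have h2 : w⁻¹ * x ∈ P' := hfle ((hπ _).1 this)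
      have := P'.mul_mem hw h2
      rwa [mul_inv_cancel_left] at this
    have hImc : Nat.card Im = 5 := by
      have h25 : Nat.card P' = 25 := by
        rw [hP', Nat.card_congr (Subgroup.subgroupOfEquivOfLe hPH).toEquiv, D.card_five P]
      let φ : P' →* Im := (π.comp P'.subtype).codRestrict Im (fun x => ⟨x.1, x.2, rfl⟩)
      have hk : Nat.card φ.ker = 5 := by
        have hfH : f ∈ (Subgroup.centralizer ({f} : Set G)) := Subgroup.mem_centralizer_singleton_iff.2 rfl
        refine ((Nat.card_congr ⟨fun x => ⟨((x.1 : (Subgroup.centralizer ({f} : Set G))) : G), (hπ _).1 (congrArg Subtype.val (MonoidHom.mem_ker.1 x.2))⟩,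
          fun y => ⟨⟨⟨y.1, Subgroup.zpowers_le.2 hfH y.2⟩, hfle y.2⟩, Subtype.ext ((hπ _).2 y.2)⟩,
          fun _ => rfl, fun _ => rfl⟩).trans (Nat.card_zpowers f)).trans ho
      have hs : Function.Surjective φ := by
        rintro ⟨_, x, hx, rfl⟩; exact ⟨⟨x, hx⟩, rfl⟩
      have h := φ.ker.card_mul_index
      rw [Subgroup.index_ker, MonoidHom.range_eq_top.2 hs, Subgroup.card_top, hk, h25] at h
      omega
    have hp5 : π pH ^ 5 = 1 := by
      have h := pow_card_eq_one' (x := (⟨π pH, pH, hp, rfl⟩ : Im))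
      rw [hImc] at h
      exact congrArg Subtype.val h
    haveI : Fintype Im := Fintype.ofFinite _
    have hgen : ∀ y : alternatingGroup (Fin 5), y ∈ Im ↔
        y = 1 ∨ y = π pH ∨ y = π pH ^ 2 ∨ y = π pH ^ 3 ∨ y = π pH ^ 4 := by
      intro y
      constructor
      · intro hy
        refine alt5_five_cent (π pH) hp5 hp1 y ?_
        obtain ⟨x, hx, rfl⟩ := hy
        rw [← map_mul, ← map_mul]
        exact congrArg π (Subtype.ext (comm_of_card_sq (p := 5) (P := (P : Subgroup G))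
          (by rw [D.card_five P]; norm_num) hx hp))
      · have hpI : π pH ∈ Im := ⟨pH, hp, rfl⟩
        rintro (rfl | rfl | rfl | rfl | rfl)
        exacts [Im.one_mem, hpI, Im.pow_mem hpI _, Im.pow_mem hpI _, Im.pow_mem hpI _]
    have hnorm : ∀ x : (Subgroup.centralizer ({f} : Set G)), (x : G) ∈ N ↔
        (π x * π pH * (π x)⁻¹ = π pH ∨ π x * π pH * (π x)⁻¹ = π pH ^ 2 ∨
          π x * π pH * (π x)⁻¹ = π pH ^ 3 ∨ π x * π pH * (π x)⁻¹ = π pH ^ 4) := by
      intro x
      constructor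
      · intro hx
        have h1 : x * pH * x⁻¹ ∈ P' := (Subgroup.mem_normalizer_iff.1 hx p).1 hp
        have h2 := (hgen _).1 ((hker _).2 h1)
        simp only [map_mul, map_inv] at h2
        exact h2.resolve_left fun e => hp1 (conj_eq_one_iff.1 e)
      · intro hx
        have hfwd : ∀ w : (Subgroup.centralizer ({f} : Set G)), w ∈ P' → x * w * x⁻¹ ∈ P' := by
          intro w hw
          apply (hker _).1
          rw [map_mul, map_mul, map_inv]
          have hxI : π x * π pH * (π x)⁻¹ ∈ Im := (hgen _).2 (Or.inr hx)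
          rcases (hgen _).1 ((hker w).2 hw) with e | e | e | e | e <;> rw [e]
          · simp
          · exact hxI
          all_goals (rw [← conj_pow]; exact Im.pow_mem hxI _)
        refine Subgroup.mem_normalizer_iff.2 fun y => ⟨fun hy => hfwd ⟨y, hPH hy⟩ hy, fun hy => ?_⟩
        let φ : P' → P' := fun w => ⟨x * w.1 * x⁻¹, hfwd w.1 w.2⟩
        have hφ : Function.Injective φ := fun v w h =>
          Subtype.ext (mul_left_cancel (mul_right_cancel (congrArg Subtype.val h)))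
        obtain ⟨w, hw⟩ := (Finite.injective_iff_surjective.1 hφ) ⟨⟨_, hPH hy⟩, hy⟩
        have hw' : (x : G) * (w.1 : (Subgroup.centralizer ({f} : Set G))) * (x : G)⁻¹ = (x : G) * y * (x : G)⁻¹ :=
          congrArg (fun v : P' => ((v : (Subgroup.centralizer ({f} : Set G))) : G)) hw
        exact (mul_left_cancel (mul_right_cancel hw')) ▸ w.2
    set S : Finset (alternatingGroup (Fin 5)) := Finset.univ.filter fun c =>
      c * π pH * c⁻¹ = π pH ∨ c * π pH * c⁻¹ = π pH ^ 2 ∨ c * π pH * c⁻¹ = π pH ^ 3 ∨ c * π pH * c⁻¹ = π pH ^ 4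
    have hS : S.card = 10 := alt5_five_norm _ hp5 hp1
    set T : Finset (Subgroup.centralizer ({f} : Set G)) := Finset.univ.filter fun x => π x ∈ S
    have hT : T.card = 10 * 5 := by
      have hfib := Finset.card_eq_sum_card_fiberwise (f := ⇑π) (s := T) (t := S)
        fun x hx => (Finset.mem_filter.1 hx).2
      refine hfib.trans ((Finset.sum_const_nat (m := 5) ?_).trans (by rw [hS]))
      intro y hy
      obtain ⟨x0, rfl⟩ := hπs y
      have hfH : f ∈ (Subgroup.centralizer ({f} : Set G)) := Subgroup.mem_centralizer_singleton_iff.2 rfl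
      refine Eq.trans ?_ ((Nat.card_zpowers f).trans ho)
      rw [Nat.card_eq_fintype_card, Fintype.card_subtype]
      refine Finset.card_bij (fun x _ => ((x0⁻¹ * x : (Subgroup.centralizer ({f} : Set G))) : G)) ?_ ?_ ?_
      · intro x hx
        refine Finset.mem_filter.2 ⟨Finset.mem_univ _, (hπ _).1 ?_⟩
        rw [map_mul, map_inv, (Finset.mem_filter.1 hx).2, inv_mul_cancel]
      · exact fun x _ w _ h => mul_left_cancel (Subtype.ext h)
      · intro w hw
        have hwf := (Finset.mem_filter.1 hw).2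
        set wH : (Subgroup.centralizer ({f} : Set G)) := ⟨w, Subgroup.zpowers_le.2 hfH hwf⟩
        refine ⟨x0 * wH, Finset.mem_filter.2 ⟨Finset.mem_filter.2 ⟨Finset.mem_univ _, ?_⟩, ?_⟩, ?_⟩
        · rw [map_mul, (hπ wH).2 hwf, mul_one]; exact hy
        · rw [map_mul, (hπ wH).2 hwf, mul_one]
        · simp [wH]
    rw [show (50 : ℕ) = 10 * 5 from rfl, ← hT, ← Fintype.card_coe, ← Nat.card_eq_fintype_card]
    exact Nat.card_congr ⟨fun x => ⟨⟨x.1, x.2.2⟩, Finset.mem_filter.2 ⟨Finset.mem_univ _,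
        Finset.mem_filter.2 ⟨Finset.mem_univ _, (hnorm ⟨x.1, x.2.2⟩).1 x.2.1⟩⟩⟩,
      fun x => ⟨(x.1 : G), (hnorm x.1).2 (Finset.mem_filter.1 (Finset.mem_filter.1 x.2).2).2, x.1.2⟩,
      fun _ => rfl, fun _ => rfl⟩
  -- orbits
  set O := fun x : G => (Finset.univ.filter fun n => n ∈ N).image fun n => n * x * n⁻¹ with hO
  set P24 := (Finset.univ.filter fun x => x ∈ (P : Subgroup G)).erase 1 with hP24
  have h24 : P24.card = 24 := by
    rw [hP24, Finset.card_erase_of_mem (by simp), ← Fintype.card_subtype, ← Nat.card_eq_fintype_card]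
    show Nat.card P - 1 = 24
    rw [D.card_five P]
  have hOP : ∀ x ∈ (P : Subgroup G), x ≠ 1 → O x ⊆ P24 := by
    intro x hx hx1 y hy
    obtain ⟨n, hn, rfl⟩ := Finset.mem_image.1 hy
    exact Finset.mem_erase.2 ⟨fun e => hx1 (conj_eq_one_iff.1 e), Finset.mem_filter.2 ⟨Finset.mem_univ _,
      (Subgroup.mem_normalizer_iff.1 (Finset.mem_filter.1 hn).2 x).1 hx⟩⟩
  have hdisj : ∀ x w : G, (∀ u : G, u * x * u⁻¹ ≠ w) → Disjoint (O x) (O w) := by
    intro x w h
    rw [Finset.disjoint_left]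
    intro y hy hy'
    obtain ⟨n, -, rfl⟩ := Finset.mem_image.1 hy
    obtain ⟨m, -, e⟩ := Finset.mem_image.1 hy'
    exact h (m⁻¹ * n) (by
      rw [show m⁻¹ * n * x * (m⁻¹ * n)⁻¹ = m⁻¹ * (n * x * n⁻¹) * m by group, ← e]; group)
  have hA' : Nat.card (N ⊓ Subgroup.centralizer ({a} : Set G) : Subgroup G) = 50 := by
    rw [inf_eq_right.2 hAN, hA]
  have hf1 : f ≠ 1 := fun e => by rw [e, orderOf_one] at ho; omega
  have ha1 : a ≠ 1 := fun e => by rw [e, orderOf_one] at hao; omega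
  have hne_af : ∀ (i : ℕ) (u : G), u * f * u⁻¹ ≠ a ^ i := by
    intro i u h
    have h1 : a ^ i ≠ 1 := fun e => hf1 (conj_eq_one_iff.1 (h.trans e))
    have h2 := centralizer_eq_of_zpowers (zpowers_eq_of_mem hao (Subgroup.pow_mem _ (Subgroup.mem_zpowers a) i) h1)
    have h3 := card_conj_eq u f
    rw [h, h2, hA, hH] at h3
    norm_num at h3
  have hcN := Sylow.card_eq_index_normalizer P
  have hmod := card_sylow_modEq_one 5 G
  have hidx := N.card_mul_index
  rw [D.order] at hidx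
  rw [hcN] at hmod
  have of := card_orbit N f
  have oa := card_orbit N a
  rw [hFN] at of
  rw [hA'] at oa
  change (O f).card * 50 = Nat.card N at of
  change (O a).card * 50 = Nat.card N at oa
  have hfa : Disjoint (O f) (O a) := hdisj f a fun u => by
    have := hne_af 1 u
    rwa [pow_one] at this
  have hle24 : (O f).card + (O a).card ≤ 24 := by
    rw [← Finset.card_union_of_disjoint hfa, ← h24]
    exact Finset.card_le_card (Finset.union_subset (hOP f hfP hf1) (hOP a haP ha1))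
  have hidx' : (O f).card * N.index = 12096 := by
    have h : 50 * ((O f).card * N.index) = 50 * 12096 := by rw [← mul_assoc, mul_comm 50, of, hidx]
    exact Nat.eq_of_mul_eq_mul_left (by norm_num) h
  have h6 : (O f).card = 1 ∨ (O f).card = 6 := by
    have hle : (O f).card ≤ 12 := by omega
    have hm : N.index % 5 = 1 := hmod
    have h5 : ((O f).card * N.index) % 5 = 12096 % 5 := by rw [hidx']
    rw [Nat.mul_mod, hm, mul_one, Nat.mod_mod] at h5
    have hd : (O f).card ∣ 12096 := ⟨_, hidx'.symm⟩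
    interval_cases h : (O f).card <;> first | omega | norm_num at h5 hd
  have hspan : ∀ n : G, n * f = f * n → n * a = a * n → n ∈ (P : Subgroup G) := by
    intro n h1 h2
    rw [← D.centralizer_sylow P, Subgroup.mem_centralizer_iff]
    intro p hp
    have hle : (P : Subgroup G) ≤ Subgroup.centralizer ({n} : Set G) := by
      set L := (P : Subgroup G) ⊓ Subgroup.centralizer ({n} : Set G)
      have hfL : f ∈ L := ⟨hfP, Subgroup.mem_centralizer_singleton_iff.2 h1.symm⟩
      have haL : a ∈ L := ⟨haP, Subgroup.mem_centralizer_singleton_iff.2 h2.symm⟩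
      have hd : Nat.card L ∣ 5 ^ 2 := by
        have := Subgroup.card_dvd_of_le (inf_le_left : L ≤ (P : Subgroup G))
        rwa [D.card_five P] at this
      obtain ⟨i, hi, hLc⟩ := (Nat.dvd_prime_pow (by norm_num)).1 hd
      have hi2 : i = 2 := by
        by_contra hne
        have hL5 : Nat.card L ≤ 5 := by
          rw [hLc]
          calc 5 ^ i ≤ 5 ^ 1 := Nat.pow_le_pow_right (by norm_num) (by omega)
            _ = 5 := pow_one 5
        have hzL : Subgroup.zpowers f = L := by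
          refine Subgroup.eq_of_le_of_card_ge (Subgroup.zpowers_le.2 hfL) ?_
          rw [Nat.card_zpowers, ho]; exact hL5
        have h := centralizer_eq_of_zpowers (zpowers_eq_of_mem ho (hzL.ge haL) ha1)
        rw [h, hH] at hA
        norm_num at hA
      have hLP : L = (P : Subgroup G) := Subgroup.eq_of_le_of_card_ge inf_le_left (by
        rw [hLc, hi2, D.card_five P]; norm_num)
      exact hLP ▸ inf_le_right
    exact Subgroup.mem_centralizer_singleton_iff.1 (hle hp)
  have hN300 : Nat.card N = 300 := by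
    rcases h6 with h | h
    · exfalso
      have hoa : (O a).card = 1 := Nat.eq_of_mul_eq_mul_right (by norm_num : 0 < 50)
        (oa.trans (of.symm.trans (by rw [h])))
      have hfix : ∀ x : G, (O x).card = 1 → ∀ n ∈ N, n * x = x * n := by
        intro x hx n hn
        have m1 : n * x * n⁻¹ ∈ O x := Finset.mem_image.2 ⟨n, Finset.mem_filter.2 ⟨Finset.mem_univ _, hn⟩, rfl⟩
        have m2 : x ∈ O x := Finset.mem_image.2 ⟨1, Finset.mem_filter.2 ⟨Finset.mem_univ _, N.one_mem⟩, by group⟩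
        exact mul_inv_eq_iff_eq_mul.1 (Finset.card_le_one.1 hx.le _ m1 _ m2)
      have hle : N ≤ (P : Subgroup G) := fun n hn => hspan n (hfix f h n hn) (hfix a hoa n hn)
      have := Subgroup.card_le_of_le hle
      rw [D.card_five P, ← of, h] at this
      omega
    · rw [← of, h]
  have hcard6 : ∀ x : G, Nat.card (N ⊓ Subgroup.centralizer ({x} : Set G) : Subgroup G) = 50 →
      (O x).card = 6 := by
    intro x hx
    have h := card_orbit N x
    rw [hx, hN300] at h
    change (O x).card * 50 = 300 at h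
    omega
  have hsq : ∀ {x : G}, orderOf x = 5 → x ^ 2 ∈ Subgroup.zpowers x ∧ x ^ 2 ≠ 1 := fun {x} h =>
    ⟨Subgroup.pow_mem _ (Subgroup.mem_zpowers x) 2, fun e => by
      have := orderOf_dvd_of_pow_eq_one e
      rw [h] at this
      norm_num at this⟩
  have hf2 : Nat.card (N ⊓ Subgroup.centralizer ({f ^ 2} : Set G) : Subgroup G) = 50 := by
    rw [centralizer_eq_of_zpowers (zpowers_eq_of_mem ho (hsq ho).1 (hsq ho).2), hFN]
  have ha2 : Nat.card (N ⊓ Subgroup.centralizer ({a ^ 2} : Set G) : Subgroup G) = 50 := by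
    rw [centralizer_eq_of_zpowers (zpowers_eq_of_mem hao (hsq hao).1 (hsq hao).2), hA']
  have hne_af2 : ∀ (i : ℕ) (u : G), u * f ^ 2 * u⁻¹ ≠ a ^ i := by
    intro i u h
    apply hne_af (i * 3) u
    rw [pow_mul, ← h, conj_pow, ← pow_mul, show 2 * 3 = orderOf f + 1 by rw [ho], pow_succ,
      pow_orderOf_eq_one, one_mul]
  have hbsq := D.f1_not_sq hb hbo hbsc hbns
  have hasq : ∀ u : G, u * a * u⁻¹ ≠ a ^ 2 := by
    intro u h
    apply hbsq (d⁻¹ * u * d)
    rw [show d⁻¹ * u * d * b * (d⁻¹ * u * d)⁻¹ = d⁻¹ * (u * a * u⁻¹) * d by rw [ha]; group, h, ha,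
      conj_pow]
    group
  set U := O f ∪ O (f ^ 2) ∪ (O a ∪ O (a ^ 2))
  have hU : U = P24 := by
    refine Finset.eq_of_subset_of_card_le ?_ ?_
    · exact Finset.union_subset
        (Finset.union_subset (hOP f hfP hf1) (hOP _ (Subgroup.pow_mem _ hfP 2) (hsq ho).2))
        (Finset.union_subset (hOP a haP ha1) (hOP _ (Subgroup.pow_mem _ haP 2) (hsq hao).2))
    · have d1 := hdisj f (f ^ 2) (D.f_not_sq hf ho hsc hns)
      have d2 := hdisj a (a ^ 2) hasq
      have d3 : Disjoint (O f ∪ O (f ^ 2)) (O a ∪ O (a ^ 2)) := by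
        simp only [Finset.disjoint_union_left, Finset.disjoint_union_right]
        exact ⟨⟨hfa, hdisj _ _ fun u => by
            have := hne_af2 1 u
            rwa [pow_one] at this⟩,
          hdisj _ _ (hne_af 2), hdisj _ _ (hne_af2 2)⟩
      rw [h24, Finset.card_union_of_disjoint d3, Finset.card_union_of_disjoint d1,
        Finset.card_union_of_disjoint d2, hcard6 f hFN, hcard6 _ hf2, hcard6 a hA', hcard6 _ ha2]
  refine ⟨f, a, hf, ho, hsc, D.f_not_sq hf ho hsc hns, hao, hA, ?_, ?_, fun P' => ?_⟩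
  · intro u h
    obtain ⟨i, hi⟩ := (mem_powers_iff_mem_zpowers.2 h)
    exact hne_af i u hi.symm
  · intro y hy
    obtain ⟨Py, hPy⟩ := (IsPGroup.of_card (p := 5) (G := Subgroup.zpowers y) (n := 1)
      (by rw [Nat.card_zpowers, hy, pow_one])).exists_le_sylow
    obtain ⟨e, he⟩ := MulAction.exists_smul_eq G Py P
    have hm : e * y * e⁻¹ ∈ P24 := by
      refine Finset.mem_erase.2 ⟨fun h => ?_, Finset.mem_filter.2 ⟨Finset.mem_univ _, ?_⟩⟩
      · rw [conj_eq_one_iff] at h; rw [h, orderOf_one] at hy; omega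
      · rw [← he, Sylow.coe_subgroup_smul]; exact ⟨y, hPy (Subgroup.mem_zpowers y), rfl⟩
    rw [← hU] at hm
    simp only [U, Finset.mem_union, hO, Finset.mem_image] at hm
    rcases hm with (⟨n, -, h⟩ | ⟨n, -, h⟩) | (⟨n, -, h⟩ | ⟨n, -, h⟩) <;> refine ⟨n⁻¹ * e, ?_⟩ <;>
      rw [show n⁻¹ * e * y * (n⁻¹ * e)⁻¹ = n⁻¹ * (e * y * e⁻¹) * n by group, ← h]
    · left; convert Subgroup.mem_zpowers f using 1; group
    · left; convert (hsq ho).1 using 1; group
    · right; convert Subgroup.mem_zpowers a using 1; group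
    · right; convert (hsq hao).1 using 1; group
  · obtain ⟨e, he⟩ := MulAction.exists_smul_eq G P P'
    rw [← hN300, hN, ← he, Sylow.coe_subgroup_smul]
    rw [show MulAut.conj e • (P : Subgroup G) = (P : Subgroup G).map (MulAut.conj e).toMonoidHom from rfl,
      ← Subgroup.map_equiv_normalizer_eq]
    exact (Nat.card_congr (Subgroup.equivMapOfInjective _ _ (MulAut.conj e).injective).toEquiv).symm

end Cent

end CfsgLib.J2Type
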