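import Cfsg.Agent.Lib.J2Type.Classes

/-!
Groups of Hall–Janko type: the group `C(z) ∩ C(t)` of order 16.
-/

set_option autoImplicit false

open scoped Classical

namespace CfsgLib.J2Type

open CfsgLib.J2Order

variable {G : Type*} [Group G] [Finite G] {z t : G} {Q K C : Subgroup G}

namespace Pair

variable (P : Pair z t Q K C)
include P

theorem mem_M {g : G} : g ∈ Subgroup.centralizer ({t} : Set G) ↔ g * t = t * g :=
  Subgroup.mem_centralizer_singleton_iff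

theorem cent_K {k : G} (hk : k ∈ K) (hkt : k * t = t * k) :
    k * k = 1 ∧ ∀ l ∈ K, l * t = t * l → k * l = l * k := by
  obtain ⟨e⟩ := P.S.equivK
  have h2 : e ⟨t, P.t_mem⟩ * e ⟨t, P.t_mem⟩ = 1 := by
    rw [← map_mul, show (⟨t, P.t_mem⟩ : K) * ⟨t, P.t_mem⟩ = 1 from Subtype.ext P.t_sq, map_one]
  have h1 : e ⟨t, P.t_mem⟩ ≠ 1 := fun h => P.t_ne
    (congrArg Subtype.val (e.injective (h.trans (map_one e).symm)))
  have key : ∀ l : G, ∀ hl : l ∈ K, l * t = t * l →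
      e ⟨l, hl⟩ * e ⟨t, P.t_mem⟩ = e ⟨t, P.t_mem⟩ * e ⟨l, hl⟩ := by
    intro l hl h
    rw [← map_mul, ← map_mul]
    exact congrArg e (Subtype.ext h)
  refine ⟨?_, fun l hl hlt => ?_⟩
  · have := (alt5_invol_cent _ h2 h1).2 _ (key k hk hkt)
    rw [← map_mul, ← map_one e] at this
    exact congrArg Subtype.val (e.injective this)
  · have := alt5_invol_cent_comm _ h2 h1 _ (key k hk hkt) _ (key l hl hlt)
    rw [← map_mul, ← map_mul] at this
    exact congrArg Subtype.val (e.injective this)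

theorem card_cent_K : Nat.card (K ⊓ Subgroup.centralizer ({t} : Set G) : Subgroup G) = 4 := by
  obtain ⟨e⟩ := P.S.equivK
  have h2 : e ⟨t, P.t_mem⟩ * e ⟨t, P.t_mem⟩ = 1 := by
    rw [← map_mul, show (⟨t, P.t_mem⟩ : K) * ⟨t, P.t_mem⟩ = 1 from Subtype.ext P.t_sq, map_one]
  have h1 : e ⟨t, P.t_mem⟩ ≠ 1 := fun h => P.t_ne
    (congrArg Subtype.val (e.injective (h.trans (map_one e).symm)))
  set T := e ⟨t, P.t_mem⟩
  rw [← (alt5_invol_cent T h2 h1).1, ← Fintype.card_coe, ← Nat.card_eq_fintype_card]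
  refine Nat.card_congr
    ⟨fun k => ⟨e ⟨k.1, k.2.1⟩, Finset.mem_filter.2 ⟨Finset.mem_univ _, ?_⟩⟩,
     fun c => ⟨((e.symm c.1 : K) : G), SetLike.coe_mem _, ?_⟩, fun k => ?_, fun c => ?_⟩
  · rw [← map_mul, ← map_mul]
    exact congrArg e (Subtype.ext (P.mem_M.1 k.2.2))
  · have hc := (Finset.mem_filter.1 c.2).2
    refine P.mem_M.2 ?_
    have : e.symm c.1 * ⟨t, P.t_mem⟩ = ⟨t, P.t_mem⟩ * e.symm c.1 := e.injective (by simp [hc, T])
    exact congrArg Subtype.val this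
  · simp
  · simp

theorem z_mem_W : z ∈ Q ⊓ Subgroup.centralizer ({t} : Set G) :=
  ⟨P.S.z_mem, P.mem_M.2 ((P.hyp.mem_C t).1 P.t_memC).symm⟩

theorem card_W : Nat.card (Q ⊓ Subgroup.centralizer ({t} : Set G) : Subgroup G) = 4 :=
  (P.hyp.cq P.t_mem P.t_sq P.t_ne).1

theorem W_sq {q : G} (hq : q ∈ Q) (hqt : q * t = t * q) : q * q = 1 :=
  (P.hyp.cq P.t_mem P.t_sq P.t_ne).2.1 q hq hqt

theorem W_conj {q : G} (hq : q ∈ Q) (hqt : q * t = t * q) (h1 : q ≠ 1) : IsConj q z :=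
  P.hyp.Qz q hq (orderOf_eq_prime (by rw [pow_two]; exact P.W_sq hq hqt) h1)

theorem A_decomp {a : G} (ha : a ∈ C) (hat : a * t = t * a) :
    ∃ q k : G, q ∈ Q ∧ q * t = t * q ∧ k ∈ K ∧ k * t = t * k ∧ a = q * k := by
  obtain ⟨q, hq, k, hk, rfl⟩ := P.S.decomp a ha
  obtain ⟨h1, h2⟩ := P.hyp.commute_decomp hq hk P.t_mem hat
  exact ⟨q, k, hq, h2, hk, h1, rfl⟩

theorem W_K_comm {q k : G} (hq : q ∈ Q) (hqt : q * t = t * q) (hk : k ∈ K) (hkt : k * t = t * k) :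
    q * k = k * q := by
  by_cases h1 : k = 1
  · simp [h1]
  exact P.hyp.cq_eq P.t_mem P.t_sq P.t_ne hk (P.cent_K hk hkt).1 h1 hkt.symm q hq hqt

theorem card_A : Nat.card (C ⊓ Subgroup.centralizer ({t} : Set G) : Subgroup G) = 16 := by
  let W := Q ⊓ Subgroup.centralizer ({t} : Set G)
  let D := K ⊓ Subgroup.centralizer ({t} : Set G)
  let f : W × D → (C ⊓ Subgroup.centralizer ({t} : Set G) : Subgroup G) := fun p =>
    ⟨(p.1 : G) * p.2, Subgroup.mul_mem _ ⟨P.S.Q_le p.1.2.1, p.1.2.2⟩ ⟨P.S.K_le p.2.2.1, p.2.2.2⟩⟩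
  have hf : Function.Bijective f := by
    refine ⟨fun p r h => ?_, fun a => ?_⟩
    · obtain ⟨h1, h2⟩ := P.hyp.decomp_unique p.1.2.1 r.1.2.1 p.2.2.1 r.2.2.1 (congrArg Subtype.val h)
      exact Prod.ext (Subtype.ext h1) (Subtype.ext h2)
    · obtain ⟨q, k, hq, hqt, hk, hkt, h⟩ := P.A_decomp a.2.1 (P.mem_M.1 a.2.2)
      exact ⟨(⟨q, hq, P.mem_M.2 hqt⟩, ⟨k, hk, P.mem_M.2 hkt⟩), Subtype.ext h.symm⟩
  rw [← Nat.card_eq_of_bijective f hf, Nat.card_prod, P.card_W, P.card_cent_K]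

theorem W_comm {q r : G} (hq : q ∈ Q) (hqt : q * t = t * q) (hr : r ∈ Q) (hrt : r * t = t * r) :
    q * r = r * q := by
  have h := P.W_sq (Q.mul_mem hq hr) ((Commute.mul_left (show Commute q t from hqt) hrt).eq)
  calc q * r = (q * r)⁻¹ := (inv_eq_of_mul_eq_one_right h).symm
    _ = r * q := by rw [mul_inv_rev, inv_eq_of_mul_eq_one_right (P.W_sq hr hrt),
        inv_eq_of_mul_eq_one_right (P.W_sq hq hqt)]

theorem A_comm {a b : G} (ha : a ∈ C) (hat : a * t = t * a) (hb : b ∈ C) (hbt : b * t = t * b) :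
    a * b = b * a := by
  obtain ⟨q, k, hq, hqt, hk, hkt, rfl⟩ := P.A_decomp ha hat
  obtain ⟨r, l, hr, hrt, hl, hlt, rfl⟩ := P.A_decomp hb hbt
  have c1 : Commute q r := P.W_comm hq hqt hr hrt
  have c2 : Commute q l := P.W_K_comm hq hqt hl hlt
  have c3 : Commute k r := (P.W_K_comm hr hrt hk hkt).symm
  have c4 : Commute k l := (P.cent_K hk hkt).2 l hl hlt
  exact ((c1.mul_right c2).mul_left (c3.mul_right c4)).eq

theorem A_sq {a : G} (ha : a ∈ C) (hat : a * t = t * a) : a * a = 1 := by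
  obtain ⟨q, k, hq, hqt, hk, hkt, rfl⟩ := P.A_decomp ha hat
  rw [show q * k * (q * k) = q * (k * q) * k by group, ← P.W_K_comm hq hqt hk hkt,
    show q * (q * k) * k = (q * q) * (k * k) by group, P.W_sq hq hqt, (P.cent_K hk hkt).1, one_mul]

theorem A_notQ {a : G} (ha : a ∈ C) (hat : a * t = t * a) (hQ : a ∉ Q) : IsConj a t :=
  P.Cz a ha (orderOf_eq_prime (by rw [pow_two]; exact P.A_sq ha hat) fun e => hQ (e ▸ Q.one_mem)) hQ

theorem A_z_type {a : G} (ha : a ∈ C) (hat : a * t = t * a) (hz : IsConj a z) :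
    a ∈ Q ∧ a ≠ 1 := by
  refine ⟨?_, ?_⟩
  · by_contra h
    exact P.not_conj (hz.symm.trans (P.A_notQ ha hat h))
  · intro h
    obtain ⟨c, hc⟩ := isConj_iff.1 hz
    rw [h, mul_one, mul_inv_cancel] at hc
    exact P.S.z_ne hc.symm

/-- For an involution `x` of `Q` centralised by `t`, the centraliser of `x` in `C(t)` is again `C ∩ C(t)`. -/
theorem cent_W {x : G} (hx : x ∈ Q) (hxt : x * t = t * x) (hx1 : x ≠ 1) :
    (Subgroup.centralizer ({x} : Set G) ⊓ Subgroup.centralizer ({t} : Set G) : Subgroup G) =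
      C ⊓ Subgroup.centralizer ({t} : Set G) := by
  set M := Subgroup.centralizer ({t} : Set G) with hM
  have hle : C ⊓ M ≤ Subgroup.centralizer ({x} : Set G) ⊓ M := fun a ha =>
    ⟨Subgroup.mem_centralizer_singleton_iff.2 (P.A_comm ha.1 (P.mem_M.1 ha.2) (P.S.Q_le hx) hxt), ha.2⟩
  refine (Subgroup.eq_of_le_of_card_ge hle ?_).symm
  obtain ⟨h, hht, hhx⟩ := P.trans_t (P.W_conj hx hxt hx1) hxt
  refine Nat.card_le_card_of_injective (fun a => ⟨h * a.1 * h⁻¹, ?_, ?_⟩) fun a b e => ?_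
  · have ha := Subgroup.mem_centralizer_singleton_iff.1 a.2.1
    refine (P.hyp.mem_C _).2 ?_
    rw [← hhx]
    calc h * a.1 * h⁻¹ * (h * x * h⁻¹) = h * (a.1 * x) * h⁻¹ := by group
      _ = h * x * h⁻¹ * (h * a.1 * h⁻¹) := by rw [ha]; group
  · exact Subgroup.mul_mem _ (Subgroup.mul_mem _ (P.mem_M.2 hht) a.2.2)
      (Subgroup.inv_mem _ (P.mem_M.2 hht))
  · exact Subtype.ext (mul_left_cancel (mul_right_cancel (congrArg Subtype.val e)))

/-- The normaliser of `C ∩ C(t)` in `C(t)` has order 48. -/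
theorem card_N :
    Nat.card (Subgroup.centralizer ({t} : Set G) ⊓
      Subgroup.normalizer ((C ⊓ Subgroup.centralizer ({t} : Set G) : Subgroup G) : Set G) : Subgroup G)
      = 48 := by
  have := Fintype.ofFinite G
  set M := Subgroup.centralizer ({t} : Set G) with hM
  set A := C ⊓ M with hA
  set N := M ⊓ Subgroup.normalizer (A : Set G)
  set W := Q ⊓ M
  have memN : ∀ h : G, h ∈ M → h * z * h⁻¹ ∈ Q → h * z * h⁻¹ ≠ 1 → h ∈ N := by
    intro h hh hxQ hx1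
    have hxt : h * z * h⁻¹ * t = t * (h * z * h⁻¹) := P.mem_M.1
      (M.mul_mem (M.mul_mem hh P.z_mem_W.2) (M.inv_mem hh))
    refine ⟨hh, Subgroup.mem_normalizer_iff.2 fun a => ⟨fun ha => ?_, fun ha => ?_⟩⟩
    · have : h * a * h⁻¹ ∈ Subgroup.centralizer ({h * z * h⁻¹} : Set G) ⊓ M := by
        refine ⟨Subgroup.mem_centralizer_singleton_iff.2 ?_, M.mul_mem (M.mul_mem hh ha.2) (M.inv_mem hh)⟩
        calc h * a * h⁻¹ * (h * z * h⁻¹) = h * (a * z) * h⁻¹ := by group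
          _ = h * z * h⁻¹ * (h * a * h⁻¹) := by rw [(P.hyp.mem_C a).1 ha.1]; group
      rwa [P.cent_W hxQ hxt hx1] at this
    · replace ha := (SetLike.ext_iff.1 (P.cent_W hxQ hxt hx1) _).2 ha
      refine ⟨(P.hyp.mem_C a).2 ?_, ?_⟩
      · have h2 := Subgroup.mem_centralizer_singleton_iff.1 ha.1
        calc a * z = h⁻¹ * (h * a * h⁻¹ * (h * z * h⁻¹)) * h := by group
          _ = z * a := by rw [h2]; group
      · have := M.mul_mem (M.mul_mem (M.inv_mem hh) ha.2) hh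
        rwa [show h⁻¹ * (h * a * h⁻¹) * h = a by group] at this
  set O : Finset G := (Finset.univ.filter fun x => x ∈ W).erase 1 with hO
  have hO3 : O.card = 3 := by
    rw [hO, Finset.card_erase_of_mem (by simp), ← Fintype.card_subtype, ← Nat.card_eq_fintype_card]
    show Nat.card W - 1 = 3
    rw [P.card_W]
  have hzN : ∀ h ∈ N, h * z * h⁻¹ ∈ O := by
    intro h hh
    have hzA : h * z * h⁻¹ ∈ A := (Subgroup.mem_normalizer_iff.1 hh.2 z).1
      ⟨P.S.Q_le P.S.z_mem, P.z_mem_W.2⟩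
    obtain ⟨h1, h2⟩ := P.A_z_type hzA.1 (P.mem_M.1 hzA.2) (isConj_iff.2 ⟨h, rfl⟩).symm
    exact Finset.mem_erase.2 ⟨h2, Finset.mem_filter.2 ⟨Finset.mem_univ _, h1, hzA.2⟩⟩
  set NF : Finset G := Finset.univ.filter fun x => x ∈ N
  rw [Nat.card_eq_fintype_card, Fintype.card_subtype]
  show NF.card = 48
  rw [Finset.card_eq_sum_card_fiberwise (f := fun h => h * z * h⁻¹) (t := O)
    fun h hh => hzN h (Finset.mem_filter.1 hh).2, Finset.sum_const_nat (m := 16), hO3]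
  intro x hx
  obtain ⟨hx1, hxW⟩ := Finset.mem_erase.1 hx
  obtain ⟨hxQ, hxM⟩ := (Finset.mem_filter.1 hxW).2
  obtain ⟨h, hht, hhx⟩ := P.trans_t (P.W_conj hxQ (P.mem_M.1 hxM) hx1) (P.mem_M.1 hxM)
  have hx' : h⁻¹ * z * h⁻¹⁻¹ = x := by rw [← hhx]; group
  have hxe : ∀ a : G, a ∈ A → h⁻¹ * a * z * (h⁻¹ * a)⁻¹ = x := by
    intro a ha
    rw [show h⁻¹ * a * z * (h⁻¹ * a)⁻¹ = h⁻¹ * (a * z) * a⁻¹ * h by group, (P.hyp.mem_C a).1 ha.1, ← hx']
    group
  rw [← P.card_A, Nat.card_eq_fintype_card, Fintype.card_subtype]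
  refine (Finset.card_bij (fun a _ => h⁻¹ * a) ?_ (fun _ _ _ _ e => mul_left_cancel e) ?_).symm
  · intro a ha
    have ha' : a ∈ A := (Finset.mem_filter.1 ha).2
    refine Finset.mem_filter.2 ⟨Finset.mem_filter.2 ⟨Finset.mem_univ _,
      memN _ (M.mul_mem (M.inv_mem (P.mem_M.2 hht)) ha'.2) ?_ ?_⟩, hxe a ha'⟩
    · rw [hxe a ha']; exact hxQ
    · rw [hxe a ha']; exact hx1
  · intro b hb
    obtain ⟨hbN, hbx⟩ := Finset.mem_filter.1 hb
    have hbN' := (Finset.mem_filter.1 hbN).2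
    refine ⟨h * b, Finset.mem_filter.2 ⟨Finset.mem_univ _, (P.hyp.mem_C _).2 ?_,
      M.mul_mem (P.mem_M.2 hht) hbN'.1⟩, by group⟩
    refine mul_inv_eq_iff_eq_mul.1 ?_
    rw [show h * b * z * (h * b)⁻¹ = h * (b * z * b⁻¹) * h⁻¹ by group, hbx, hhx]

end Pair

end CfsgLib.J2Type
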