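import Cfsg.Agent.Lib.J2Type.Order
import Mathlib.GroupTheory.GroupAction.Quotient
import Mathlib.GroupTheory.SpecificGroups.KleinFour

/-!
Groups of Hall–Janko type: the isomorphism types of `C(t)` and `N(V)`.
-/

set_option autoImplicit false

namespace CfsgLib.J2Type

variable {G : Type*} [Group G] [Finite G] {z t g : G} {Q K C V M0 : Subgroup G}

namespace Cent

variable (D : Cent z t Q K C V M0 g)
include D

theorem equiv_V : Nonempty (V ≃* Multiplicative (ZMod 2) × Multiplicative (ZMod 2)) := by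
  haveI : IsKleinFour V := by
    haveI : Nontrivial V := Finite.one_lt_card_iff_nontrivial.mp (by rw [D.cardV]; norm_num)
    exact ⟨D.cardV, (Monoid.exponent_eq_prime_iff Nat.prime_two).mpr fun c hc =>
      orderOf_eq_prime (Subtype.ext (by rw [pow_two]; exact D.V_sq c c.2)) hc⟩
  haveI : IsKleinFour (Multiplicative (ZMod 2) × Multiplicative (ZMod 2)) :=
    ⟨by simp, (Monoid.exponent_eq_prime_iff Nat.prime_two).mpr fun c hc =>
      orderOf_eq_prime (by revert hc; revert c; decide) hc⟩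
  exact IsKleinFour.nonempty_mulEquiv

theorem exists_prod : ∃ f : V × M0 ≃* Subgroup.centralizer ({t} : Set G),
    ∀ p, (f p : G) = p.1 * p.2 := by
  let f : V × M0 →* Subgroup.centralizer ({t} : Set G) :=
  { toFun := fun p => ⟨(p.1 : G) * p.2, Subgroup.mul_mem _ (D.V_le p.1.2) (D.M0_le p.2.2)⟩
    map_one' := Subtype.ext (mul_one 1)
    map_mul' := fun p r => Subtype.ext (by
      show ((p.1 : G) * r.1) * (p.2 * r.2) = (p.1 : G) * p.2 * (r.1 * r.2)
      rw [show (p.1 : G) * p.2 * (r.1 * r.2) = p.1 * (p.2 * r.1) * r.2 by group,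
        ← D.comm r.1 r.1.2 p.2 p.2.2]
      group) }
  have hf : Function.Bijective f := by
    refine ⟨fun p r h => ?_, fun m => ?_⟩
    · obtain ⟨h1, h2⟩ := D.decomp_unique p.1.2 r.1.2 p.2.2 r.2.2 (congrArg Subtype.val h)
      exact Prod.ext (Subtype.ext h1) (Subtype.ext h2)
    · obtain ⟨v, hv, b, hb, e⟩ := D.decomp m (D.mem_M.1 m.2)
      exact ⟨(⟨v, hv⟩, ⟨b, hb⟩), Subtype.ext e.symm⟩
  exact ⟨MulEquiv.ofBijective f hf, fun _ => rfl⟩

theorem equiv_M : Nonempty (↥(Subgroup.centralizer ({t} : Set G)) ≃*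
    (Multiplicative (ZMod 2) × Multiplicative (ZMod 2)) × alternatingGroup (Fin 5)) := by
  obtain ⟨eV⟩ := D.equiv_V
  obtain ⟨eB⟩ := D.equiv
  obtain ⟨f, -⟩ := D.exists_prod
  exact ⟨f.symm.trans (eV.prodCongr eB)⟩

theorem equiv_R : Nonempty (D.R ≃* alternatingGroup (Fin 4)) := by
  classical
  obtain ⟨r, hr, hr3, hr1, hrt⟩ := D.exists_r
  haveI : Fact (Nat.Prime 3) := ⟨Nat.prime_three⟩
  set S : Subgroup D.R := Subgroup.zpowers ⟨r, hr⟩
  have hS : Nat.card S = 3 := by
    rw [Nat.card_zpowers, Subgroup.orderOf_mk, orderOf_eq_prime hr3 hr1]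
  have hi : S.index = 4 := by
    have h := S.card_mul_index
    rw [hS, D.card_R] at h
    omega
  have hcore : S.normalCore = ⊥ := by
    rw [eq_bot_iff]
    intro x hx
    by_contra hx1
    have hx1' : x ≠ 1 := fun h => hx1 (Subgroup.mem_bot.2 h)
    have hxS : x ∈ S := S.normalCore_le hx
    -- then the core is all of `S`, so `r` commutes with `t`
    have hzp : Subgroup.zpowers x = S := by
      refine Subgroup.eq_of_le_of_card_ge (Subgroup.zpowers_le.2 hxS) ?_
      rw [hS, Nat.card_zpowers]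
      have h := Subgroup.orderOf_dvd_natCard _ hxS
      rw [hS] at h
      rcases (Nat.dvd_prime Nat.prime_three).1 h with e | e
      · exact absurd (orderOf_eq_one_iff.1 e) hx1'
      · omega
    have hSn : S ≤ S.normalCore := by
      have h' : Subgroup.zpowers x ≤ S.normalCore := Subgroup.zpowers_le.2 hx
      rwa [hzp] at h'
    have hrS : (⟨r, hr⟩ : D.R) ∈ S := Subgroup.mem_zpowers _
    have htR : t ∈ D.R := D.V_le_R D.t_mem
    have hc := S.normalCore_le ((Subgroup.normalCore_normal S).conj_mem _ (hSn hrS) ⟨t, htR⟩)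
    have hc' : ⟨t, htR⟩ * ⟨r, hr⟩ * (⟨t, htR⟩ : D.R)⁻¹ * (⟨r, hr⟩ : D.R)⁻¹ ∈ S :=
      S.mul_mem hc (S.inv_mem hrS)
    have hv : t * r * t⁻¹ * r⁻¹ ∈ V := by
      rw [show t * r * t⁻¹ * r⁻¹ = t * (r * t⁻¹ * r⁻¹) by group]
      exact V.mul_mem D.t_mem (D.R_V hr (V.inv_mem D.t_mem))
    obtain ⟨k, hk⟩ := Subgroup.mem_zpowers_iff.1 hc'
    have hk' : r ^ k = t * r * t⁻¹ * r⁻¹ := congrArg Subtype.val hk
    have h3 : (r ^ k) ^ (3 : ℕ) = 1 := by
      rw [← zpow_natCast, ← zpow_mul, mul_comm, zpow_mul, zpow_natCast, hr3, one_zpow]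
    have h2 : r ^ k * r ^ k = 1 := by rw [hk']; exact D.V_sq _ hv
    rw [pow_succ, pow_two, h2, one_mul] at h3
    rw [h3, eq_comm, mul_inv_eq_one, mul_inv_eq_iff_eq_mul] at hk'
    exact hrt hk'.symm
  let φ : D.R →* Equiv.Perm (D.R ⧸ S) := MulAction.toPermHom D.R (D.R ⧸ S)
  have hφ : Function.Injective φ := by
    rw [← MonoidHom.ker_eq_bot_iff, ← Subgroup.normalCore_eq_ker]
    exact hcore
  haveI : Fintype (D.R ⧸ S) := Fintype.ofFinite _
  have hX : Fintype.card (D.R ⧸ S) = 4 := by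
    rw [← Nat.card_eq_fintype_card, ← Subgroup.index_eq_card, hi]
  let ψ : D.R →* Equiv.Perm (Fin 4) :=
    ((Fintype.equivFinOfCardEq hX).permCongrHom).toMonoidHom.comp φ
  have hψ : Function.Injective ψ := (Fintype.equivFinOfCardEq hX).permCongrHom.injective.comp hφ
  have hrange : ψ.range = alternatingGroup (Fin 4) := by
    apply Equiv.Perm.eq_alternatingGroup_of_index_eq_two
    have h := ψ.range.card_mul_index
    rw [← Nat.card_congr (MonoidHom.ofInjective hψ).toEquiv, D.card_R, Nat.card_perm, Nat.card_fin] at h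
    norm_num [Nat.factorial] at h
    omega
  exact ⟨(MonoidHom.ofInjective hψ).trans (MulEquiv.subgroupCongr hrange)⟩

theorem equiv_N : Nonempty (↥(Subgroup.normalizer (V : Set G)) ≃*
    alternatingGroup (Fin 4) × alternatingGroup (Fin 5)) := by
  obtain ⟨eR⟩ := D.equiv_R
  obtain ⟨eB⟩ := D.equiv
  have hB : M0 ≤ Subgroup.normalizer (V : Set G) := by
    intro b hb
    rw [Subgroup.mem_normalizer_iff]
    intro u
    constructor
    · intro hu
      rw [← D.comm u hu b hb, mul_inv_cancel_right]; exact hu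
    · intro hu
      have h := D.comm _ hu b hb
      rw [inv_mul_cancel_right] at h
      rw [← mul_left_cancel h] at hu
      exact hu
  let f : D.R × M0 →* Subgroup.normalizer (V : Set G) :=
  { toFun := fun p => ⟨(p.1 : G) * p.2, Subgroup.mul_mem _ p.1.2.2 (hB p.2.2)⟩
    map_one' := Subtype.ext (mul_one 1)
    map_mul' := fun p r => Subtype.ext (by
      show ((p.1 : G) * r.1) * (p.2 * r.2) = (p.1 : G) * p.2 * (r.1 * r.2)
      rw [show (p.1 : G) * p.2 * (r.1 * r.2) = p.1 * (p.2 * r.1) * r.2 by group,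
        ← D.R_comm r.1.2 p.2.2]
      group) }
  have hf : Function.Bijective f := by
    refine ⟨fun p r h => ?_, fun n => ?_⟩
    · have h' : (p.1 : G) * p.2 = r.1 * r.2 := congrArg Subtype.val h
      have hm : (r.1 : G)⁻¹ * p.1 ∈ D.R ⊓ M0 := by
        refine ⟨D.R.mul_mem (D.R.inv_mem r.1.2) p.1.2, ?_⟩
        rw [show (r.1 : G)⁻¹ * p.1 = r.2 * (p.2 : G)⁻¹ by
          rw [inv_mul_eq_iff_eq_mul, ← mul_assoc, ← h', mul_inv_cancel_right]]
        exact M0.mul_mem r.2.2 (M0.inv_mem p.2.2)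
      rw [D.R_inf, Subgroup.mem_bot, inv_mul_eq_one] at hm
      rw [← hm] at h'
      exact Prod.ext (Subtype.ext hm.symm) (Subtype.ext (mul_left_cancel h'))
    · obtain ⟨r, hr, b, hb, e⟩ := D.N_decomp fun u hu => (Subgroup.mem_normalizer_iff.1 n.2 u).1 hu
      exact ⟨(⟨r, hr⟩, ⟨b, hb⟩), Subtype.ext e.symm⟩
  exact ⟨(MulEquiv.ofBijective f hf).symm.trans (eR.prodCongr eB)⟩

/-- The largest normal 2-subgroup of the centraliser of a conjugate of `t`. -/
theorem pCore_conj {t' c : G} (hc : c * t' * c⁻¹ = t) :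
    ∀ x : G, x ∈ (Cfsg.pCore 2 ↥(Subgroup.centralizer ({t'} : Set G))).map
      (Subgroup.centralizer ({t'} : Set G)).subtype ↔ c * x * c⁻¹ ∈ V := by
  haveI : Fact (Nat.Prime 2) := ⟨Nat.prime_two⟩
  set M' := Subgroup.centralizer ({t'} : Set G)
  have hmem : ∀ x : G, x ∈ M' ↔ c * x * c⁻¹ * t = t * (c * x * c⁻¹) := by
    intro x
    rw [Subgroup.mem_centralizer_singleton_iff, ← hc]
    constructor
    · intro h
      calc c * x * c⁻¹ * (c * t' * c⁻¹) = c * (x * t') * c⁻¹ := by group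
        _ = c * t' * c⁻¹ * (c * x * c⁻¹) := by rw [h]; group
    · intro h
      calc x * t' = c⁻¹ * (c * x * c⁻¹ * (c * t' * c⁻¹)) * c := by group
        _ = t' * x := by rw [h]; group
  let N : Subgroup M' := (V.comap (MulAut.conj c).toMonoidHom).subgroupOf M'
  have memN : ∀ {x : M'}, x ∈ N ↔ c * (x : G) * c⁻¹ ∈ V := fun {x} => Iff.rfl
  have hN : N.Normal := ⟨fun n hn m => by
    rw [memN] at hn ⊢
    have h := D.V_comm hn ((hmem m).1 m.2)
    show c * ((m : G) * n * (m : G)⁻¹) * c⁻¹ ∈ V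
    rw [show c * ((m : G) * n * (m : G)⁻¹) * c⁻¹ = c * m * c⁻¹ * (c * n * c⁻¹) * (c * m * c⁻¹)⁻¹ by group,
      ← h, mul_inv_cancel_right]
    exact hn⟩
  have hNp : IsPGroup 2 N := by
    intro x
    refine ⟨1, Subtype.ext (Subtype.ext ?_)⟩
    have h := D.V_sq _ (memN.1 x.2)
    show ((x : M') : G) ^ (2 ^ 1) = 1
    rw [pow_one, pow_two]
    rw [show c * ((x : M') : G) * c⁻¹ * (c * ((x : M') : G) * c⁻¹) = c * (((x : M') : G) * (x : M')) * c⁻¹ by group] at h
    exact conj_eq_one_iff.1 h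
  have hcore : Cfsg.pCore 2 M' = N := by
    refine le_antisymm ?_ (le_sSup ⟨hN, hNp⟩)
    obtain ⟨f, hf⟩ := D.exists_prod
    obtain ⟨eB⟩ := D.equiv
    let π : M' →* alternatingGroup (Fin 5) :=
      eB.toMonoidHom.comp ((MonoidHom.snd _ _).comp (f.symm.toMonoidHom.comp
        { toFun := fun x => ⟨c * x * c⁻¹, D.mem_M.2 ((hmem x).1 x.2)⟩
          map_one' := Subtype.ext (by simp)
          map_mul' := fun a b => Subtype.ext (by
            show c * ((a : G) * b) * c⁻¹ = c * a * c⁻¹ * (c * b * c⁻¹)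
            group) }))
    have hπs : Function.Surjective π := by
      intro a
      have hy' : c * (c⁻¹ * (eB.symm a : M0) * c) * c⁻¹ = (eB.symm a : M0) := by group
      refine ⟨⟨c⁻¹ * (eB.symm a : M0) * c, (hmem _).2 (by rw [hy']; exact D.mem_M.1 (D.M0_le (eB.symm a).2))⟩, ?_⟩
      show eB (f.symm ⟨c * (c⁻¹ * (eB.symm a : M0) * c) * c⁻¹, _⟩).2 = a
      rw [show f.symm ⟨c * (c⁻¹ * (eB.symm a : M0) * c) * c⁻¹, _⟩ = ((1 : V), eB.symm a) from
        f.symm_apply_eq.2 (Subtype.ext (by rw [hf]; simp only [hy', Subgroup.coe_one, one_mul]))]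
      simp
    intro x hx
    have hn : ((Cfsg.pCore 2 M').map π).Normal :=
      (CfsgLib.Fitting.pCore_normal 2).map π hπs
    haveI : IsSimpleGroup (alternatingGroup (Fin 5)) := alternatingGroup.isSimpleGroup_five
    have hp : IsPGroup 2 ((Cfsg.pCore 2 M').map π) := (CfsgLib.Fitting.pCore_isPGroup 2).map _
    have hbot : (Cfsg.pCore 2 M').map π = ⊥ := by
      rcases IsSimpleGroup.eq_bot_or_eq_top_of_normal _ hn with h | h
      · exact h
      · exfalso
        obtain ⟨n, hn'⟩ := IsPGroup.iff_card.1 hp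
        rw [h, Subgroup.card_top, card_alt5] at hn'
        have : 3 ∣ 2 ^ n := hn' ▸ (by norm_num)
        exact absurd (Nat.prime_three.dvd_of_dvd_pow this) (by norm_num)
    have h1 : π x = 1 := by
      rw [← Subgroup.mem_bot, ← hbot]; exact ⟨x, hx, rfl⟩
    rw [memN]
    obtain ⟨⟨v, b⟩, hp'⟩ := f.surjective ⟨c * (x : G) * c⁻¹, D.mem_M.2 ((hmem x).1 x.2)⟩
    have h2 : eB (f.symm ⟨c * (x : G) * c⁻¹, D.mem_M.2 ((hmem x).1 x.2)⟩).2 = 1 := h1
    rw [← hp', MulEquiv.symm_apply_apply] at h2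
    have hb : b = 1 := eB.injective (h2.trans (map_one eB).symm)
    have h3 := congrArg Subtype.val hp'
    rw [hf, hb, Subgroup.coe_one, mul_one] at h3
    exact (show (v : G) = c * (x : G) * c⁻¹ from h3) ▸ v.2
  intro x
  rw [hcore]
  constructor
  · rintro ⟨y, hy, rfl⟩
    exact hy
  · intro hx
    exact ⟨⟨x, (hmem x).2 (D.mem_M.1 (D.V_le hx))⟩, hx, rfl⟩

end Cent

end CfsgLib.J2Type
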