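import Cfsg.Agent.Lib.J2Type.Order
import Mathlib.GroupTheory.Transfer

/-!
Groups of Hall–Janko type: centralisers of elements of odd prime order in `C(t)`.
-/

set_option autoImplicit false

open scoped Classical

namespace CfsgLib.J2Type

variable {G : Type*} [Group G] [Finite G]

/-- The two primary parts of a finite group element commute with what the element commutes with. -/
theorem eq_one_of_coprime_pow {x : G} {m n : ℕ} (hm : x ^ m = 1) (hn : x ^ n = 1) (h : m.Coprime n) :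
    x = 1 := by
  have := Nat.dvd_gcd (orderOf_dvd_of_pow_eq_one hm) (orderOf_dvd_of_pow_eq_one hn)
  rw [h.gcd_eq_one, Nat.dvd_one, orderOf_eq_one_iff] at this
  exact this

theorem mem_conj_sylow {H : Subgroup G} {p : ℕ} [Fact p.Prime] (T : Sylow p H) {x : G} (hx : x ∈ H)
    (hp : ∃ k : ℕ, x ^ (p ^ k) = 1) : ∃ c ∈ H, ∃ y ∈ (T : Subgroup H), (y : G) = c * x * c⁻¹ := by
  obtain ⟨k, hk⟩ := hp
  have hzp : IsPGroup p (Subgroup.zpowers (⟨x, hx⟩ : H)) := by
    intro a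
    obtain ⟨j, hj⟩ := Subgroup.mem_zpowers_iff.1 a.2
    refine ⟨k, Subtype.ext ?_⟩
    rw [SubgroupClass.coe_pow, ← hj, ← zpow_natCast, ← zpow_mul, mul_comm, zpow_mul, zpow_natCast,
      show (⟨x, hx⟩ : H) ^ (p ^ k) = 1 from Subtype.ext hk, one_zpow]
    rfl
  obtain ⟨P, hP⟩ := hzp.exists_le_sylow
  obtain ⟨c, hc⟩ := MulAction.exists_smul_eq H P T
  refine ⟨c, c.2, c * ⟨x, hx⟩ * c⁻¹, ?_, rfl⟩
  rw [← hc, Sylow.coe_subgroup_smul]
  exact ⟨⟨x, hx⟩, hP (Subgroup.mem_zpowers _), rfl⟩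

variable {z t g : G} {Q K C V M0 : Subgroup G}

namespace Cent

variable (D : Cent z t Q K C V M0 g)
include D

theorem V_R {r : G} (hr : r ∈ D.R) {k : ℕ} (h : r ^ (2 ^ k) = 1) : r ∈ V := by
  set W := V.subgroupOf D.R
  haveI hn : W.Normal := ⟨fun v hv s => D.R_V s.2 hv⟩
  have hi : W.index = 3 := by
    have h' := W.card_mul_index
    rw [show Nat.card W = 4 from
      (Nat.card_congr (Subgroup.subgroupOfEquivOfLe D.V_le_R).toEquiv).trans D.cardV, D.card_R] at h'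
    omega
  set π := QuotientGroup.mk' W
  set y := π ⟨r, hr⟩
  have h3 : y ^ 3 = 1 := by
    have h' := pow_card_eq_one' (x := y)
    rwa [← Subgroup.index_eq_card, hi] at h'
  have h2 : y ^ (2 ^ k) = 1 := by
    rw [← map_pow, show (⟨r, hr⟩ : D.R) ^ (2 ^ k) = 1 from Subtype.ext h, map_one]
  have := eq_one_of_coprime_pow h3 h2 (Nat.Coprime.pow_right _ (by norm_num))
  exact (QuotientGroup.eq_one_iff (⟨r, hr⟩ : D.R)).1 this

variable {x : G} (hx : x ∈ M0) (hsc : ∀ y ∈ M0, y * x = x * y → y ∈ Subgroup.zpowers x)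
  (hodd : Odd (orderOf x))
include hx hsc hodd

/-- The four group `V` is a Sylow subgroup of the centraliser of `x`. -/
theorem V_sylow {S : Subgroup G} (hS : IsPGroup 2 S) (hVS : V ≤ S)
    (hSx : ∀ s ∈ S, s * x = x * s) : S = V := by
  haveI : Fact (Nat.Prime 2) := ⟨Nat.prime_two⟩
  by_contra hne
  have hlt : V.subgroupOf S < ⊤ := lt_of_le_of_ne le_top fun e =>
    hne (le_antisymm (Subgroup.subgroupOf_eq_top.1 e) hVS)
  haveI := hS.isNilpotent
  obtain ⟨s, hs, hs'⟩ := SetLike.exists_of_lt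
    ((Group.normalizerCondition_of_isNilpotent (G := S)) _ hlt)
  have hn : ∀ u ∈ V, (s : G) * u * (s : G)⁻¹ ∈ V := fun u hu =>
    (Subgroup.mem_normalizer_iff.1 hs ⟨u, hVS hu⟩).1 hu
  obtain ⟨r, hr, b, hb, hrb⟩ := D.N_decomp hn
  obtain ⟨k, hk⟩ := hS ⟨s, s.2⟩
  have hk' : (r * b) ^ (2 ^ k) = 1 := by rw [← hrb]; exact congrArg Subtype.val hk
  have hc : Commute r b := D.R_comm hr hb
  rw [hc.mul_pow] at hk'
  have hbk : b ^ (2 ^ k) = 1 := by
    have hm : b ^ (2 ^ k) ∈ D.R ⊓ M0 := ⟨by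
      rw [eq_inv_of_mul_eq_one_right hk']; exact D.R.inv_mem (D.R.pow_mem hr _), M0.pow_mem hb _⟩
    rwa [D.R_inf, Subgroup.mem_bot] at hm
  have hbx : b * x = x * b := by
    have h1 : Commute (r * b) x := hrb ▸ hSx _ s.2
    have h2 : Commute r x := D.R_comm hr hx
    have := h2.inv_left.mul_left h1
    rwa [inv_mul_cancel_left] at this
  have hb1 : b = 1 := by
    obtain ⟨j, rfl⟩ := Subgroup.mem_zpowers_iff.1 (hsc b hb hbx)
    refine eq_one_of_coprime_pow hbk (n := orderOf x) ?_ (Nat.Coprime.pow_left _ (Nat.coprime_two_left.2 hodd))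
    rw [← zpow_natCast, ← zpow_mul, mul_comm, zpow_mul, zpow_natCast, pow_orderOf_eq_one, one_zpow]
  rw [hb1, mul_one] at hrb
  rw [hb1, one_pow, mul_one] at hk'
  exact hs' (show (s : G) ∈ V from hrb ▸ D.V_R hr hk')

/-- Every involution centralising `x` is conjugate into `V` by an element centralising `x`. -/
theorem invol_conj_V {i : G} (hi : orderOf i = 2) (hix : i * x = x * i) :
    ∃ c : G, c * x = x * c ∧ c * i * c⁻¹ ∈ V ∧ c * i * c⁻¹ ≠ 1 := by
  haveI : Fact (Nat.Prime 2) := ⟨Nat.prime_two⟩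
  set H := Subgroup.centralizer ({x} : Set G)
  have hVH : V ≤ H := fun v hv => Subgroup.mem_centralizer_singleton_iff.2 (D.comm v hv x hx)
  have hVp : IsPGroup 2 (V.subgroupOf H) :=
    IsPGroup.of_card (n := 2) (by rw [Nat.card_congr (Subgroup.subgroupOfEquivOfLe hVH).toEquiv, D.cardV]; norm_num)
  obtain ⟨T, hT⟩ := hVp.exists_le_sylow
  have hTV : (T : Subgroup H).map H.subtype = V :=
    D.V_sylow hx hsc hodd (T.2.map _) (fun v hv => ⟨⟨v, hVH hv⟩, hT hv, rfl⟩)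
      (by rintro _ ⟨s, -, rfl⟩; exact Subgroup.mem_centralizer_singleton_iff.1 s.2)
  obtain ⟨hi1, hi2⟩ : i ≠ 1 ∧ i * i = 1 :=
    ⟨fun e => by rw [e, orderOf_one] at hi; omega, by rw [← pow_two, ← hi, pow_orderOf_eq_one]⟩
  obtain ⟨c, hcH, y, hy, hyc⟩ := mem_conj_sylow T (Subgroup.mem_centralizer_singleton_iff.2 hix)
    ⟨1, by rw [pow_one, pow_two, hi2]⟩
  have hm : (y : G) ∈ V := hTV ▸ (⟨y, hy, rfl⟩ : (y : G) ∈ (T : Subgroup H).map H.subtype)
  rw [hyc] at hm
  exact ⟨c, Subgroup.mem_centralizer_singleton_iff.1 hcH, hm, fun e => hi1 (conj_eq_one_iff.1 e)⟩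

/-- Every involution centralising `x` is a conjugate of `t`. -/
theorem invol_cent {i : G} (hi : orderOf i = 2) (hix : i * x = x * i) : IsConj i t := by
  obtain ⟨c, -, hm, hm1⟩ := D.invol_conj_V hx hsc hodd hi hix
  exact (isConj_iff.2 ⟨c, rfl⟩).trans (D.V_t hm hm1)

theorem not_z_type {i : G} (hi : IsConj i z) : ¬ i * x = x * i := by
  intro h
  have h2 : orderOf i = 2 := by
    obtain ⟨c, hc⟩ := isConj_iff.1 hi.symm
    have hz := D.pair.S.z_sq
    refine orderOf_eq_prime ?_ fun e => D.pair.S.z_ne ?_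
    · rw [pow_two, ← hc, show c * z * c⁻¹ * (c * z * c⁻¹) = c * (z * z) * c⁻¹ by group, hz]; group
    · rw [e] at hc; exact conj_eq_one_iff.1 hc
  exact D.pair.not_conj (hi.symm.trans (D.invol_cent hx hsc hodd h2 h))

/-- The centraliser of `x` modulo `⟨x⟩` has order 12 or is the alternating group of degree five. -/
theorem cent_cases : Nat.card (Subgroup.centralizer ({x} : Set G)) = 12 * orderOf x ∨
    ∃ π : Subgroup.centralizer ({x} : Set G) →* alternatingGroup (Fin 5),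
      Function.Surjective π ∧ (∀ h, π h = 1 ↔ (h : G) ∈ Subgroup.zpowers x) ∧
      Nat.card (Subgroup.centralizer ({x} : Set G)) = 60 * orderOf x := by
  set H := Subgroup.centralizer ({x} : Set G)
  have memH : ∀ {h : G}, h ∈ H ↔ h * x = x * h := Subgroup.mem_centralizer_singleton_iff
  set Z := (Subgroup.zpowers x).subgroupOf H
  haveI hZ : Z.Normal := ⟨fun n hn h => by
    obtain ⟨j, hj⟩ := Subgroup.mem_zpowers_iff.1 hn
    have hc : Commute (h : G) x := memH.1 h.2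
    show (h : G) * n * (h : G)⁻¹ ∈ Subgroup.zpowers x
    rw [show (n : G) = x ^ j from hj.symm, (hc.zpow_right j).eq, mul_inv_cancel_right]
    exact Subgroup.zpow_mem _ (Subgroup.mem_zpowers x) j⟩
  have hcZ : Nat.card Z = orderOf x := by
    rw [Nat.card_congr (Subgroup.subgroupOfEquivOfLe (Subgroup.zpowers_le.2 (memH.2 rfl))).toEquiv,
      Nat.card_zpowers]
  have hcard : Nat.card H = Nat.card (H ⧸ Z) * orderOf x := by
    rw [Subgroup.card_eq_card_quotient_mul_card_subgroup Z, hcZ]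
  set q := QuotientGroup.mk' Z
  have hq : ∀ h : H, q h = 1 ↔ (h : G) ∈ Subgroup.zpowers x := fun h => QuotientGroup.eq_one_iff h
  have hVH : V ≤ H := fun v hv => memH.2 (D.comm v hv x hx)
  let VH : Subgroup H := V.subgroupOf H
  let W : Subgroup (H ⧸ Z) := VH.map q
  have hzM0 : Subgroup.zpowers x ≤ M0 := Subgroup.zpowers_le.2 hx
  have hinj : ∀ a ∈ VH, q a = 1 → a = 1 := by
    intro a ha h
    have hm : (a : G) ∈ V ⊓ M0 := ⟨ha, hzM0 ((hq a).1 h)⟩
    rw [D.inf, Subgroup.mem_bot] at hm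
    exact Subtype.ext hm
  have hW : Nat.card W = 4 := by
    rw [← D.cardV, ← Nat.card_congr (Subgroup.subgroupOfEquivOfLe hVH).toEquiv]
    refine (Nat.card_congr (Equiv.ofBijective
      (fun a : VH => (⟨q a.1, ⟨a.1, a.2, rfl⟩⟩ : W)) ⟨fun a b h => ?_, ?_⟩)).symm
    · have h' : q (a.1⁻¹ * b.1) = 1 := by
        rw [map_mul, map_inv, show q a.1 = q b.1 from congrArg Subtype.val h, inv_mul_cancel]
      exact Subtype.ext (inv_mul_eq_one.1 (hinj _ (VH.mul_mem (VH.inv_mem a.2) b.2) h'))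
    · rintro ⟨_, a, ha, rfl⟩
      exact ⟨⟨a, ha⟩, rfl⟩
  have hW2 : ∀ w ∈ W, w * w = 1 := by
    rintro _ ⟨a, ha, rfl⟩
    rw [← map_mul, show a * a = 1 from Subtype.ext (D.V_sq _ ha), map_one]
  have hC : ∀ w ∈ W, w ≠ 1 → Subgroup.centralizer ({w} : Set (H ⧸ Z)) = W := by
    rintro _ ⟨a, ha, rfl⟩ ha1
    have haV : (a : G) ∈ V := ha
    have hax : (a : G) ≠ 1 := fun e => ha1 (by rw [show a = 1 from Subtype.ext e, map_one])
    ext y
    obtain ⟨h, rfl⟩ := QuotientGroup.mk'_surjective Z y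
    rw [Subgroup.mem_centralizer_singleton_iff]
    constructor
    · intro hh
      have h1 : q (h * a * h⁻¹ * a⁻¹) = 1 := by
        rw [map_mul, map_mul, map_mul, map_inv, map_inv, hh, mul_inv_cancel_right, mul_inv_cancel]
      obtain ⟨j, hj⟩ := Subgroup.mem_zpowers_iff.1 ((hq _).1 h1)
      have hj' : (h : G) * a * (h : G)⁻¹ = x ^ j * a := by
        rw [hj]; show _ = (h : G) * a * (h : G)⁻¹ * (a : G)⁻¹ * a; group
      have hca : Commute (a : G) x := D.comm _ haV x hx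
      have hsq : (x ^ j) * (x ^ j) = 1 := by
        have h2 : ((h : G) * a * (h : G)⁻¹) * ((h : G) * a * (h : G)⁻¹) = 1 := by
          rw [show (h : G) * a * (h : G)⁻¹ * ((h : G) * a * (h : G)⁻¹) = h * ((a : G) * a) * (h : G)⁻¹ by group,
            D.V_sq _ haV]
          group
        rw [hj', show x ^ j * (a : G) * (x ^ j * a) = x ^ j * (a * x ^ j) * a by group,
          (hca.zpow_right j).eq, show x ^ j * (x ^ j * (a : G)) * a = x ^ j * x ^ j * (a * a) by group,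
          D.V_sq _ haV, mul_one] at h2
        exact h2
      have hj1 : x ^ j = 1 := by
        refine eq_one_of_coprime_pow (m := 2) (by rw [pow_two]; exact hsq) (n := orderOf x) ?_
          (Nat.coprime_two_left.2 hodd)
        rw [← zpow_natCast, ← zpow_mul, mul_comm, zpow_mul, zpow_natCast, pow_orderOf_eq_one, one_zpow]
      rw [hj1, one_mul] at hj'
      have hhM : (h : G) ∈ Subgroup.centralizer ({t} : Set G) := by
        rw [← D.cent_V haV hax]
        exact Subgroup.mem_centralizer_singleton_iff.2 (mul_inv_eq_iff_eq_mul.1 hj')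
      obtain ⟨v, hv, b, hb, e⟩ := D.decomp _ (D.mem_M.1 hhM)
      have hbx : b * x = x * b := by
        have h1 : Commute (v * b) x := e ▸ memH.1 h.2
        have h2 : Commute v x := D.comm v hv x hx
        have := h2.inv_left.mul_left h1
        rwa [inv_mul_cancel_left] at this
      refine ⟨⟨v, hVH hv⟩, hv, ?_⟩
      have hb' : q ⟨b, memH.2 hbx⟩ = 1 := (hq _).2 (hsc b hb hbx)
      rw [show h = (⟨v, hVH hv⟩ : H) * ⟨b, memH.2 hbx⟩ from Subtype.ext e, map_mul, hb', mul_one]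
    · rintro ⟨b, hb, hbe⟩
      rw [← hbe, ← map_mul, ← map_mul]
      exact congrArg q (Subtype.ext (D.V_comm hb (D.mem_M.1 (D.V_le haV))))
  obtain ⟨r, hr, hr3, hr1, hrt⟩ := D.exists_r
  have hrH : r ∈ H := memH.2 (D.R_comm hr hx)
  have hrN : q ⟨r, hrH⟩ ∈ Subgroup.normalizer (W : Set (H ⧸ Z)) := by
    have hcj : ∀ s : G, ∀ hs : s ∈ H, s ∈ D.R → ∀ w ∈ W, q ⟨s, hs⟩ * w * (q ⟨s, hs⟩)⁻¹ ∈ W := by
      rintro s hs hsR _ ⟨a, ha, rfl⟩
      exact ⟨⟨s, hs⟩ * a * (⟨s, hs⟩ : H)⁻¹, D.R_V hsR ha, by simp⟩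
    refine Subgroup.mem_normalizer_iff.2 fun w => ⟨hcj r hrH hr w, fun h => ?_⟩
    have := hcj r⁻¹ (H.inv_mem hrH) (D.R.inv_mem hr) _ h
    rw [show q ⟨r⁻¹, H.inv_mem hrH⟩ = (q ⟨r, hrH⟩)⁻¹ from (map_inv q ⟨r, hrH⟩)] at this
    simpa [mul_assoc] using this
  have hrW : q ⟨r, hrH⟩ ∉ W := by
    rintro ⟨a, ha, hae⟩
    have h1 : q (a⁻¹ * ⟨r, hrH⟩) = 1 := by rw [map_mul, map_inv, hae, inv_mul_cancel]
    have hm : (a : G)⁻¹ * r ∈ D.R ⊓ M0 :=
      ⟨D.R.mul_mem (D.R.inv_mem (D.V_le_R ha)) hr, hzM0 ((hq _).1 h1)⟩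
    rw [D.R_inf, Subgroup.mem_bot, inv_mul_eq_one] at hm
    exact hrt (D.mem_M.1 (D.V_le (hm ▸ ha)))
  rcases four_group_case W hW hW2 hC hrN hrW with ⟨-, h⟩ | ⟨⟨e⟩⟩
  · exact Or.inl (by rw [hcard, h])
  · refine Or.inr ⟨e.toMonoidHom.comp q, e.surjective.comp (QuotientGroup.mk'_surjective Z),
      fun h => ?_, by rw [hcard, Nat.card_congr e.toEquiv, card_alt5]⟩
    show e (q h) = 1 ↔ _
    rw [MulEquiv.map_eq_one_iff, hq]

end Cent

end CfsgLib.J2Type
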