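import Cfsg.Agent.Lib.J2Type.Cent

/-!
Groups of Hall–Janko type: the order, and the normaliser of the four group.
-/

set_option autoImplicit false

open scoped Classical

namespace CfsgLib.J2Type

open CfsgLib.J2Order

variable {G : Type*} [Group G] [Finite G] {z t g : G} {Q K C V M0 : Subgroup G}

namespace Cent

variable (D : Cent z t Q K C V M0 g)
include D

theorem mem_M {x : G} : x ∈ Subgroup.centralizer ({t} : Set G) ↔ x * t = t * x :=
  Subgroup.mem_centralizer_singleton_iff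

theorem M0_invol {a b : G} (ha : a ∈ M0) (ha2 : a * a = 1) (ha1 : a ≠ 1) (hb : b ∈ M0)
    (hb2 : b * b = 1) (hb1 : b ≠ 1) : ∃ c ∈ M0, c * a * c⁻¹ = b := by
  obtain ⟨e⟩ := D.equiv
  obtain ⟨c, hc⟩ := alt5_invol_conj (e ⟨a, ha⟩)
    (by rw [← map_mul, show (⟨a, ha⟩ : M0) * ⟨a, ha⟩ = 1 from Subtype.ext ha2, map_one])
    (fun h => ha1 (congrArg Subtype.val (e.injective (h.trans (map_one e).symm)))) (e ⟨b, hb⟩)
    (by rw [← map_mul, show (⟨b, hb⟩ : M0) * ⟨b, hb⟩ = 1 from Subtype.ext hb2, map_one])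
    (fun h => hb1 (congrArg Subtype.val (e.injective (h.trans (map_one e).symm))))
  refine ⟨(e.symm c : G), SetLike.coe_mem _, ?_⟩
  have : e.symm c * ⟨a, ha⟩ * (e.symm c)⁻¹ = ⟨b, hb⟩ := e.injective (by simp [hc])
  exact congrArg Subtype.val this

theorem M0_z {x : G} (hx : x ∈ M0) (hx2 : x * x = 1) (hx1 : x ≠ 1) : IsConj x z := by
  obtain ⟨c, -, hc⟩ := D.M0_invol hx hx2 hx1 D.z_mem D.pair.S.z_sq D.pair.S.z_ne
  exact isConj_iff.2 ⟨c, hc⟩

theorem M0_normal {m b : G} (hm : m * t = t * m) (hb : b ∈ M0) : m * b * m⁻¹ ∈ M0 := by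
  obtain ⟨v, hv, c, hc, rfl⟩ := D.decomp m hm
  have h1 : c * b * c⁻¹ ∈ M0 := M0.mul_mem (M0.mul_mem hc hb) (M0.inv_mem hc)
  rw [show v * c * b * (v * c)⁻¹ = v * (c * b * c⁻¹) * v⁻¹ by group, D.comm v hv _ h1, mul_inv_cancel_right]
  exact h1

theorem z_type {x : G} (hxt : x * t = t * x) (hx : IsConj x z) : x ∈ M0 := by
  obtain ⟨h, hht, hhx⟩ := D.pair.trans_t hx hxt
  have hh : h⁻¹ * t = t * h⁻¹ := (Commute.inv_left (show Commute h t from hht)).eq
  have := D.M0_normal hh D.z_mem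
  rwa [← hhx, show h⁻¹ * (h * x * h⁻¹) * h⁻¹⁻¹ = x by group] at this

theorem t_type {x : G} (hxt : x * t = t * x) (hx : orderOf x = 2) (h0 : x ∉ M0) : IsConj x t :=
  (D.pair.classes x hx).resolve_left fun h => h0 (D.z_type hxt h)

theorem V_comm {v m : G} (hv : v ∈ V) (hm : m * t = t * m) : v * m = m * v := by
  obtain ⟨w, hw, b, hb, rfl⟩ := D.decomp m hm
  have h1 : v * w = w * v := by
    calc v * w = (v * w)⁻¹ := (inv_eq_of_mul_eq_one_right (D.V_sq _ (V.mul_mem hv hw))).symm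
      _ = w * v := by rw [mul_inv_rev, inv_eq_of_mul_eq_one_right (D.V_sq _ hw),
          inv_eq_of_mul_eq_one_right (D.V_sq _ hv)]
  rw [← mul_assoc, h1, mul_assoc, D.comm v hv b hb, mul_assoc]

theorem card_M0 : Nat.card M0 = 60 := by
  obtain ⟨e⟩ := D.equiv
  rw [Nat.card_congr e.toEquiv, card_alt5]

theorem decomp_unique {v v' b b' : G} (hv : v ∈ V) (hv' : v' ∈ V) (hb : b ∈ M0) (hb' : b' ∈ M0)
    (h : v * b = v' * b') : v = v' ∧ b = b' := by
  have hm : v'⁻¹ * v ∈ V ⊓ M0 := by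
    refine ⟨V.mul_mem (V.inv_mem hv') hv, ?_⟩
    rw [show v'⁻¹ * v = b' * b⁻¹ by rw [inv_mul_eq_iff_eq_mul, ← mul_assoc, ← h, mul_inv_cancel_right]]
    exact M0.mul_mem hb' (M0.inv_mem hb)
  rw [D.inf, Subgroup.mem_bot, inv_mul_eq_one] at hm
  rw [hm] at h
  exact ⟨hm.symm, mul_left_cancel h⟩

theorem card_M : Nat.card (Subgroup.centralizer ({t} : Set G)) = 240 := by
  let F : V × M0 → Subgroup.centralizer ({t} : Set G) := fun p =>
    ⟨(p.1 : G) * p.2, Subgroup.mul_mem _ (D.V_le p.1.2) (D.M0_le p.2.2)⟩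
  have hF : Function.Bijective F := by
    refine ⟨fun p r h => ?_, fun m => ?_⟩
    · obtain ⟨h1, h2⟩ := D.decomp_unique p.1.2 r.1.2 p.2.2 r.2.2 (congrArg Subtype.val h)
      exact Prod.ext (Subtype.ext h1) (Subtype.ext h2)
    · obtain ⟨v, hv, b, hb, e⟩ := D.decomp m (D.mem_M.1 m.2)
      exact ⟨(⟨v, hv⟩, ⟨b, hb⟩), Subtype.ext e.symm⟩
  rw [← Nat.card_eq_of_bijective F hF, Nat.card_prod, D.cardV, D.card_M0]

theorem card_Cz : Nat.card (Subgroup.centralizer ({z} : Set G)) = 1920 := by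
  rw [← D.pair.hyp.card_C]
  exact Nat.card_congr (Equiv.subtypeEquivRight fun g => by
    rw [D.pair.hyp.mem_C, Subgroup.mem_centralizer_singleton_iff])

theorem order : Nat.card G = 604800 := by
  haveI := Fintype.ofFinite G
  obtain ⟨e⟩ := D.equiv
  rw [Nat.card_eq_fintype_card, order_formula z t D.pair.hyp.orderOf_z D.pair.orderOf_t D.pair.not_conj
    D.pair.classes, D.pair.S.card_pairs_z D.pair.hyp.mem_C D.pair.hyp.orderOf_z D.pair.orderOf_t
    D.pair.not_conj D.pair.hyp.Qz D.pair.Cz,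
    card_pairs_t (fun g => D.mem_M) D.pair.hyp.orderOf_z D.pair.orderOf_t D.pair.not_conj D.V_le D.M0_le
      D.comm D.inf ?_ D.V_sq D.t_mem e ?_ ?_, D.card_M, D.card_Cz]
  · refine le_antisymm (sup_le D.V_le D.M0_le) fun m hm => ?_
    obtain ⟨v, hv, b, hb, rfl⟩ := D.decomp m (D.mem_M.1 hm)
    exact Subgroup.mul_mem_sup hv hb
  · intro x hx h2
    obtain ⟨h1, hxx⟩ := orderTwo h2
    exact D.M0_z hx hxx h1
  · exact fun x hx h2 h0 => D.t_type (D.mem_M.1 hx) h2 h0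

theorem V_t {v : G} (hv : v ∈ V) (hv1 : v ≠ 1) : IsConj v t := by
  refine D.t_type (D.mem_M.1 (D.V_le hv)) (orderOf_eq_prime (by rw [pow_two]; exact D.V_sq v hv) hv1) ?_
  intro h
  have : v ∈ V ⊓ M0 := ⟨hv, h⟩
  rw [D.inf, Subgroup.mem_bot] at this
  exact hv1 this

theorem cent_V {v : G} (hv : v ∈ V) (hv1 : v ≠ 1) :
    Subgroup.centralizer ({v} : Set G) = Subgroup.centralizer ({t} : Set G) := by
  have hle : Subgroup.centralizer ({t} : Set G) ≤ Subgroup.centralizer ({v} : Set G) := fun m hm =>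
    Subgroup.mem_centralizer_singleton_iff.2 (D.V_comm hv (D.mem_M.1 hm)).symm
  refine (Subgroup.eq_of_le_of_card_ge hle ?_).symm
  obtain ⟨c, hc⟩ := isConj_iff.1 (D.V_t hv hv1)
  refine Nat.card_le_card_of_injective (fun x => ⟨c * x.1 * c⁻¹, ?_⟩) fun a b e => ?_
  · have hx := Subgroup.mem_centralizer_singleton_iff.1 x.2
    rw [D.mem_M, ← hc]
    calc c * x.1 * c⁻¹ * (c * v * c⁻¹) = c * (x.1 * v) * c⁻¹ := by group
      _ = c * v * c⁻¹ * (c * x.1 * c⁻¹) := by rw [hx]; group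
  · exact Subtype.ext (mul_left_cancel (mul_right_cancel (congrArg Subtype.val e)))

/-- An element normalising `V` that moves `t` fixes no element of `V`. -/
theorem moves {x v : G} (hx : ∀ u ∈ V, x * u * x⁻¹ ∈ V) (hxt : x * t ≠ t * x) (hv : v ∈ V)
    (hv1 : v ≠ 1) : x * v * x⁻¹ ≠ v := by
  intro h
  apply hxt
  have : x ∈ Subgroup.centralizer ({v} : Set G) :=
    Subgroup.mem_centralizer_singleton_iff.2 (mul_inv_eq_iff_eq_mul.1 h)
  rw [D.cent_V hv hv1] at this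
  exact D.mem_M.1 this

theorem g_not_comm : g * z ≠ z * g := by
  intro h
  obtain ⟨e⟩ := D.equiv
  set gB : M0 := ⟨g, D.g_mem⟩
  set zB : M0 := ⟨z, D.z_mem⟩
  have hz1 : zB ≠ 1 := fun h => D.pair.S.z_ne (congrArg Subtype.val h)
  have hg1 : gB ≠ 1 := fun h => D.g_ne (congrArg Subtype.val h)
  have hz2 : zB * zB = 1 := Subtype.ext D.pair.S.z_sq
  have hg3 : gB ^ 3 = 1 := Subtype.ext D.g_three
  have hc : zB * gB = gB * zB := Subtype.ext h.symm
  rcases alt5_three_cent (e gB) (by rw [← map_pow, hg3, map_one])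
    (fun h' => hg1 (e.injective (h'.trans (map_one e).symm))) (e zB) (by rw [← map_mul, ← map_mul, hc]) with
    h' | h' | h'
  · exact hz1 (e.injective (h'.trans (map_one e).symm))
  · have := e.injective h'
    rw [this] at hz2
    rw [pow_succ, pow_two, hz2, one_mul] at hg3
    exact hg1 hg3
  · rw [← map_pow] at h'
    have := e.injective h'
    rw [this, ← pow_add, pow_succ, hg3, one_mul] at hz2
    exact hg1 hz2

theorem M0_center {b : G} (hb : b ∈ M0) (h : ∀ c ∈ M0, b * c = c * b) : b = 1 := by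
  obtain ⟨e⟩ := D.equiv
  set gB : M0 := ⟨g, D.g_mem⟩
  set bB : M0 := ⟨b, hb⟩
  by_contra hb1
  have hg1 : gB ≠ 1 := fun h => D.g_ne (congrArg Subtype.val h)
  have hg3 : gB ^ 3 = 1 := Subtype.ext D.g_three
  have hz := h z D.z_mem
  rcases alt5_three_cent (e gB) (by rw [← map_pow, hg3, map_one])
    (fun h' => hg1 (e.injective (h'.trans (map_one e).symm))) (e bB)
    (by rw [← map_mul, ← map_mul, show bB * gB = gB * bB from Subtype.ext (h g D.g_mem)]) with h' | h' | h'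
  · exact hb1 (congrArg Subtype.val (e.injective (h'.trans (map_one e).symm)))
  · have e' : b = g := congrArg Subtype.val (e.injective h')
    rw [e'] at hz
    exact D.g_not_comm hz
  · rw [← map_pow] at h'
    have e' : b = g ^ 2 := congrArg Subtype.val (e.injective h')
    rw [e'] at hz
    apply D.g_not_comm
    have hcm : Commute (g ^ 2) z := hz
    have := hcm.pow_left 2
    rwa [← pow_mul, show 2 * 2 = 3 + 1 from rfl, pow_succ, D.g_three, one_mul] at this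

theorem exists_R_elem : ∃ x : G, (∀ u ∈ V, x * u * x⁻¹ ∈ V) ∧ x * t ≠ t * x ∧
    ∀ b ∈ M0, x * b = b * x := by
  obtain ⟨e⟩ := D.equiv
  obtain ⟨v, hv, hv1, hvt⟩ : ∃ v ∈ V, v ≠ 1 ∧ v ≠ t := by
    by_contra hcon
    push Not at hcon
    haveI := Fintype.ofFinite G
    have : (Finset.univ.filter fun x => x ∈ V) ⊆ {1, t} := by
      intro x hx
      simp only [Finset.mem_insert, Finset.mem_singleton]
      exact or_iff_not_imp_left.2 (hcon x (Finset.mem_filter.1 hx).2)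
    have := (Finset.card_le_card this).trans Finset.card_le_two
    rw [← Fintype.card_subtype, ← Nat.card_eq_fintype_card] at this
    change Nat.card V ≤ 2 at this
    rw [D.cardV] at this
    omega
  obtain ⟨h, hh⟩ := isConj_iff.1 (D.V_t hv hv1).symm
  have hM : ∀ m : G, m * t = t * m → h * m * h⁻¹ * t = t * (h * m * h⁻¹) := by
    intro m hm
    refine D.mem_M.1 (D.cent_V hv hv1 ▸ Subgroup.mem_centralizer_singleton_iff.2 ?_)
    rw [← hh]
    calc h * m * h⁻¹ * (h * t * h⁻¹) = h * (m * t) * h⁻¹ := by group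
      _ = h * t * h⁻¹ * (h * m * h⁻¹) := by rw [hm]; group
  have hM0 : ∀ b ∈ M0, h * b * h⁻¹ ∈ M0 := by
    have : M0 ≤ M0.comap (MulAut.conj h).toMonoidHom := by
      refine alt5_invol_gen e fun b hb hb2 hb1 => ?_
      exact D.z_type (hM b (D.mem_M.1 (D.M0_le hb)))
        ((isConj_iff.2 ⟨h, rfl⟩).symm.trans (D.M0_z hb hb2 hb1))
    exact this
  have hfin : ∀ {x : G}, (∀ b ∈ M0, x * b * x⁻¹ ∈ M0) → ∀ b ∈ M0, x⁻¹ * b * x ∈ M0 := by
    intro x hx b hb
    let f : M0 → M0 := fun c => ⟨x * c * x⁻¹, hx c c.2⟩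
    have hf : Function.Injective f := fun a c h =>
      Subtype.ext (mul_left_cancel (mul_right_cancel (congrArg Subtype.val h)))
    obtain ⟨c, hc⟩ := (Finite.injective_iff_surjective.1 hf) ⟨b, hb⟩
    have hc' : x * c * x⁻¹ = b := congrArg Subtype.val hc
    rw [← hc', show x⁻¹ * (x * (c : G) * x⁻¹) * x = c by group]
    exact c.2
  have hV : ∀ u ∈ V, h * u * h⁻¹ ∈ V := by
    intro u hu
    have hut := hM u (D.mem_M.1 (D.V_le hu))
    obtain ⟨w, hw, b, hb, hwb⟩ := D.decomp _ hut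
    have : b = 1 := by
      refine D.M0_center hb fun c hc => ?_
      have h1 : h * u * h⁻¹ * c = c * (h * u * h⁻¹) := by
        have h2 := D.comm u hu _ (hfin hM0 c hc)
        calc h * u * h⁻¹ * c = h * (u * (h⁻¹ * c * h)) * h⁻¹ := by group
          _ = c * (h * u * h⁻¹) := by rw [h2]; group
      rw [hwb] at h1
      apply mul_left_cancel (a := w)
      rw [← mul_assoc, h1, ← mul_assoc, ← mul_assoc, D.comm w hw c hc]
    rw [hwb, this, mul_one]
    exact hw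
  -- fix `z`
  have hzz : h * z * h⁻¹ * (h * z * h⁻¹) = 1 := by
    rw [show h * z * h⁻¹ * (h * z * h⁻¹) = h * (z * z) * h⁻¹ by group, D.pair.S.z_sq]; group
  obtain ⟨m1, hm1, hm1z⟩ := D.M0_invol (hM0 z D.z_mem) hzz
    (fun e => D.pair.S.z_ne (conj_eq_one_iff.1 e)) D.z_mem D.pair.S.z_sq D.pair.S.z_ne
  set h1 := m1 * h with hh1
  have hz1 : h1 * z * h1⁻¹ = z := by
    rw [hh1, show m1 * h * z * (m1 * h)⁻¹ = m1 * (h * z * h⁻¹) * m1⁻¹ by group, hm1z]
  have hM1 : ∀ b ∈ M0, h1 * b * h1⁻¹ ∈ M0 := fun b hb => by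
    rw [hh1, show m1 * h * b * (m1 * h)⁻¹ = m1 * (h * b * h⁻¹) * m1⁻¹ by group]
    exact M0.mul_mem (M0.mul_mem hm1 (hM0 b hb)) (M0.inv_mem hm1)
  set g' := h1 * g * h1⁻¹ with hg'
  have hg'M : g' ∈ M0 := hM1 g D.g_mem
  have hg'3 : g' ^ 3 = 1 := by rw [hg', conj_pow, D.g_three]; group
  have hg'1 : g' ≠ 1 := fun e => D.g_ne (conj_eq_one_iff.1 e)
  have hg'z : z * (g' * z * g'⁻¹) = g' * z * g'⁻¹ * z := by
    have e1 : g' * z * g'⁻¹ = h1 * (g * z * g⁻¹) * h1⁻¹ := by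
      calc g' * z * g'⁻¹ = g' * (h1 * z * h1⁻¹) * g'⁻¹ := by rw [hz1]
        _ = h1 * (g * z * g⁻¹) * h1⁻¹ := by rw [hg']; group
    have h := D.g_z
    calc z * (g' * z * g'⁻¹) = h1 * z * h1⁻¹ * (h1 * (g * z * g⁻¹) * h1⁻¹) := by rw [hz1, e1]
      _ = h1 * (z * (g * z * g⁻¹)) * h1⁻¹ := by group
      _ = h1 * (g * z * g⁻¹) * h1⁻¹ * (h1 * z * h1⁻¹) := by rw [← h]; group
      _ = g' * z * g'⁻¹ * z := by rw [hz1, e1]
  set gB : M0 := ⟨g, D.g_mem⟩
  set hB : M0 := ⟨g', hg'M⟩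
  set zB : M0 := ⟨z, D.z_mem⟩
  have ne1 : ∀ {a : M0}, a ≠ 1 → e a ≠ 1 := fun ha h' => ha (e.injective (h'.trans (map_one e).symm))
  obtain ⟨m', hm'z, hm'g⟩ := alt5_align (e gB)
    (by rw [← map_pow, show gB ^ 3 = 1 from Subtype.ext D.g_three, map_one])
    (ne1 fun h' => D.g_ne (congrArg Subtype.val h')) (e zB)
    (by rw [← map_mul, show zB * zB = 1 from Subtype.ext D.pair.S.z_sq, map_one])
    (ne1 fun h' => D.pair.S.z_ne (congrArg Subtype.val h'))
    (by simp only [← map_mul, ← map_inv]; exact congrArg e (Subtype.ext D.g_z.symm))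
    (e hB) (by rw [← map_pow, show hB ^ 3 = 1 from Subtype.ext hg'3, map_one])
    (ne1 fun h' => hg'1 (congrArg Subtype.val h'))
    (by simp only [← map_mul, ← map_inv]; exact congrArg e (Subtype.ext hg'z))
  obtain ⟨m, rfl⟩ : ∃ m : M0, e m = m' := ⟨e.symm m', by simp⟩
  simp only [← map_mul, ← map_inv] at hm'z hm'g
  have hmz : (m : G) * z = z * m := congrArg Subtype.val (e.injective hm'z)
  have hmg : (m : G) * g' * (m : G)⁻¹ = g ∨ (m : G) * g' * (m : G)⁻¹ = g⁻¹ := by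
    rcases hm'g with h' | h'
    · exact Or.inl (congrArg Subtype.val (e.injective h'))
    · exact Or.inr (congrArg Subtype.val (e.injective h'))
  set h2 := (m : G) * h1 with hh2
  have hz2 : h2 * z * h2⁻¹ = z := by
    rw [hh2, show (m : G) * h1 * z * ((m : G) * h1)⁻¹ = m * (h1 * z * h1⁻¹) * (m : G)⁻¹ by group, hz1, hmz]
    group
  have hg2 : h2 * h2 * g * (h2 * h2)⁻¹ = g := by
    have e2 : h2 * g * h2⁻¹ = g ∨ h2 * g * h2⁻¹ = g⁻¹ := by
      rw [hh2, show (m : G) * h1 * g * ((m : G) * h1)⁻¹ = m * g' * (m : G)⁻¹ by rw [hg']; group]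
      exact hmg
    rw [show h2 * h2 * g * (h2 * h2)⁻¹ = h2 * (h2 * g * h2⁻¹) * h2⁻¹ by group]
    rcases e2 with h' | h'
    · rw [h', h']
    · rw [h', show h2 * g⁻¹ * h2⁻¹ = (h2 * g * h2⁻¹)⁻¹ by group, h', inv_inv]
  have hM2 : ∀ b ∈ M0, h2 * b * h2⁻¹ ∈ M0 := fun b hb => by
    rw [hh2, show (m : G) * h1 * b * ((m : G) * h1)⁻¹ = m * (h1 * b * h1⁻¹) * (m : G)⁻¹ by group]
    exact M0.mul_mem (M0.mul_mem m.2 (hM1 b hb)) (M0.inv_mem m.2)
  have hh2V : ∀ u ∈ V, h2 * u * h2⁻¹ = h * u * h⁻¹ := by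
    intro u hu
    rw [hh2, hh1, show (m : G) * (m1 * h) * u * ((m : G) * (m1 * h))⁻¹ =
      (m : G) * m1 * (h * u * h⁻¹) * ((m : G) * m1)⁻¹ by group,
      ← D.comm _ (hV u hu) _ (M0.mul_mem m.2 hm1), mul_inv_cancel_right]
  refine ⟨h2 * h2, ?_, ?_, ?_⟩
  · intro u hu
    rw [show h2 * h2 * u * (h2 * h2)⁻¹ = h2 * (h2 * u * h2⁻¹) * h2⁻¹ by group, hh2V u hu,
      hh2V _ (hV u hu)]
    exact hV _ (hV u hu)
  · intro hfix
    have e3 : h * v * h⁻¹ = t := by
      calc h * v * h⁻¹ = h2 * (h * t * h⁻¹) * h2⁻¹ := by rw [hh, hh2V v hv]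
        _ = h2 * h2 * t * (h2 * h2)⁻¹ := by rw [← hh2V t D.t_mem]; group
        _ = t := mul_inv_eq_iff_eq_mul.2 hfix
    have hne : h * t ≠ t * h := fun e' => hvt (by rw [← hh, mul_inv_eq_iff_eq_mul.2 e'])
    refine D.moves hV hne (V.mul_mem D.t_mem hv) ?_ ?_
    · intro e'
      exact hvt ((eq_inv_of_mul_eq_one_right e').trans (inv_eq_of_mul_eq_one_right D.pair.t_sq))
    · rw [show h * (t * v) * h⁻¹ = h * t * h⁻¹ * (h * v * h⁻¹) by group, hh, e3]
      exact D.V_comm hv rfl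
  · intro b hb
    refine centralizes_alt5 e (x := h2 * h2) (g := g) (w := z) ?_ D.g_mem D.g_three D.g_ne D.z_mem
      D.pair.S.z_sq D.pair.S.z_ne D.g_z.symm (mul_inv_eq_iff_eq_mul.1 hg2) ?_ b hb
    · intro c hc
      rw [show h2 * h2 * c * (h2 * h2)⁻¹ = h2 * (h2 * c * h2⁻¹) * h2⁻¹ by group]
      exact hM2 _ (hM2 c hc)
    · exact ((show Commute h2 z from mul_inv_eq_iff_eq_mul.1 hz2).mul_left (mul_inv_eq_iff_eq_mul.1 hz2)).eq

/-- The centraliser of `M0` in the normaliser of `V`. -/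
def R (_ : Cent z t Q K C V M0 g) : Subgroup G :=
  Subgroup.centralizer (M0 : Set G) ⊓ Subgroup.normalizer (V : Set G)

theorem R_comm {r b : G} (hr : r ∈ D.R) (hb : b ∈ M0) : r * b = b * r :=
  (Subgroup.mem_centralizer_iff.1 hr.1 b hb).symm

theorem R_V {r u : G} (hr : r ∈ D.R) (hu : u ∈ V) : r * u * r⁻¹ ∈ V :=
  (Subgroup.mem_normalizer_iff.1 hr.2 u).1 hu

theorem mem_R {x : G} (hx : ∀ u ∈ V, x * u * x⁻¹ ∈ V) (hb : ∀ b ∈ M0, x * b = b * x) : x ∈ D.R := by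
  refine ⟨Subgroup.mem_centralizer_iff.2 fun b hb' => (hb b hb').symm, ?_⟩
  let f : V → V := fun c => ⟨x * c * x⁻¹, hx c c.2⟩
  have hf : Function.Injective f := fun a c h =>
    Subtype.ext (mul_left_cancel (mul_right_cancel (congrArg Subtype.val h)))
  refine Subgroup.mem_normalizer_iff.2 fun u => ⟨hx u, fun hu => ?_⟩
  obtain ⟨c, hc⟩ := (Finite.injective_iff_surjective.1 hf) ⟨_, hu⟩
  have hc' : x * c * x⁻¹ = x * u * x⁻¹ := congrArg Subtype.val hc
  exact (mul_left_cancel (mul_right_cancel hc')) ▸ c.2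

theorem V_le_R : V ≤ D.R := fun v hv =>
  D.mem_R (fun u hu => V.mul_mem (V.mul_mem hv hu) (V.inv_mem hv)) fun b hb => D.comm v hv b hb

theorem R_inf_M {r : G} (hr : r ∈ D.R) (hrt : r * t = t * r) : r ∈ V := by
  obtain ⟨v, hv, b, hb, rfl⟩ := D.decomp r hrt
  have : b = 1 := by
    refine D.M0_center hb fun c hc => ?_
    have h1 := D.R_comm hr hc
    apply mul_left_cancel (a := v)
    rw [← mul_assoc, h1, ← mul_assoc, ← mul_assoc, D.comm v hv c hc]
  rw [this, mul_one]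
  exact hv

theorem R_trans {v : G} (hv : v ∈ V) (hv1 : v ≠ 1) : ∃ r ∈ D.R, r * t * r⁻¹ = v := by
  haveI := Fintype.ofFinite G
  obtain ⟨x, hxV, hxt, hxc⟩ := D.exists_R_elem
  have hxR := D.mem_R hxV hxc
  have hx2t : x * x * t ≠ t * (x * x) := by
    intro h
    have hne : x * t * x⁻¹ ≠ t := fun e => hxt (mul_inv_eq_iff_eq_mul.1 e)
    refine D.moves hxV hxt (V.mul_mem D.t_mem (hxV t D.t_mem)) ?_ ?_
    · intro e'
      exact hne ((eq_inv_of_mul_eq_one_right e').trans (inv_eq_of_mul_eq_one_right D.pair.t_sq))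
    · rw [show x * (t * (x * t * x⁻¹)) * x⁻¹ = x * t * x⁻¹ * (x * x * t * (x * x)⁻¹) by group,
        mul_inv_eq_iff_eq_mul.2 h]
      exact D.V_comm (hxV t D.t_mem) rfl
  have h3 : ({t, x * t * x⁻¹, x * x * t * (x * x)⁻¹} : Finset G) =
      (Finset.univ.filter fun u => u ∈ V).erase 1 := by
    have hmem : ∀ u : G, u ∈ V → u ≠ 1 → u ∈ (Finset.univ.filter fun u => u ∈ V).erase 1 := fun u h h' =>
      Finset.mem_erase.2 ⟨h', Finset.mem_filter.2 ⟨Finset.mem_univ _, h⟩⟩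
    refine Finset.eq_of_subset_of_card_le ?_ ?_
    · intro u hu
      simp only [Finset.mem_insert, Finset.mem_singleton] at hu
      rcases hu with rfl | rfl | rfl
      · exact hmem _ D.t_mem D.pair.t_ne
      · exact hmem _ (hxV t D.t_mem) fun e => D.pair.t_ne (conj_eq_one_iff.1 e)
      · exact hmem _ (D.R_V (D.R.mul_mem hxR hxR) D.t_mem) fun e => D.pair.t_ne (conj_eq_one_iff.1 e)
    · rw [Finset.card_erase_of_mem (by simp), ← Fintype.card_subtype, ← Nat.card_eq_fintype_card,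
        Finset.card_insert_of_notMem, Finset.card_pair]
      · show Nat.card V - 1 ≤ 3
        rw [D.cardV]
      · intro e
        apply hxt
        have : t = x * t * x⁻¹ := by
          apply mul_left_cancel (a := x)
          apply mul_right_cancel (b := x⁻¹)
          exact e.trans (by group)
        exact mul_inv_eq_iff_eq_mul.1 this.symm
      · simp only [Finset.mem_insert, Finset.mem_singleton, not_or]
        exact ⟨fun e => hxt (mul_inv_eq_iff_eq_mul.1 e.symm), fun e => hx2t (mul_inv_eq_iff_eq_mul.1 e.symm)⟩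
  have : v ∈ (Finset.univ.filter fun u => u ∈ V).erase 1 :=
    Finset.mem_erase.2 ⟨hv1, Finset.mem_filter.2 ⟨Finset.mem_univ _, hv⟩⟩
  rw [← h3] at this
  simp only [Finset.mem_insert, Finset.mem_singleton] at this
  rcases this with rfl | rfl | rfl
  · exact ⟨1, D.R.one_mem, by group⟩
  · exact ⟨x, hxR, rfl⟩
  · exact ⟨x * x, D.R.mul_mem hxR hxR, rfl⟩

theorem card_R : Nat.card D.R = 12 := by
  haveI := Fintype.ofFinite G
  set O := (Finset.univ.filter fun u => u ∈ V).erase 1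
  have hO : O.card = 3 := by
    rw [Finset.card_erase_of_mem (by simp), ← Fintype.card_subtype, ← Nat.card_eq_fintype_card]
    show Nat.card V - 1 = 3
    rw [D.cardV]
  rw [Nat.card_eq_fintype_card, Fintype.card_subtype,
    Finset.card_eq_sum_card_fiberwise (f := fun r => r * t * r⁻¹) (t := O), Finset.sum_const_nat (m := 4), hO]
  · intro v hv
    obtain ⟨hv1, hvV⟩ := Finset.mem_erase.1 hv
    obtain ⟨r, hr, rfl⟩ := D.R_trans (Finset.mem_filter.1 hvV).2 hv1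
    rw [← D.cardV, Nat.card_eq_fintype_card, Fintype.card_subtype]
    refine (Finset.card_bij (fun u _ => r * u) ?_ (fun _ _ _ _ e => mul_left_cancel e) ?_).symm
    · intro u hu
      have hu' := (Finset.mem_filter.1 hu).2
      refine Finset.mem_filter.2 ⟨Finset.mem_filter.2 ⟨Finset.mem_univ _, D.R.mul_mem hr (D.V_le_R hu')⟩, ?_⟩
      rw [show r * u * t * (r * u)⁻¹ = r * (u * t) * u⁻¹ * r⁻¹ by group, D.V_comm hu' rfl]
      group
    · intro s hs
      obtain ⟨hsR, hst⟩ := Finset.mem_filter.1 hs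
      refine ⟨r⁻¹ * s, Finset.mem_filter.2 ⟨Finset.mem_univ _,
        D.R_inf_M (D.R.mul_mem (D.R.inv_mem hr) (Finset.mem_filter.1 hsR).2) ?_⟩, by group⟩
      refine mul_inv_eq_iff_eq_mul.1 ?_
      rw [show r⁻¹ * s * t * (r⁻¹ * s)⁻¹ = r⁻¹ * (s * t * s⁻¹) * r by group, hst]
      group
  · intro r hr
    exact Finset.mem_erase.2 ⟨fun e => D.pair.t_ne (conj_eq_one_iff.1 e),
      Finset.mem_filter.2 ⟨Finset.mem_univ _, D.R_V (Finset.mem_filter.1 hr).2 D.t_mem⟩⟩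

theorem N_decomp {n : G} (hn : ∀ u ∈ V, n * u * n⁻¹ ∈ V) : ∃ r ∈ D.R, ∃ b ∈ M0, n = r * b := by
  obtain ⟨r, hr, hrt⟩ := D.R_trans (hn t D.t_mem) fun e => D.pair.t_ne (conj_eq_one_iff.1 e)
  have h : r⁻¹ * n * t = t * (r⁻¹ * n) := by
    refine mul_inv_eq_iff_eq_mul.1 ?_
    rw [show r⁻¹ * n * t * (r⁻¹ * n)⁻¹ = r⁻¹ * (n * t * n⁻¹) * r by group, ← hrt]
    group
  obtain ⟨v, hv, b, hb, e⟩ := D.decomp _ h
  exact ⟨r * v, D.R.mul_mem hr (D.V_le_R hv), b, hb, by rw [mul_assoc r, ← e]; group⟩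

theorem R_inf : D.R ⊓ M0 = ⊥ := by
  rw [eq_bot_iff]
  intro x hx
  rw [Subgroup.mem_bot]
  exact D.M0_center hx.2 fun c hc => D.R_comm hx.1 hc

theorem exists_r : ∃ r ∈ D.R, r ^ 3 = 1 ∧ r ≠ 1 ∧ r * t ≠ t * r := by
  haveI : Fact (Nat.Prime 3) := ⟨Nat.prime_three⟩
  obtain ⟨⟨r, hr⟩, ho⟩ := exists_prime_orderOf_dvd_card' (G := D.R) 3 (by rw [D.card_R]; norm_num)
  rw [Subgroup.orderOf_mk] at ho
  refine ⟨r, hr, ho ▸ pow_orderOf_eq_one r, fun e => by rw [e, orderOf_one] at ho; omega, fun e => ?_⟩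
  have := Subgroup.orderOf_dvd_natCard _ (D.R_inf_M hr e)
  rw [D.cardV, ho] at this
  norm_num at this

end Cent

theorem exists_data (z : G) (hz : orderOf z = 2) (Q : Subgroup (Subgroup.centralizer ({z} : Set G)))
    [Q.Normal] (hF : Cfsg.generalizedFittingSubgroup (Subgroup.centralizer ({z} : Set G)) = Q)
    (hQ : Cfsg.IsExtraspecial 2 Q) (hcard : Nat.card Q = 2 ^ 5)
    (e : (Subgroup.centralizer ({z} : Set G)) ⧸ Q ≃* Cfsg.Omega (ZMod 2) (Cfsg.quadFormMinus 1 (ZMod 2) 1 1))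
    (hnwc : ∃ g : G, (∃ hq : g * z * g⁻¹ ∈ Subgroup.centralizer ({z} : Set G),
      (⟨g * z * g⁻¹, hq⟩ : Subgroup.centralizer ({z} : Set G)) ∈ Q) ∧ g * z * g⁻¹ ≠ z)
    (hcl : ∃ x y : G, orderOf x = 2 ∧ orderOf y = 2 ∧ ¬ IsConj x y) :
    ∃ (t g : G) (Q' K C V M0 : Subgroup G), Cent z t Q' K C V M0 g := by
  obtain ⟨K, H⟩ := exists_hyp z hz _ (fun _ => Subgroup.mem_centralizer_singleton_iff) Q hF hQ hcard e hnwc hcl
  obtain ⟨t, ht, ht2, ht1⟩ := H.exists_invol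
  obtain ⟨V, M0, g, hD⟩ := (Pair.mk H ht ht2 ht1).exists_cent
  exact ⟨t, g, _, K, _, V, M0, hD⟩

end CfsgLib.J2Type
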