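import Cfsg.Agent.Lib.J2Type.Three

/-!
Groups of Hall–Janko type: the Sylow 7-subgroup and its normaliser.
-/

set_option autoImplicit false

open scoped Classical Pointwise

namespace CfsgLib.J2Type

open CfsgLib.J2Order

variable {G : Type*} [Group G] [Finite G] {z t g : G} {Q K C V M0 : Subgroup G}

theorem card_cent_of_isConj {a b : G} (h : IsConj a b) :
    Nat.card (Subgroup.centralizer ({a} : Set G)) = Nat.card (Subgroup.centralizer ({b} : Set G)) := by
  obtain ⟨u, rfl⟩ := isConj_iff.1 h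
  exact (card_conj_eq u a).symm

theorem card_le_two_of {α : Type*} (S : Finset α) (a b : α) (h : ∀ w ∈ S, w = a ∨ w = b) : S.card ≤ 2 :=
  (Finset.card_le_card (t := {a, b}) fun w hw => by
    rw [Finset.mem_insert, Finset.mem_singleton]; exact h w hw).trans Finset.card_le_two

namespace Cent

variable (D : Cent z t Q K C V M0 g)
include D

theorem three_in_M0 {b : G} (hb : b ∈ M0) (hbo : orderOf b = 3) : IsConj b g := by
  haveI : Fact (Nat.Prime 3) := ⟨Nat.prime_three⟩
  obtain ⟨T, hT⟩ := (IsPGroup.of_card (p := 3) (G := Subgroup.zpowers (⟨g, D.g_mem⟩ : M0)) (n := 1)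
    (by rw [Nat.card_zpowers, Subgroup.orderOf_mk, D.orderOf_g, pow_one])).exists_le_sylow
  have hT3 : Nat.card T = 3 :=
    (card_sylow_of (p := 3) (n := 1) (m := 20) (by rw [D.card_M0]; norm_num) (by norm_num) T).trans
      (pow_one 3)
  have hTg : (T : Subgroup M0) = Subgroup.zpowers (⟨g, D.g_mem⟩ : M0) := (Subgroup.eq_of_le_of_card_ge hT
    (by rw [hT3, Nat.card_zpowers, Subgroup.orderOf_mk, D.orderOf_g])).symm
  obtain ⟨c, -, w, hw, hwe⟩ := mem_conj_sylow T hb ⟨1, by rw [pow_one, ← hbo, pow_orderOf_eq_one]⟩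
  rw [hTg] at hw
  obtain ⟨j, hj⟩ := Subgroup.mem_zpowers_iff.1 hw
  have hwg : (w : G) ∈ Subgroup.zpowers g :=
    Subgroup.mem_zpowers_iff.2 ⟨j, by rw [← hj, SubgroupClass.coe_zpow]⟩
  have hbw : IsConj b (w : G) := isConj_iff.2 ⟨c, hwe.symm⟩
  refine hbw.trans ?_
  rcases mem_zpowers_three D.g_three hwg with e | e | e
  · rw [hwe] at e
    rw [conj_eq_one_iff] at e
    rw [e, orderOf_one] at hbo; omega
  · rw [e]
  · obtain ⟨i0, -, hi0⟩ := D.exists_inv_g
    refine (isConj_iff.2 ⟨i0, ?_⟩).symm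
    rw [hi0, e, inv_eq_of_mul_eq_one_right (show g * g ^ 2 = 1 by rw [← pow_succ', D.g_three])]

/-- An involution commuting with an element of order three outside the class of `g` is conjugate to `z`. -/
theorem invol_z_of_three {x i : G} (hxo : orderOf x = 3) (hne : ¬ IsConj g x) (hi : orderOf i = 2)
    (hix : i * x = x * i) : IsConj i z := by
  rcases D.pair.classes i hi with h | h
  · exact h
  exfalso
  obtain ⟨u, hu⟩ := isConj_iff.1 h
  set y := u * x * u⁻¹ with hy
  have hyt : y * t = t * y := by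
    rw [← hu]; exact ((Commute.conj_iff u).2 (show Commute x i from hix.symm)).eq
  have hyo : orderOf y = 3 := by rw [hy, orderOf_conjg, hxo]
  obtain ⟨v, hv, b, hb, e⟩ := D.decomp y hyt
  have hy3 : y ^ 3 = 1 := hyo ▸ pow_orderOf_eq_one y
  rw [e, (show Commute v b from D.comm v hv b hb).mul_pow] at hy3
  obtain ⟨hv3, -⟩ := D.decomp_unique (V.pow_mem hv 3) V.one_mem (M0.pow_mem hb 3) M0.one_mem
    (hy3.trans (one_mul 1).symm)
  have hv1 : v = 1 := by rwa [pow_succ, pow_two, D.V_sq v hv, one_mul] at hv3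
  rw [hv1, one_mul] at e
  rw [← e] at hb
  exact hne ((D.three_in_M0 hb hyo).symm.trans (isConj_iff.2 ⟨u, rfl⟩ : IsConj x y).symm)

/-- The Sylow 2-subgroups of the centraliser of such an element have order at most eight. -/
theorem not_sixteen_dvd {x : G} (hxo : orderOf x = 3) (hne : ¬ IsConj g x) :
    ¬ 16 ∣ Nat.card (Subgroup.centralizer ({x} : Set G)) := by
  haveI : Fact (Nat.Prime 2) := ⟨Nat.prime_two⟩
  intro h
  obtain ⟨S0, hS0⟩ := Sylow.exists_subgroup_card_pow_prime 2 (G := Subgroup.centralizer ({x} : Set G))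
    (n := 4) (by simpa using h)
  set S := S0.map (Subgroup.centralizer ({x} : Set G)).subtype with hSdef
  have hS : Nat.card S = 16 := by
    rw [hSdef, Subgroup.card_map_of_injective (Subgroup.subtype_injective _), hS0]; norm_num
  have hSx : ∀ s ∈ S, s * x = x * s := by
    rintro _ ⟨s, -, rfl⟩
    exact Subgroup.mem_centralizer_singleton_iff.1 s.2
  haveI : Nontrivial S := Finite.one_lt_card_iff_nontrivial.1 (by rw [hS]; norm_num)
  have hp : IsPGroup 2 S := IsPGroup.of_card (n := 4) (by rw [hS]; norm_num)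
  haveI := hp.center_nontrivial
  obtain ⟨n, hn, hnc⟩ := (hp.to_subgroup (Subgroup.center S)).nontrivial_iff_card.1 inferInstance
  obtain ⟨⟨⟨i, hiS⟩, hic⟩, hio⟩ := exists_prime_orderOf_dvd_card' (G := Subgroup.center S) 2
    (hnc ▸ dvd_pow_self 2 hn.ne')
  rw [Subgroup.orderOf_mk, Subgroup.orderOf_mk] at hio
  have hci : ∀ s ∈ S, s * i = i * s := fun s hs =>
    congrArg Subtype.val (Subgroup.mem_center_iff.1 hic ⟨s, hs⟩)
  obtain ⟨u, hu⟩ := isConj_iff.1 (D.invol_z_of_three hxo hne hio (hSx i hiS))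
  have hx' : u * x * u⁻¹ ∈ C := (D.pair.hyp.mem_C _).2 (by
    rw [← hu]; exact ((Commute.conj_iff u).2 (show Commute i x from hSx i hiS).symm).eq)
  have hle : S.map (MulAut.conj u).toMonoidHom ≤
      C ⊓ Subgroup.centralizer ({u * x * u⁻¹} : Set G) := by
    rintro _ ⟨s, hs, rfl⟩
    refine ⟨(D.pair.hyp.mem_C _).2 ?_, Subgroup.mem_centralizer_singleton_iff.2 ?_⟩
    · rw [← hu]; exact ((Commute.conj_iff u).2 (show Commute s i from hci s hs)).eq
    · exact ((Commute.conj_iff u).2 (show Commute s x from hSx s hs)).eq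
  have h1 := Subgroup.card_dvd_of_le hle
  rw [Subgroup.card_map_of_injective (by exact (MulAut.conj u).injective), hS,
    D.card_C_three hx' (by rw [orderOf_conjg, hxo])] at h1
  norm_num at h1

/-- Divisibility of the order of the centraliser of an element of order three of the class of `r`. -/
theorem cent_r_dvd {r : G} (hr : r ∈ D.R) (hro : orderOf r = 3) (hrz : r * z = z * r)
    (hall : ∀ c : G, orderOf c = 3 → IsConj c g ∨ IsConj c r)
    (hexp : ∀ P : Sylow 3 G, (∀ a : G, a ∈ P → a ^ 3 = 1) ∧ Nat.card P = 27) :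
    1080 ∣ Nat.card (Subgroup.centralizer ({r} : Set G)) ∧
      ¬ 25 ∣ Nat.card (Subgroup.centralizer ({r} : Set G)) := by
  haveI : Fact (Nat.Prime 2) := ⟨Nat.prime_two⟩
  haveI : Fact (Nat.Prime 3) := ⟨Nat.prime_three⟩
  haveI : Fact (Nat.Prime 5) := ⟨by decide⟩
  set L := Subgroup.centralizer ({r} : Set G) with hL
  have memL : ∀ {y : G}, y ∈ L ↔ y * r = r * y := Subgroup.mem_centralizer_singleton_iff
  have hrC : r ∈ C := (D.pair.hyp.mem_C r).2 hrz
  have h24 : 24 ∣ Nat.card L := D.card_C_three hrC hro ▸ Subgroup.card_dvd_of_le inf_le_right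
  have h27 : 27 ∣ Nat.card L := by
    obtain ⟨P⟩ := (inferInstance : Nonempty (Sylow 3 G))
    obtain ⟨h3, hP⟩ := hexp P
    haveI : Nontrivial (P : Subgroup G) := Finite.one_lt_card_iff_nontrivial.1 (by rw [hP]; norm_num)
    haveI := P.2.center_nontrivial
    obtain ⟨⟨⟨c, hcP⟩, hc⟩, hc1⟩ := exists_ne (1 : Subgroup.center (P : Subgroup G))
    have hc1' : c ≠ 1 := fun e => hc1 (Subtype.ext (Subtype.ext e))
    have hle : (P : Subgroup G) ≤ Subgroup.centralizer ({c} : Set G) := fun y hy =>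
      Subgroup.mem_centralizer_singleton_iff.2
        (congrArg Subtype.val (Subgroup.mem_center_iff.1 hc ⟨y, hy⟩))
    have hd := Subgroup.card_dvd_of_le hle
    rw [hP] at hd
    rcases hall c (orderOf_eq_prime (h3 c hcP) hc1') with h | h
    · rw [card_cent_of_isConj h, D.card_Cg] at hd; norm_num at hd
    · rwa [card_cent_of_isConj h] at hd
  obtain ⟨f, f1, hf, hfo, hfsc, hfns, -⟩ := D.five_main
  have hrf : r * f = f * r := D.R_comm hr hf
  have hfL : f ∈ L := memL.2 hrf.symm
  have h5 : 5 ∣ Nat.card L := hfo ▸ Subgroup.orderOf_dvd_natCard _ hfL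
  have h25 : ¬ 25 ∣ Nat.card L := by
    intro h
    obtain ⟨S0, hS0⟩ := Sylow.exists_subgroup_card_pow_prime 5 (G := L) (n := 2) (by simpa using h)
    set S := S0.map L.subtype with hSdef
    have hS : Nat.card S = 25 := by
      rw [hSdef, Subgroup.card_map_of_injective (Subgroup.subtype_injective _), hS0]; norm_num
    obtain ⟨P, hP⟩ := (IsPGroup.of_card (p := 5) (G := S) (n := 2) (by rw [hS]; norm_num)).exists_le_sylow
    have hSP : S = (P : Subgroup G) := Subgroup.eq_of_le_of_card_ge hP (by rw [hS, D.card_five P])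
    have hrP : r ∈ (P : Subgroup G) := by
      rw [← D.centralizer_sylow P, Subgroup.mem_centralizer_iff]
      intro y hy
      rw [SetLike.mem_coe, ← hSP] at hy
      obtain ⟨y', -, rfl⟩ := hy
      exact memL.1 y'.2
    have := Subgroup.orderOf_dvd_natCard _ hrP
    rw [hro, D.card_five P] at this
    norm_num at this
  refine ⟨?_, h25⟩
  have := Nat.lcm_dvd (Nat.lcm_dvd h24 h27) h5
  rwa [show Nat.lcm (Nat.lcm 24 27) 5 = 1080 by decide +kernel] at this

/-- The elements of order five of such a centraliser have centraliser of order fifteen in it. -/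
theorem cent_rf {r f : G} (hr : r ∈ D.R) (hro : orderOf r = 3) (h25 : ¬ 25 ∣ Nat.card (Subgroup.centralizer ({r} : Set G)))
    (hf : f ∈ M0) (hfo : orderOf f = 5) (hfsc : ∀ y ∈ M0, y * f = f * y → y ∈ Subgroup.zpowers f) :
    Nat.card (Subgroup.centralizer ({r} : Set G) ⊓ Subgroup.centralizer ({f} : Set G) : Subgroup G) = 15 := by
  haveI : Fact (Nat.Prime 2) := ⟨Nat.prime_two⟩
  set H := Subgroup.centralizer ({r} : Set G) ⊓ Subgroup.centralizer ({f} : Set G) with hH
  have hrf : r * f = f * r := D.R_comm hr hf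
  have h1 : 15 ∣ Nat.card H := by
    have := Nat.lcm_dvd
      (hfo ▸ Subgroup.orderOf_dvd_natCard H
        ⟨Subgroup.mem_centralizer_singleton_iff.2 hrf.symm, Subgroup.mem_centralizer_singleton_iff.2 rfl⟩)
      (hro ▸ Subgroup.orderOf_dvd_natCard H
        ⟨Subgroup.mem_centralizer_singleton_iff.2 rfl, Subgroup.mem_centralizer_singleton_iff.2 hrf⟩)
    rwa [show Nat.lcm 5 3 = 15 by decide +kernel] at this
  obtain ⟨hC300, π, -, hπ, -⟩ := D.cent_f hf hfo hfsc
  have h2 : Nat.card H ∣ 300 := hC300 ▸ Subgroup.card_dvd_of_le inf_le_right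
  have h3 : ¬ 25 ∣ Nat.card H := fun h => h25 (h.trans (Subgroup.card_dvd_of_le inf_le_left))
  have hodd : ¬ 2 ∣ Nat.card H := by
    intro h
    obtain ⟨⟨i, hi⟩, hio⟩ := exists_prime_orderOf_dvd_card' (G := H) 2 h
    rw [Subgroup.orderOf_mk] at hio
    obtain ⟨hiL, hiH⟩ := Subgroup.mem_inf.1 hi
    have hif : i * f = f * i := Subgroup.mem_centralizer_singleton_iff.1 hiH
    set rC : Subgroup.centralizer ({f} : Set G) := ⟨r, Subgroup.mem_centralizer_singleton_iff.2 hrf⟩
    set iC : Subgroup.centralizer ({f} : Set G) := ⟨i, Subgroup.mem_centralizer_singleton_iff.2 hif⟩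
    have hr3 : π rC ^ 3 = 1 := by
      rw [← map_pow, show rC ^ 3 = 1 from Subtype.ext (by
        rw [SubgroupClass.coe_pow]; exact hro ▸ pow_orderOf_eq_one r), map_one]
    have hr1 : π rC ≠ 1 := by
      intro e
      have := orderOf_dvd_of_mem_zpowers ((hπ rC).1 e)
      rw [show ((rC : G)) = r from rfl, hro, hfo] at this
      norm_num at this
    have hi2 : π iC * π iC = 1 := by
      rw [← map_mul, show iC * iC = 1 from Subtype.ext (by
        show i * i = 1
        rw [← pow_two, ← hio, pow_orderOf_eq_one]), map_one]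
    have hcomm : π iC * π rC = π rC * π iC := by
      rw [← map_mul, ← map_mul, show iC * rC = rC * iC from Subtype.ext (Subgroup.mem_centralizer_singleton_iff.1 hiL)]
    rcases alt5_three_cent _ hr3 hr1 _ hcomm with e | e | e
    · have := orderOf_dvd_of_mem_zpowers ((hπ iC).1 e)
      rw [show ((iC : G)) = i from rfl, hio, hfo] at this
      norm_num at this
    · rw [e] at hi2
      apply hr1
      rwa [pow_succ, pow_two, hi2, one_mul] at hr3
    · rw [e, ← pow_add] at hi2
      apply hr1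
      rwa [show 2 + 2 = 3 + 1 from rfl, pow_succ, hr3, one_mul] at hi2
  obtain ⟨q, hq⟩ := h1
  rw [hq] at h2 h3 hodd ⊢
  have hq20 : q ∣ 20 := Nat.dvd_of_mul_dvd_mul_left (k := 15) (by norm_num) h2
  have := Nat.le_of_dvd (by norm_num) hq20
  interval_cases q <;> omega

set_option maxHeartbeats 400000 in
/-- No element of order seven commutes with an element of order three. -/
theorem seven_not_dvd_r {r : G} (hr : r ∈ D.R) (hro : orderOf r = 3) (hrz : r * z = z * r)
    (hne : ¬ IsConj g r) (hall : ∀ c : G, orderOf c = 3 → IsConj c g ∨ IsConj c r)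
    (hexp : ∀ P : Sylow 3 G, (∀ a : G, a ∈ P → a ^ 3 = 1) ∧ Nat.card P = 27) :
    ¬ 7 ∣ Nat.card (Subgroup.centralizer ({r} : Set G)) := by
  haveI := Fintype.ofFinite G
  haveI : Fact (Nat.Prime 2) := ⟨Nat.prime_two⟩
  haveI : Fact (Nat.Prime 3) := ⟨Nat.prime_three⟩
  haveI : Fact (Nat.Prime 5) := ⟨by decide⟩
  intro h7
  set L := Subgroup.centralizer ({r} : Set G) with hL
  have memL : ∀ {y : G}, y ∈ L ↔ y * r = r * y := Subgroup.mem_centralizer_singleton_iff
  obtain ⟨h1080, h25⟩ := D.cent_r_dvd hr hro hrz hall hexp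
  obtain ⟨f, f1, hf, hfo, hfsc, hfns, -⟩ := D.five_main
  have hrf : r * f = f * r := D.R_comm hr hf
  have hfL : f ∈ L := memL.2 hrf.symm
  have hdG : Nat.card L ∣ 604800 := D.order ▸ Subgroup.card_subgroup_dvd_card L
  have h7560 : Nat.card L = 7560 := by
    have h' : 7560 ∣ Nat.card L := by
      have := Nat.lcm_dvd h1080 h7
      rwa [show Nat.lcm 1080 7 = 7560 by decide +kernel] at this
    obtain ⟨q, hq⟩ := h'
    rw [hq] at hdG
    have hq80 : q ∣ 80 := Nat.dvd_of_mul_dvd_mul_left (k := 7560) (by norm_num) hdG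
    have h16 := D.not_sixteen_dvd hro hne
    rw [← hL, hq] at h16
    rw [hq] at h25
    have hq2 : ¬ 2 ∣ q := fun ⟨m, hm⟩ => h16 ⟨945 * m, by rw [hm]; ring⟩
    have hq5 : ¬ 5 ∣ q := fun ⟨m, hm⟩ => h25 ⟨1512 * m, by rw [hm]; ring⟩
    have hq1 : q = 1 := by
      refine Nat.eq_one_of_dvd_one ?_
      have h2 : Nat.Coprime q (2 ^ 4) := ((Nat.prime_two.coprime_iff_not_dvd.2 hq2).pow_left 4).symm
      have h5' : Nat.Coprime q 5 := ((Fact.out : Nat.Prime 5).coprime_iff_not_dvd.2 hq5).symm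
      have := (h2.mul_right h5').eq_one_of_dvd (by simpa using hq80)
      rw [this]
    rw [hq, hq1]
  -- the normaliser in `L` of the group generated by `f`
  set fL : L := ⟨f, hfL⟩ with hfLdef
  set rL : L := ⟨r, memL.2 rfl⟩ with hrLdef
  have hfLo : orderOf fL = 5 := by rw [hfLdef, Subgroup.orderOf_mk, hfo]
  have hrLo : orderOf rL = 3 := by rw [hrLdef, Subgroup.orderOf_mk, hro]
  obtain ⟨T, hT⟩ := (IsPGroup.of_card (p := 5) (G := Subgroup.zpowers fL) (n := 1)
    (by rw [Nat.card_zpowers, hfLo, pow_one])).exists_le_sylow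
  have hT5 : Nat.card T = 5 :=
    (card_sylow_of (p := 5) (n := 1) (m := 1512) (by rw [h7560]; norm_num) (by norm_num) T).trans (pow_one 5)
  have hTf : (T : Subgroup L) = Subgroup.zpowers fL := (Subgroup.eq_of_le_of_card_ge hT
    (by rw [hT5, Nat.card_zpowers, hfLo])).symm
  set H := Subgroup.centralizer ({fL} : Set L) with hH
  set N := Subgroup.normalizer ((T : Subgroup L) : Set L) with hN
  have hH15 : Nat.card H = 15 := by
    rw [← D.cent_rf hr hro h25 hf hfo hfsc, ← Subgroup.card_map_of_injective (K := H) (Subgroup.subtype_injective L)]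
    refine congrArg (fun S : Subgroup G => Nat.card S) (le_antisymm ?_ ?_)
    · rintro _ ⟨y, hy, rfl⟩
      exact ⟨y.2, Subgroup.mem_centralizer_singleton_iff.2
        (congrArg Subtype.val (Subgroup.mem_centralizer_singleton_iff.1 hy))⟩
    · intro y hy
      exact ⟨⟨y, hy.1⟩, Subgroup.mem_centralizer_singleton_iff.2
        (Subtype.ext (Subgroup.mem_centralizer_singleton_iff.1 hy.2)), rfl⟩
  have hHN : H ≤ N := by
    intro y hy
    rw [Subgroup.mem_centralizer_singleton_iff] at hy
    have hfix : ∀ w ∈ (T : Subgroup L), y * w = w * y := by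
      intro w hw
      rw [hTf] at hw
      obtain ⟨j, rfl⟩ := Subgroup.mem_zpowers_iff.1 hw
      exact ((show Commute y fL from hy).zpow_right j).eq
    refine Subgroup.mem_normalizer_iff.2 fun w => ⟨fun hw => ?_, fun hw => ?_⟩
    · rw [hfix w hw, mul_inv_cancel_right]; exact hw
    · have h' := hfix _ hw
      have e : w = y * w * y⁻¹ := by
        calc w = y⁻¹ * (y * w * y⁻¹ * y) := by group
          _ = y * w * y⁻¹ := by rw [← h']; group
      exact e ▸ hw
  have horb : ∀ n ∈ N, n * fL * n⁻¹ = fL ∨ n * fL * n⁻¹ = fL ^ 4 := by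
    intro n hn
    have hm : n * fL * n⁻¹ ∈ Subgroup.zpowers fL :=
      hTf ▸ (Subgroup.mem_normalizer_iff.1 hn fL).1 (hT (Subgroup.mem_zpowers fL))
    obtain ⟨j, hj⟩ := mem_powers_iff_mem_zpowers.2 hm
    replace hj : fL ^ j = n * fL * n⁻¹ := hj
    rw [← pow_mod_orderOf, hfLo] at hj
    have hlt : j % 5 < 5 := Nat.mod_lt _ (by norm_num)
    have hG : ∀ m : ℕ, fL ^ m = n * fL * n⁻¹ → (n : G) * f * (n : G)⁻¹ = f ^ m := fun m e => by
      simpa using (congrArg Subtype.val e).symm
    interval_cases hm5 : j % 5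
    · exfalso
      rw [pow_zero, eq_comm, conj_eq_one_iff] at hj
      rw [hj, orderOf_one] at hfLo; omega
    · left; rw [← hj, pow_one]
    · exact absurd (hG 2 hj) (hfns n)
    · exfalso
      have e := hG 3 hj
      refine hfns (n : G)⁻¹ ?_
      have e2 : f = ((n : G)⁻¹ * f * (n : G)⁻¹⁻¹) ^ 3 := by
        rw [conj_pow, ← e]; group
      have h6 : ((n : G)⁻¹ * f * (n : G)⁻¹⁻¹) ^ 5 = 1 := by
        rw [conj_pow, show f ^ 5 = 1 from hfo ▸ pow_orderOf_eq_one f]; group
      calc (n : G)⁻¹ * f * (n : G)⁻¹⁻¹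
          = ((n : G)⁻¹ * f * (n : G)⁻¹⁻¹) ^ (5 + 1) := by rw [pow_succ, h6, one_mul]
        _ = f ^ 2 := by rw [show 5 + 1 = 3 * 2 from rfl, pow_mul, ← e2]
    · right; exact hj.symm
  have horbit := card_orbit (G := L) N fL
  rw [← hH, inf_eq_right.2 hHN, hH15] at horbit
  have hidx := N.card_mul_index
  have hmod : N.index ≡ 1 [MOD 5] := by
    have h1 := card_sylow_modEq_one 5 L
    rwa [Sylow.card_eq_index_normalizer T] at h1
  rw [h7560, ← horbit] at hidx
  have key : ∀ k n : ℕ, k ≤ 2 → k * 15 * n = 7560 → n % 5 = 1 % 5 → False := by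
    intro k n h1 h2 h3
    interval_cases k <;> omega
  refine key _ _ ?_ hidx hmod
  refine card_le_two_of _ fL (fL ^ 4) fun w hw => ?_
  simp only [Finset.mem_image] at hw
  obtain ⟨n, hn, rfl⟩ := hw
  exact horb n (Finset.mem_filter.1 hn).2

/-- No element of order seven commutes with an element of order two, three or five. -/
theorem seven_not_dvd {y : G} {p : ℕ} (hp : p = 2 ∨ p = 3 ∨ p = 5) (hy : orderOf y = p) :
    ¬ 7 ∣ Nat.card (Subgroup.centralizer ({y} : Set G)) := by
  rcases hp with rfl | rfl | rfl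
  · rcases D.pair.classes y hy with h | h
    · rw [card_cent_of_isConj h, D.card_Cz]; norm_num
    · rw [card_cent_of_isConj h, D.card_M]; norm_num
  · obtain ⟨r, hr, hro, hrz, hne, hall, hP⟩ := D.three_main
    rcases hall y hy with h | h
    · rw [card_cent_of_isConj h, D.card_Cg]; norm_num
    · rw [card_cent_of_isConj h]
      exact D.seven_not_dvd_r hr hro hrz hne hall fun P => ⟨(hP P).1, (hP P).2.2.1⟩
  · obtain ⟨f, f1, hf, hfo, hfsc, -, hf1o, hf1, -, hall, -⟩ := D.five_main
    have hy1 : y ≠ 1 := fun e => by rw [e, orderOf_one] at hy; omega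
    obtain ⟨u, hu⟩ := hall y hy
    rw [← card_conj_eq u y]
    have hy' : u * y * u⁻¹ ≠ 1 := fun e => hy1 (conj_eq_one_iff.1 e)
    rcases hu with hu | hu
    · rw [centralizer_eq_of_zpowers (zpowers_eq_of_mem hfo hu hy'), (D.cent_f hf hfo hfsc).1]; norm_num
    · rw [centralizer_eq_of_zpowers (zpowers_eq_of_mem hf1o hu hy'), hf1]; norm_num

/-- The Sylow 7-subgroup and its normaliser. -/
theorem seven_main (P : Sylow 7 G) :
    Subgroup.centralizer ((P : Subgroup G) : Set G) = P ∧
      Nat.card (Subgroup.normalizer ((P : Subgroup G) : Set G)) = 42 ∧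
      ¬ IsMulCommutative (Subgroup.normalizer ((P : Subgroup G) : Set G)) := by
  haveI := Fintype.ofFinite G
  haveI : Fact (Nat.Prime 7) := ⟨by decide⟩
  have hP7 : Nat.card P = 7 :=
    (card_sylow_of (p := 7) (n := 1) (m := 86400) (by rw [D.order]; norm_num) (by norm_num) P).trans (pow_one 7)
  obtain ⟨⟨d, hd⟩, hdo⟩ := exists_prime_orderOf_dvd_card' (G := (P : Subgroup G)) 7 (by rw [hP7])
  rw [Subgroup.orderOf_mk] at hdo
  have hPd : (P : Subgroup G) = Subgroup.zpowers d := (Subgroup.eq_of_le_of_card_ge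
    (Subgroup.zpowers_le.2 hd) (by rw [hP7, Nat.card_zpowers, hdo])).symm
  set W := Subgroup.centralizer ((P : Subgroup G) : Set G) with hW
  have hWd : W = Subgroup.centralizer ({d} : Set G) := by
    refine le_antisymm (fun y hy => Subgroup.mem_centralizer_singleton_iff.2
      (Subgroup.mem_centralizer_iff.1 hy d hd).symm) fun y hy => Subgroup.mem_centralizer_iff.2 fun w hw => ?_
    rw [SetLike.mem_coe, hPd] at hw
    obtain ⟨j, rfl⟩ := Subgroup.mem_zpowers_iff.1 hw
    exact ((show Commute d y from (Subgroup.mem_centralizer_singleton_iff.1 hy).symm).zpow_left j).eq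
  have hPW : (P : Subgroup G) ≤ W := by
    intro y hy
    rw [hWd, Subgroup.mem_centralizer_singleton_iff]
    rw [hPd] at hy
    obtain ⟨j, rfl⟩ := Subgroup.mem_zpowers_iff.1 hy
    exact (Commute.zpow_self d j).eq
  have hW7 : W = P := by
    obtain ⟨m, hm⟩ := hP7 ▸ Subgroup.card_dvd_of_le hPW
    by_cases hm1 : m = 1
    · exact (Subgroup.eq_of_le_of_card_ge hPW (by rw [hP7, hm, hm1])).symm
    exfalso
    have hm' : m ∣ 86400 := by
      refine Nat.dvd_of_mul_dvd_mul_left (k := 7) (by norm_num) ?_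
      have := Subgroup.card_subgroup_dvd_card W
      rw [hm, D.order] at this
      exact this
    obtain ⟨p, hp, hpm⟩ := Nat.exists_prime_and_dvd hm1
    haveI : Fact p.Prime := ⟨hp⟩
    have hp235 : p = 2 ∨ p = 3 ∨ p = 5 := by
      have h := hpm.trans hm'
      rw [show 86400 = 2 ^ 7 * 3 ^ 3 * 5 ^ 2 by norm_num] at h
      rcases (Nat.Prime.dvd_mul hp).1 h with h | h
      · rcases (Nat.Prime.dvd_mul hp).1 h with h | h
        · exact Or.inl ((Nat.prime_dvd_prime_iff_eq hp Nat.prime_two).1 (hp.dvd_of_dvd_pow h))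
        · exact Or.inr (Or.inl ((Nat.prime_dvd_prime_iff_eq hp Nat.prime_three).1 (hp.dvd_of_dvd_pow h)))
      · exact Or.inr (Or.inr ((Nat.prime_dvd_prime_iff_eq hp (by decide)).1 (hp.dvd_of_dvd_pow h)))
    obtain ⟨⟨y, hy⟩, hyo⟩ := exists_prime_orderOf_dvd_card' (G := W) p (hm ▸ dvd_mul_of_dvd_right hpm 7)
    rw [Subgroup.orderOf_mk] at hyo
    refine D.seven_not_dvd hp235 hyo (hdo ▸ Subgroup.orderOf_dvd_natCard _ ?_)
    exact Subgroup.mem_centralizer_singleton_iff.2 (Subgroup.mem_centralizer_iff.1 hy d hd)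
  set N := Subgroup.normalizer ((P : Subgroup G) : Set G) with hN
  have hN42 : Nat.card N = 42 := by
    have horb : ((Finset.univ.filter fun n => n ∈ N).image fun n => n * d * n⁻¹) ⊆
        (Finset.univ.filter fun x => x ∈ (P : Subgroup G)).erase 1 := by
      intro w hw
      obtain ⟨n, hn, rfl⟩ := Finset.mem_image.1 hw
      refine Finset.mem_erase.2 ⟨fun e => ?_, Finset.mem_filter.2 ⟨Finset.mem_univ _, ?_⟩⟩
      · rw [conj_eq_one_iff] at e; rw [e, orderOf_one] at hdo; omega
      · exact (Subgroup.mem_normalizer_iff.1 (Finset.mem_filter.1 hn).2 d).1 hd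
    have hle6 := Finset.card_le_card horb
    rw [Finset.card_erase_of_mem (Finset.mem_filter.2 ⟨Finset.mem_univ _, (P : Subgroup G).one_mem⟩),
      show (Finset.univ.filter fun x => x ∈ (P : Subgroup G)).card = 7 by
        refine Eq.trans ?_ hP7
        rw [Nat.card_eq_fintype_card]; exact (Fintype.card_subtype _).symm] at hle6
    have horbit := card_orbit N d
    rw [← hWd, hW7, inf_eq_right.2 (show (P : Subgroup G) ≤ N from Subgroup.le_normalizer), hP7] at horbit
    have hidx := N.card_mul_index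
    have hmod : N.index ≡ 1 [MOD 7] := by
      have h1 := card_sylow_modEq_one 7 G
      rwa [Sylow.card_eq_index_normalizer P] at h1
    rw [D.order, ← horbit] at hidx
    have key : ∀ k n : ℕ, k ≤ 6 → k * 7 * n = 604800 → n % 7 = 1 % 7 → k * 7 = 42 := by
      intro k n h1 h2 h3
      interval_cases k <;> omega
    exact horbit.symm.trans (key _ _ hle6 hidx hmod)
  refine ⟨hW7, hN42, fun hc => ?_⟩
  have hle : N ≤ W := fun n hn => Subgroup.mem_centralizer_iff.2 fun w hw =>
    congrArg Subtype.val (hc.is_comm.comm (⟨w, Subgroup.le_normalizer hw⟩ : N) ⟨n, hn⟩)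
  have := Subgroup.card_le_of_le hle
  rw [hN42, hW7, hP7] at this
  omega

end Cent

end CfsgLib.J2Type
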