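import Cfsg.Agent.Lib.J2Type.FiveClasses

/-!
Groups of Hall–Janko type: elements of order three.
-/

set_option autoImplicit false

open scoped Classical Pointwise

namespace CfsgLib.J2Type

open CfsgLib.J2Order

variable {G : Type*} [Group G] [Finite G] {z t g : G} {Q K C V M0 : Subgroup G}

theorem orderOf_conjg (u a : G) : orderOf (u * a * u⁻¹) = orderOf a :=
  MulEquiv.orderOf_eq (MulAut.conj u) a

theorem mem_zpowers_three {y : G} (hy : y ^ 3 = 1) {x : G} (hx : x ∈ Subgroup.zpowers y) :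
    x = 1 ∨ x = y ∨ x = y ^ 2 := by
  obtain ⟨j, rfl⟩ := Subgroup.mem_zpowers_iff.1 hx
  have h : y ^ j = y ^ (j % 3).toNat := by
    rw [← zpow_natCast, Int.toNat_of_nonneg (Int.emod_nonneg _ (by norm_num))]
    conv_lhs => rw [← Int.mul_ediv_add_emod j 3]
    rw [zpow_add, zpow_mul, zpow_ofNat, hy, one_zpow, one_mul]
  rw [h]
  have hlt : (j % 3).toNat < 3 := by omega
  interval_cases (j % 3).toNat <;> simp

theorem card_prod_eq {A B H : Subgroup G} (hA : A ≤ H) (hB : B ≤ H) (hinf : A ⊓ B = ⊥)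
    (hdec : ∀ h ∈ H, ∃ a ∈ A, ∃ b ∈ B, h = a * b) : Nat.card H = Nat.card A * Nat.card B := by
  let F : A × B → H := fun p => ⟨(p.1 : G) * p.2, H.mul_mem (hA p.1.2) (hB p.2.2)⟩
  have hF : Function.Bijective F := by
    refine ⟨fun p r h => ?_, fun h => ?_⟩
    · have h' : (p.1 : G) * p.2 = r.1 * r.2 := congrArg Subtype.val h
      have hm : (r.1 : G)⁻¹ * p.1 ∈ A ⊓ B := by
        refine ⟨A.mul_mem (A.inv_mem r.1.2) p.1.2, ?_⟩
        rw [show (r.1 : G)⁻¹ * p.1 = r.2 * (p.2 : G)⁻¹ by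
          rw [inv_mul_eq_iff_eq_mul, ← mul_assoc, ← h', mul_inv_cancel_right]]
        exact B.mul_mem r.2.2 (B.inv_mem p.2.2)
      rw [hinf, Subgroup.mem_bot, inv_mul_eq_one] at hm
      rw [← hm] at h'
      exact Prod.ext (Subtype.ext hm.symm) (Subtype.ext (mul_left_cancel h'))
    · obtain ⟨a, ha, b, hb, e⟩ := hdec h h.2
      exact ⟨(⟨a, ha⟩, ⟨b, hb⟩), Subtype.ext e.symm⟩
  rw [← Nat.card_eq_of_bijective F hF, Nat.card_prod]

namespace Cent

variable (D : Cent z t Q K C V M0 g)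
include D

theorem g_sc : ∀ y ∈ M0, y * g = g * y → y ∈ Subgroup.zpowers g := by
  intro y hy hyg
  obtain ⟨e⟩ := D.equiv
  set gB : M0 := ⟨g, D.g_mem⟩
  have hg1 : gB ≠ 1 := fun h => D.g_ne (congrArg Subtype.val h)
  have hm := Subgroup.mem_zpowers g
  rcases alt5_three_cent (e gB) (by rw [← map_pow, show gB ^ 3 = 1 from Subtype.ext D.g_three, map_one])
    (fun h => hg1 (e.injective (h.trans (map_one e).symm))) (e ⟨y, hy⟩)
    (by rw [← map_mul, ← map_mul, show (⟨y, hy⟩ : M0) * gB = gB * ⟨y, hy⟩ from Subtype.ext hyg]) with h | h | h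
  · rw [show y = 1 from congrArg Subtype.val (e.injective (h.trans (map_one e).symm))]
    exact Subgroup.one_mem _
  · rw [show y = g from congrArg Subtype.val (e.injective h)]; exact hm
  · rw [← map_pow] at h
    rw [show y = g ^ 2 from congrArg Subtype.val (e.injective h)]; exact Subgroup.pow_mem _ hm _

theorem orderOf_g : orderOf g = 3 := by
  haveI : Fact (Nat.Prime 3) := ⟨Nat.prime_three⟩
  exact orderOf_eq_prime D.g_three D.g_ne

theorem g_not_z {i : G} (hi : IsConj i z) : ¬ i * g = g * i :=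
  D.not_z_type D.g_mem D.g_sc (by rw [D.orderOf_g]; decide) hi

theorem exists_r' : ∃ r ∈ D.R, orderOf r = 3 ∧ r * t ≠ t * r ∧ r * z = z * r ∧
    ∀ v ∈ V, v * r = r * v → v = 1 := by
  obtain ⟨r, hr, hr3, hr1, hrt⟩ := D.exists_r
  haveI : Fact (Nat.Prime 3) := ⟨Nat.prime_three⟩
  refine ⟨r, hr, orderOf_eq_prime hr3 hr1, hrt, D.R_comm hr D.z_mem, fun v hv h => ?_⟩
  by_contra hv1
  exact hrt (D.mem_M.1 (D.cent_V hv hv1 ▸ Subgroup.mem_centralizer_singleton_iff.2 h.symm))

theorem card_Cg : Nat.card (Subgroup.centralizer ({g} : Set G)) = 36 := by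
  have hodd : Odd (orderOf g) := by rw [D.orderOf_g]; decide
  rcases D.cent_cases D.g_mem D.g_sc hodd with h | ⟨-, -, -, h⟩
  · rw [h, D.orderOf_g]
  exfalso
  rw [D.orderOf_g] at h
  haveI : Fact (Nat.Prime 5) := ⟨by decide⟩
  haveI : Fact (Nat.Prime 3) := ⟨Nat.prime_three⟩
  obtain ⟨f, a, hf, ho, hsc, -, hao, hA, -, hall, -⟩ := D.five_main
  obtain ⟨⟨y, hy⟩, hyo⟩ := exists_prime_orderOf_dvd_card' (G := Subgroup.centralizer ({g} : Set G)) 5
    (by rw [h]; norm_num)
  rw [Subgroup.orderOf_mk] at hyo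
  obtain ⟨u, hu⟩ := hall y hyo
  have hy1 : u * y * u⁻¹ ≠ 1 := fun h' => by
    rw [conj_eq_one_iff] at h'; rw [h', orderOf_one] at hyo; omega
  set x := u * g * u⁻¹ with hx
  have hxo : orderOf x = 3 := by rw [hx, orderOf_conjg, D.orderOf_g]
  have hcx : ∀ c : G, orderOf c = 5 → u * y * u⁻¹ ∈ Subgroup.zpowers c →
      x ∈ Subgroup.centralizer ({c} : Set G) := by
    intro c hc hm
    rw [← centralizer_eq_of_zpowers (zpowers_eq_of_mem hc hm hy1)]
    have := Subgroup.mem_centralizer_singleton_iff.1 hy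
    refine Subgroup.mem_centralizer_singleton_iff.2 ?_
    exact ((Commute.conj_iff u).2 (show Commute g y from this.symm)).eq
  rcases hu with hu | hu
  · obtain ⟨r, hr, hro, -, hrz, -⟩ := D.exists_r'
    obtain ⟨hH, -⟩ := D.cent_f hf ho hsc
    set H := Subgroup.centralizer ({f} : Set G)
    have hrH : r ∈ H := Subgroup.mem_centralizer_singleton_iff.2 (D.R_comm hr hf)
    have hxH := hcx f ho hu
    obtain ⟨T, hT⟩ := (IsPGroup.of_card (p := 3) (G := Subgroup.zpowers (⟨r, hrH⟩ : H)) (n := 1)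
      (by rw [Nat.card_zpowers, Subgroup.orderOf_mk, hro, pow_one])).exists_le_sylow
    have hT3 : Nat.card T = 3 :=
      (card_sylow_of (p := 3) (n := 1) (m := 100) (by rw [hH]; norm_num) (by norm_num) T).trans (pow_one 3)
    have hTr : (T : Subgroup H) = Subgroup.zpowers (⟨r, hrH⟩ : H) := (Subgroup.eq_of_le_of_card_ge hT
      (by rw [hT3, Nat.card_zpowers, Subgroup.orderOf_mk, hro])).symm
    obtain ⟨c, hc, w, hw, hwe⟩ := mem_conj_sylow T hxH ⟨1, by rw [pow_one, ← hxo, pow_orderOf_eq_one]⟩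
    rw [hTr] at hw
    have hwr : (w : G) ∈ Subgroup.zpowers r := by
      obtain ⟨j, hj⟩ := Subgroup.mem_zpowers_iff.1 hw
      exact Subgroup.mem_zpowers_iff.2 ⟨j, congrArg Subtype.val hj⟩
    obtain ⟨j, hj⟩ := Subgroup.mem_zpowers_iff.1 hwr
    rw [hwe, hx] at hj
    have hzw : Commute z (r ^ j) := (show Commute r z from hrz).symm.zpow_right j
    refine D.g_not_z (i := (c * u)⁻¹ * z * (c * u)⁻¹⁻¹) (isConj_iff.2 ⟨c * u, by group⟩) ?_
    have e : g = (c * u)⁻¹ * r ^ j * (c * u)⁻¹⁻¹ := by rw [hj]; group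
    rw [e]
    exact ((Commute.conj_iff _).2 hzw).eq
  · have hxA : x ∈ Subgroup.centralizer ({a} : Set G) := by
      exact hcx a hao hu
    have h3 := Subgroup.orderOf_dvd_natCard _ hxA
    rw [hxo, hA] at h3
    norm_num at h3

theorem mem_R_of_comm {r y : G} (hr : r ∈ D.R) (hy : y * g = g * y) :
    ∃ s ∈ D.R, ∃ b ∈ Subgroup.zpowers g, y = s * b ∧ (y * r = r * y → s * r = r * s) := by
  set H := Subgroup.centralizer ({g} : Set G)
  set B := Subgroup.zpowers g
  set L := (D.R ⊔ B) ⊓ H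
  have hBM : B ≤ M0 := Subgroup.zpowers_le.2 D.g_mem
  have hRH : D.R ≤ H := fun s hs => Subgroup.mem_centralizer_singleton_iff.2 (D.R_comm hs D.g_mem)
  let L' : Subgroup G :=
  { carrier := {x | ∃ s ∈ D.R, ∃ b ∈ B, x = s * b}
    one_mem' := ⟨1, D.R.one_mem, 1, B.one_mem, (one_mul 1).symm⟩
    mul_mem' := by
      rintro _ _ ⟨s, hs, b, hb, rfl⟩ ⟨s', hs', b', hb', rfl⟩
      refine ⟨s * s', D.R.mul_mem hs hs', b * b', B.mul_mem hb hb', ?_⟩
      rw [mul_assoc s b, ← mul_assoc b s', ← D.R_comm hs' (hBM hb)]; group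
    inv_mem' := by
      rintro _ ⟨s, hs, b, hb, rfl⟩
      exact ⟨s⁻¹, D.R.inv_mem hs, b⁻¹, B.inv_mem hb, by
        rw [mul_inv_rev, D.R_comm (D.R.inv_mem hs) (hBM (B.inv_mem hb))]⟩ }
  have hL : Nat.card L' = 36 := by
    rw [card_prod_eq (A := D.R) (B := B) (H := L') (fun s hs => ⟨s, hs, 1, B.one_mem, (mul_one s).symm⟩)
      (fun b hb => ⟨1, D.R.one_mem, b, hb, (one_mul b).symm⟩)
      (eq_bot_iff.2 fun x hx => D.R_inf ▸ (⟨hx.1, hBM hx.2⟩ : x ∈ D.R ⊓ M0)) (fun h hh => hh),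
      D.card_R, Nat.card_zpowers, D.orderOf_g]
  have hLH : L' = H := by
    refine Subgroup.eq_of_le_of_card_ge ?_ (by rw [hL, D.card_Cg])
    rintro _ ⟨s, hs, b, hb, rfl⟩
    exact H.mul_mem (hRH hs) (Subgroup.zpowers_le.2 (Subgroup.mem_centralizer_singleton_iff.2 rfl) hb)
  obtain ⟨s, hs, b, hb, e⟩ := hLH.ge (Subgroup.mem_centralizer_singleton_iff.2 hy)
  refine ⟨s, hs, b, hb, e, fun h => ?_⟩
  have h1 : Commute r (s * b) := (e ▸ h).symm
  have h2 : Commute r b := D.R_comm hr (hBM hb)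
  have := h1.mul_right h2.inv_right
  rw [mul_inv_cancel_right] at this
  exact this.symm

theorem cent_R_r {r s : G} (hr : r ∈ D.R) (hro : orderOf r = 3) (hrV : ∀ v ∈ V, v * r = r * v → v = 1)
    (hs : s ∈ D.R) (hsn : s * r * s⁻¹ ∈ Subgroup.zpowers r) : s ∈ Subgroup.zpowers r := by
  haveI := Fintype.ofFinite G
  set N := D.R ⊓ Subgroup.normalizer ((Subgroup.zpowers r : Subgroup G) : Set G)
  have hnV : ∀ v ∈ V, v ∈ N → v = 1 := by
    intro v hv hvN
    refine hrV v hv ?_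
    have h1 : v * r * v⁻¹ * r⁻¹ ∈ Subgroup.zpowers r :=
      Subgroup.mul_mem _ ((Subgroup.mem_normalizer_iff.1 hvN.2 r).1 (Subgroup.mem_zpowers r))
        (Subgroup.inv_mem _ (Subgroup.mem_zpowers r))
    have h2 : v * r * v⁻¹ * r⁻¹ ∈ V := by
      rw [show v * r * v⁻¹ * r⁻¹ = v * (r * v⁻¹ * r⁻¹) by group]
      exact V.mul_mem hv (D.R_V hr (V.inv_mem hv))
    have h3 : (v * r * v⁻¹ * r⁻¹) ^ 3 = 1 := by
      obtain ⟨j, hj⟩ := Subgroup.mem_zpowers_iff.1 h1
      rw [← hj, ← zpow_natCast, ← zpow_mul, mul_comm, zpow_mul, zpow_natCast, ← hro, pow_orderOf_eq_one,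
        one_zpow]
    rw [pow_succ, pow_two, D.V_sq _ h2, one_mul] at h3
    exact mul_inv_eq_iff_eq_mul.1 (mul_inv_eq_one.1 h3)
  have hsR : s ∈ N := by
    refine ⟨hs, Subgroup.mem_normalizer_iff.2 fun x => ?_⟩
    have hmap : (Subgroup.zpowers r).map (MulAut.conj s).toMonoidHom = Subgroup.zpowers r := by
      rw [conj_zpowers]
      refine Subgroup.eq_of_le_of_card_ge (Subgroup.zpowers_le.2 hsn) ?_
      rw [Nat.card_zpowers, Nat.card_zpowers, orderOf_conjg]
    constructor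
    · intro hx
      exact hmap.le ⟨x, hx, rfl⟩
    · intro hx
      obtain ⟨y, hy, e⟩ := hmap.ge hx
      change s * y * s⁻¹ = s * x * s⁻¹ at e
      exact (mul_left_cancel (mul_right_cancel e)) ▸ hy
  have hle : Subgroup.zpowers r ≤ N :=
    Subgroup.zpowers_le.2 ⟨hr, Subgroup.le_normalizer (Subgroup.mem_zpowers r)⟩
  have hc : Nat.card N ≤ 3 := by
    have hinf : V ⊓ N = ⊥ := eq_bot_iff.2 fun x hx => Subgroup.mem_bot.2 (hnV x hx.1 hx.2)
    let F : V × N → D.R := fun p => ⟨(p.1 : G) * p.2, D.R.mul_mem (D.V_le_R p.1.2) p.2.2.1⟩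
    have hF : Function.Injective F := by
      intro p q h
      have h' : (p.1 : G) * p.2 = q.1 * q.2 := congrArg Subtype.val h
      have hm : (q.1 : G)⁻¹ * p.1 ∈ V ⊓ N := by
        refine ⟨V.mul_mem (V.inv_mem q.1.2) p.1.2, ?_⟩
        rw [show (q.1 : G)⁻¹ * p.1 = q.2 * (p.2 : G)⁻¹ by
          rw [inv_mul_eq_iff_eq_mul, ← mul_assoc, ← h', mul_inv_cancel_right]]
        exact N.mul_mem q.2.2 (N.inv_mem p.2.2)
      rw [hinf, Subgroup.mem_bot, inv_mul_eq_one] at hm
      rw [← hm] at h'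
      exact Prod.ext (Subtype.ext hm.symm) (Subtype.ext (mul_left_cancel h'))
    have := Nat.card_le_card_of_injective F hF
    rw [Nat.card_prod, D.cardV, D.card_R] at this
    omega
  rw [Subgroup.eq_of_le_of_card_ge hle (by rw [Nat.card_zpowers, hro]; exact hc)]
  exact hsR

theorem exists_inv_g : ∃ i ∈ M0, i * g * i⁻¹ = g⁻¹ := by
  obtain ⟨e⟩ := D.equiv
  set gB : M0 := ⟨g, D.g_mem⟩
  obtain ⟨i, -, -, hi⟩ := alt5_three_inv (e gB)
    (by rw [← map_pow, show gB ^ 3 = 1 from Subtype.ext D.g_three, map_one])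
  refine ⟨(e.symm i : M0), SetLike.coe_mem _, ?_⟩
  have : e.symm i * gB * (e.symm i)⁻¹ = gB⁻¹ := e.injective (by simp [hi])
  exact congrArg Subtype.val this

theorem three_in_C {x : G} (hx : x ∈ C) (hxo : orderOf x = 3) :
    ∃ d ∈ K, orderOf d = 3 ∧ ∃ c ∈ C, c * x * c⁻¹ = d := by
  haveI : Fact (Nat.Prime 3) := ⟨Nat.prime_three⟩
  obtain ⟨⟨d0, hd0⟩, hdo⟩ := exists_prime_orderOf_dvd_card' (G := K) 3 (by rw [D.pair.S.card_K]; norm_num)
  rw [Subgroup.orderOf_mk] at hdo
  have hdC := D.pair.S.K_le hd0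
  obtain ⟨T, hT⟩ := (IsPGroup.of_card (p := 3) (G := Subgroup.zpowers (⟨d0, hdC⟩ : C)) (n := 1)
    (by rw [Nat.card_zpowers, Subgroup.orderOf_mk, hdo, pow_one])).exists_le_sylow
  have hT3 : Nat.card T = 3 :=
    (card_sylow_of (p := 3) (n := 1) (m := 640) (by rw [D.pair.hyp.card_C]; norm_num) (by norm_num) T).trans
      (pow_one 3)
  have hTd : (T : Subgroup C) = Subgroup.zpowers (⟨d0, hdC⟩ : C) := (Subgroup.eq_of_le_of_card_ge hT
    (by rw [hT3, Nat.card_zpowers, Subgroup.orderOf_mk, hdo])).symm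
  obtain ⟨c, hc, w, hw, hwe⟩ := mem_conj_sylow T hx ⟨1, by rw [pow_one, ← hxo, pow_orderOf_eq_one]⟩
  rw [hTd] at hw
  obtain ⟨j, hj⟩ := Subgroup.mem_zpowers_iff.1 hw
  have hwK : (w : G) ∈ K := by
    rw [← hj, SubgroupClass.coe_zpow]; exact K.zpow_mem hd0 j
  exact ⟨(w : G), hwK, by rw [hwe, orderOf_conjg, hxo], c, hc, hwe.symm⟩

theorem inverted_in_C {x : G} (hx : x ∈ C) (hxo : orderOf x = 3) : ∃ s : G, s * x * s⁻¹ = x⁻¹ := by
  obtain ⟨d, hd, hdo, c, hc, e⟩ := D.three_in_C hx hxo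
  obtain ⟨ψ⟩ := D.pair.S.equivK
  set dK : K := ⟨d, hd⟩
  obtain ⟨i, -, -, hi⟩ := alt5_three_inv (ψ dK)
    (by rw [← map_pow, show dK ^ 3 = 1 from Subtype.ext (by rw [SubgroupClass.coe_pow, ← hdo]; exact pow_orderOf_eq_one d), map_one])
  have h' : ψ.symm i * dK * (ψ.symm i)⁻¹ = dK⁻¹ := ψ.injective (by simp [hi])
  have h2 : ((ψ.symm i : K) : G) * d * ((ψ.symm i : K) : G)⁻¹ = d⁻¹ := congrArg Subtype.val h'
  refine ⟨c⁻¹ * ((ψ.symm i : K) : G) * c, ?_⟩
  rw [show c⁻¹ * ((ψ.symm i : K) : G) * c * x * (c⁻¹ * ((ψ.symm i : K) : G) * c)⁻¹ =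
    c⁻¹ * (((ψ.symm i : K) : G) * (c * x * c⁻¹) * ((ψ.symm i : K) : G)⁻¹) * c by group, e, h2, ← e]
  group

theorem card_C_three {x : G} (hx : x ∈ C) (hxo : orderOf x = 3) :
    Nat.card (C ⊓ Subgroup.centralizer ({x} : Set G) : Subgroup G) = 24 := by
  obtain ⟨d, hd, hdo, c, hc, e⟩ := D.three_in_C hx hxo
  have hconj : Nat.card (C ⊓ Subgroup.centralizer ({x} : Set G) : Subgroup G) =
      Nat.card (C ⊓ Subgroup.centralizer ({d} : Set G) : Subgroup G) := by
    refine Nat.card_congr ⟨fun y => ⟨c * y.1 * c⁻¹, C.mul_mem (C.mul_mem hc y.2.1) (C.inv_mem hc), ?_⟩,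
      fun y => ⟨c⁻¹ * y.1 * c, C.mul_mem (C.mul_mem (C.inv_mem hc) y.2.1) hc, ?_⟩,
      fun y => Subtype.ext ?_, fun y => Subtype.ext ?_⟩
    · refine Subgroup.mem_centralizer_singleton_iff.2 ?_
      rw [← e]
      have h := Subgroup.mem_centralizer_singleton_iff.1 y.2.2
      calc c * y.1 * c⁻¹ * (c * x * c⁻¹) = c * (y.1 * x) * c⁻¹ := by group
        _ = c * x * c⁻¹ * (c * y.1 * c⁻¹) := by rw [h]; group
    · refine Subgroup.mem_centralizer_singleton_iff.2 ?_
      have h : (y : G) * (c * x * c⁻¹) = c * x * c⁻¹ * y := by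
        rw [e]; exact Subgroup.mem_centralizer_singleton_iff.1 y.2.2
      calc c⁻¹ * y.1 * c * x = c⁻¹ * (y.1 * (c * x * c⁻¹)) * c := by group
        _ = x * (c⁻¹ * y.1 * c) := by rw [h]; group
    · show c⁻¹ * (c * y.1 * c⁻¹) * c = y.1; group
    · show c * (c⁻¹ * y.1 * c) * c⁻¹ = y.1; group
  rw [hconj]
  have S := D.pair.S
  obtain ⟨ψ⟩ := S.equivK
  have hd3 : d ^ 3 = 1 := hdo ▸ pow_orderOf_eq_one d
  have hd1 : d ≠ 1 := fun h => by rw [h, orderOf_one] at hdo; omega
  have hdC := S.K_le hd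
  set dK : K := ⟨d, hd⟩
  set F := Q ⊓ Subgroup.centralizer ({d} : Set G)
  have hF : Nat.card F = 8 := by
    haveI := Fintype.ofFinite G
    haveI : Fact (Nat.Prime 3) := ⟨Nat.prime_three⟩
    have hmod3 : ∀ (U : Finset G), (∀ u ∈ U, d * u * d⁻¹ ∈ U) →
        U.card % 3 = (U.filter fun u => u * d = d * u).card % 3 := by
      intro U hU
      let π : Equiv.Perm U :=
      { toFun := fun a => ⟨d * a * d⁻¹, hU a a.2⟩
        invFun := fun a => ⟨d⁻¹ * a * d, by
          have h := hU _ (hU _ a.2)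
          rwa [show d * (d * (a : G) * d⁻¹) * d⁻¹ = (d ^ 3 * d⁻¹) * a * (d ^ 3 * d⁻¹)⁻¹ by
            simp only [pow_succ, pow_zero, one_mul]; group, hd3, one_mul, inv_inv] at h⟩
        left_inv := fun a => Subtype.ext (by show d⁻¹ * (d * a * d⁻¹) * d = (a : G); group)
        right_inv := fun a => Subtype.ext (by show d * (d⁻¹ * a * d) * d⁻¹ = (a : G); group) }
      have hπ3 : π ^ 3 ^ 1 = 1 := Equiv.ext fun a => Subtype.ext (by
        rw [pow_one, pow_succ, pow_two, Equiv.Perm.mul_apply, Equiv.Perm.mul_apply]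
        show d * (d * (d * a * d⁻¹) * d⁻¹) * d⁻¹ = (a : G)
        rw [show d * (d * (d * (a : G) * d⁻¹) * d⁻¹) * d⁻¹ = d ^ 3 * a * (d ^ 3)⁻¹ by
          simp only [pow_succ, pow_zero, one_mul]; group, hd3]
        group)
      have h := Equiv.Perm.card_compl_support_modEq (p := 3) (n := 1) hπ3
      rw [Fintype.card_coe] at h
      refine h.symm.trans (congrArg (· % 3) ?_)
      refine Finset.card_bij (fun a _ => (a : G)) (fun a ha => Finset.mem_filter.2 ⟨a.2, ?_⟩)
        (fun _ _ _ _ h => Subtype.ext h) fun b hb => ⟨⟨b, (Finset.mem_filter.1 hb).1⟩, ?_, rfl⟩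
      · rw [Finset.mem_compl, Equiv.Perm.mem_support, not_not] at ha
        exact (mul_inv_eq_iff_eq_mul.1 (congrArg Subtype.val ha)).symm
      · rw [Finset.mem_compl, Equiv.Perm.mem_support, not_not]
        exact Subtype.ext (mul_inv_eq_iff_eq_mul.2 (Finset.mem_filter.1 hb).2.symm)
    have hFc : (S.QF.filter fun u => u * d = d * u).card = Nat.card F := by
      rw [Nat.card_eq_fintype_card, Fintype.card_subtype]
      congr 1
      ext u
      simp [F, S.mem_QF, Subgroup.mem_centralizer_singleton_iff]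
    have h1 := hmod3 S.QF fun u hu => S.mem_QF.2 (S.conj_mem d hdC u (S.mem_QF.1 hu))
    rw [S.card_QF, hFc] at h1
    have h2 := hmod3 S.toBase.X fun u hu => S.toBase.conj_X hdC hu
    rw [S.card_X] at h2
    obtain ⟨x0, hx0⟩ : (S.toBase.X.filter fun u => u * d = d * u).Nonempty :=
      Finset.card_pos.1 (by omega)
    obtain ⟨hx0X, hx0d⟩ := Finset.mem_filter.1 hx0
    obtain ⟨hx0Q, -, hx01, hx0z⟩ := S.toBase.mem_X.1 hx0X
    obtain ⟨i, hi, hic⟩ := (Nat.dvd_prime_pow Nat.prime_two).1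
      (show Nat.card F ∣ 2 ^ 5 by rw [show 2 ^ 5 = Nat.card Q by rw [S.cardQ]; norm_num]
                                  exact Subgroup.card_dvd_of_le inf_le_left)
    have hi5 : i ≠ 5 := by
      rintro rfl
      have hFQ : F = Q := Subgroup.eq_of_le_of_card_ge inf_le_left (by rw [S.cardQ, hic]; norm_num)
      exact hd1 (S.faith d hd fun q hq => (Subgroup.mem_centralizer_singleton_iff.1 (hFQ.ge hq).2).symm)
    have h3 : 2 < Nat.card F := by
      rw [← hFc]
      have : ({1, z, x0} : Finset G) ⊆ S.QF.filter fun u => u * d = d * u := by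
        intro a ha
        simp only [Finset.mem_insert, Finset.mem_singleton] at ha
        rcases ha with rfl | rfl | rfl <;> rw [Finset.mem_filter, S.mem_QF]
        exacts [⟨Q.one_mem, by simp⟩, ⟨S.z_mem, (S.z_cen d hdC).symm⟩, ⟨hx0Q, hx0d⟩]
      have hc := Finset.card_le_card this
      rw [Finset.card_insert_of_notMem (by simp [S.z_ne.symm, hx01.symm]),
        Finset.card_pair hx0z.symm] at hc
      omega
    rw [hic] at h1 h3 ⊢
    interval_cases i <;> first | rfl | omega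
  rw [card_prod_eq (A := F) (B := Subgroup.zpowers d) (H := C ⊓ Subgroup.centralizer ({d} : Set G))
    (fun y hy => ⟨S.Q_le hy.1, hy.2⟩) (Subgroup.zpowers_le.2 ⟨hdC, Subgroup.mem_centralizer_singleton_iff.2 rfl⟩)
    ?_ ?_, hF, Nat.card_zpowers, hdo]
  · refine eq_bot_iff.2 fun y hy => ?_
    exact S.inf ▸ (⟨Subgroup.zpowers_le.2 hd hy.2, hy.1.1⟩ : y ∈ K ⊓ Q)
  · intro y hy
    obtain ⟨q, hq, k, hk, rfl⟩ := S.decomp y hy.1
    obtain ⟨h1, h2⟩ := D.pair.hyp.commute_decomp hq hk hd (Subgroup.mem_centralizer_singleton_iff.1 hy.2)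
    refine ⟨q, ⟨hq, Subgroup.mem_centralizer_singleton_iff.2 h2⟩, k, ?_, rfl⟩
    have hm := Subgroup.mem_zpowers d
    rcases alt5_three_cent (ψ dK) (by rw [← map_pow, show dK ^ 3 = 1 from Subtype.ext hd3, map_one])
      (fun h => hd1 (congrArg Subtype.val (ψ.injective (h.trans (map_one ψ).symm)))) (ψ ⟨k, hk⟩)
      (by rw [← map_mul, ← map_mul, show (⟨k, hk⟩ : K) * dK = dK * ⟨k, hk⟩ from Subtype.ext h1]) with h | h | h
    · rw [show k = 1 from congrArg Subtype.val (ψ.injective (h.trans (map_one ψ).symm))]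
      exact Subgroup.one_mem _
    · rw [show k = d from congrArg Subtype.val (ψ.injective h)]; exact hm
    · rw [← map_pow] at h
      rw [show k = d ^ 2 from congrArg Subtype.val (ψ.injective h)]; exact Subgroup.pow_mem _ hm _

/-- The Sylow 3-subgroup and the classes of elements of order three. -/
theorem three_main : ∃ r ∈ D.R, orderOf r = 3 ∧ r * z = z * r ∧ ¬ IsConj g r ∧
    (∀ c : G, orderOf c = 3 → IsConj c g ∨ IsConj c r) ∧
    ∀ P : Sylow 3 G, (∀ a : G, a ∈ P → a ^ 3 = 1) ∧ (¬ ∀ a ∈ P, ∀ b ∈ P, a * b = b * a) ∧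
      Nat.card P = 27 ∧ Nat.card (Subgroup.normalizer ((P : Subgroup G) : Set G)) = 216 := by
  haveI := Fintype.ofFinite G
  haveI : Fact (Nat.Prime 3) := ⟨Nat.prime_three⟩
  obtain ⟨r, hr, hro, -, hrz, hrV⟩ := D.exists_r'
  have hr3 : r ^ 3 = 1 := hro ▸ pow_orderOf_eq_one r
  have hr1 : r ≠ 1 := fun h => by rw [h, orderOf_one] at hro; omega
  have hgr : Commute g r := (D.R_comm hr D.g_mem).symm
  have hrC : r ∈ C := (D.pair.hyp.mem_C r).2 hrz
  refine ⟨r, hr, hro, hrz, fun h => ?_, ?_⟩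
  · obtain ⟨u, hu⟩ := isConj_iff.1 h
    refine D.g_not_z (i := u⁻¹ * z * u⁻¹⁻¹) (isConj_iff.2 ⟨u, by group⟩) ?_
    have e : g = u⁻¹ * r * u⁻¹⁻¹ := by rw [← hu]; group
    rw [e]
    exact ((Commute.conj_iff _).2 (show Commute r z from hrz).symm).eq
  set E : Subgroup G := Subgroup.closure {g, r}
  have hEmem : ∀ x, x ∈ E → ∃ a ∈ Subgroup.zpowers g, ∃ b ∈ Subgroup.zpowers r, x = a * b := by
    have hcm : ∀ a ∈ Subgroup.zpowers g, ∀ b ∈ Subgroup.zpowers r, Commute a b := by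
      intro a ha b hb
      obtain ⟨i, rfl⟩ := Subgroup.mem_zpowers_iff.1 ha
      obtain ⟨j, rfl⟩ := Subgroup.mem_zpowers_iff.1 hb
      exact hgr.zpow_zpow i j
    let L : Subgroup G :=
    { carrier := {x | ∃ a ∈ Subgroup.zpowers g, ∃ b ∈ Subgroup.zpowers r, x = a * b}
      one_mem' := ⟨1, Subgroup.one_mem _, 1, Subgroup.one_mem _, (one_mul 1).symm⟩
      mul_mem' := by
        rintro _ _ ⟨a, ha, b, hb, rfl⟩ ⟨a', ha', b', hb', rfl⟩
        refine ⟨a * a', Subgroup.mul_mem _ ha ha', b * b', Subgroup.mul_mem _ hb hb', ?_⟩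
        rw [mul_assoc a b, ← mul_assoc b a', ← (hcm a' ha' b hb).eq]; group
      inv_mem' := by
        rintro _ ⟨a, ha, b, hb, rfl⟩
        exact ⟨a⁻¹, Subgroup.inv_mem _ ha, b⁻¹, Subgroup.inv_mem _ hb, by
          rw [mul_inv_rev, (hcm _ (Subgroup.inv_mem _ ha) _ (Subgroup.inv_mem _ hb)).eq]⟩ }
    have : E ≤ L := by
      rw [Subgroup.closure_le]
      rintro x (rfl | rfl)
      · exact ⟨x, Subgroup.mem_zpowers x, 1, Subgroup.one_mem _, (mul_one x).symm⟩
      · exact ⟨1, Subgroup.one_mem _, x, Subgroup.mem_zpowers x, (one_mul x).symm⟩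
    exact this
  have hgE : g ∈ E := Subgroup.subset_closure (by simp)
  have hrE : r ∈ E := Subgroup.subset_closure (by simp)
  have hinf : Subgroup.zpowers g ⊓ Subgroup.zpowers r = ⊥ := eq_bot_iff.2 fun x hx =>
    D.R_inf ▸ (⟨Subgroup.zpowers_le.2 hr hx.2, Subgroup.zpowers_le.2 D.g_mem hx.1⟩ : x ∈ D.R ⊓ M0)
  have hE9 : Nat.card E = 9 := by
    rw [card_prod_eq (Subgroup.zpowers_le.2 hgE) (Subgroup.zpowers_le.2 hrE) hinf hEmem, Nat.card_zpowers,
      Nat.card_zpowers, D.orderOf_g, hro]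
  have hEc : ∀ x ∈ E, x * g = g * x ∧ x * r = r * x := by
    intro x hx
    obtain ⟨a, ha, b, hb, rfl⟩ := hEmem x hx
    obtain ⟨i, rfl⟩ := Subgroup.mem_zpowers_iff.1 ha
    obtain ⟨j, rfl⟩ := Subgroup.mem_zpowers_iff.1 hb
    exact ⟨((Commute.zpow_self g i).mul_left (hgr.symm.zpow_left j)).eq,
      ((hgr.zpow_left i).mul_left (Commute.zpow_self r j)).eq⟩
  have hE3 : ∀ x ∈ E, x ^ 3 = 1 := by
    intro x hx
    obtain ⟨a, ha, b, hb, rfl⟩ := hEmem x hx
    obtain ⟨i, rfl⟩ := Subgroup.mem_zpowers_iff.1 ha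
    obtain ⟨j, rfl⟩ := Subgroup.mem_zpowers_iff.1 hb
    rw [(hgr.zpow_zpow i j).mul_pow, ← zpow_natCast, ← zpow_natCast, ← zpow_mul, ← zpow_mul, mul_comm i,
      mul_comm j, zpow_mul, zpow_mul, zpow_natCast, zpow_natCast, D.g_three, hr3, one_zpow, one_zpow, one_mul]
  obtain ⟨P, hP⟩ := (IsPGroup.of_card (p := 3) (G := E) (n := 2) (by rw [hE9]; norm_num)).exists_le_sylow
  have h27 : ∀ P : Sylow 3 G, Nat.card P = 27 :=
    card_sylow_of (p := 3) (n := 3) (m := 22400) (by rw [D.order]; norm_num) (by norm_num)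
  set Pg := (P : Subgroup G) with hPg
  have hP27 : Nat.card Pg = 27 := h27 P
  have hCE : ∀ y : G, y * g = g * y → y * r = r * y → y ∈ E := by
    intro y hy hyr
    obtain ⟨s, hs, b, hb, e, h⟩ := D.mem_R_of_comm hr hy
    have hsr : s ∈ Subgroup.zpowers r := D.cent_R_r hr hro hrV hs (by
      rw [h hyr, mul_inv_cancel_right]; exact Subgroup.mem_zpowers r)
    rw [e]
    exact E.mul_mem (Subgroup.zpowers_le.2 hrE hsr) (Subgroup.zpowers_le.2 hgE hb)
  have hCg : ∀ y ∈ Pg, y * g = g * y → y ∈ E := by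
    intro y hy hyg
    set L := Pg ⊓ Subgroup.centralizer ({g} : Set G)
    have h1 : Nat.card L ∣ 27 := hP27 ▸ Subgroup.card_dvd_of_le inf_le_left
    have h2 : Nat.card L ∣ 36 := D.card_Cg ▸ Subgroup.card_dvd_of_le inf_le_right
    have h9 : Nat.card L ∣ 9 := Nat.dvd_gcd h1 h2
    have hEL : E ≤ L := fun x hx => ⟨hP hx, Subgroup.mem_centralizer_singleton_iff.2 (hEc x hx).1⟩
    have hEeq : E = L := Subgroup.eq_of_le_of_card_ge hEL (by rw [hE9]; exact Nat.le_of_dvd (by norm_num) h9)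
    exact hEeq.ge ⟨hy, Subgroup.mem_centralizer_singleton_iff.2 hyg⟩
  obtain ⟨u, huP, huE⟩ : ∃ u ∈ Pg, u ∉ E := by
    by_contra h
    push Not at h
    have := Subgroup.card_le_of_le (show Pg ≤ E from h)
    rw [hP27, hE9] at this
    omega
  have hug : u * g ≠ g * u := fun h => huE (hCg u huP h)
  -- the centre
  haveI : Nontrivial Pg := Finite.one_lt_card_iff_nontrivial.1 (by rw [hP27]; norm_num)
  haveI := P.2.center_nontrivial
  obtain ⟨⟨⟨c, hcP⟩, hc⟩, hc1'⟩ := exists_ne (1 : Subgroup.center Pg)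
  have hc1 : c ≠ 1 := fun e => hc1' (Subtype.ext (Subtype.ext e))
  have hcc : ∀ x ∈ Pg, x * c = c * x := fun x hx =>
    congrArg Subtype.val (Subgroup.mem_center_iff.1 hc ⟨x, hx⟩)
  have hcE : c ∈ E := hCE c (hcc g (hP hgE)).symm (hcc r (hP hrE)).symm
  have hc3 : c ^ 3 = 1 := hE3 c hcE
  have hco : orderOf c = 3 := orderOf_eq_prime hc3 hc1
  -- conjugates of `g` in `E`
  have hEn : ∀ x ∈ E, u * x * u⁻¹ ∈ E := by
    have hE' : Nat.card (E.subgroupOf Pg) = 9 :=
      (Nat.card_congr (Subgroup.subgroupOfEquivOfLe hP).toEquiv).trans hE9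
    have hidx : (E.subgroupOf Pg).index = 3 := by
      have := (E.subgroupOf Pg).card_mul_index
      rw [hE', hP27] at this
      omega
    have hnrm := Subgroup.normal_of_index_eq_minFac_card (G := Pg) (H := E.subgroupOf Pg) (by
      rw [hidx, hP27]; norm_num)
    intro x hx
    exact hnrm.conj_mem (⟨x, hP hx⟩ : Pg) hx (⟨u, huP⟩ : Pg)
  have hcg : c ∉ Subgroup.zpowers g := by
    intro h
    rcases mem_zpowers_three D.g_three h with e | e | e
    · exact hc1 e
    · exact hug (e ▸ hcc u huP)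
    · have hcm : Commute u (g ^ 2) := e ▸ hcc u huP
      have := hcm.pow_right 2
      rw [← pow_mul, show 2 * 2 = 3 + 1 from rfl, pow_succ, D.g_three, one_mul] at this
      exact hug this
  have hcr : c ∈ Subgroup.zpowers r := by
    by_contra hnr
    obtain ⟨a, ha, b, hb, hab⟩ := hEmem c hcE
    have ha1 : a ≠ 1 := fun e => hnr (by rw [hab, e, one_mul]; exact hb)
    have hb1 : b ≠ 1 := fun e => hcg (by rw [hab, e, mul_one]; exact ha)
    -- `r` lies in `⟨g, c⟩ = E`, so it is conjugate to a power of `g`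
    set y := u * g * u⁻¹ with hy
    have hyE : y ∈ E := hEn g hgE
    have hcl : E ≤ Subgroup.closure {g, c} := by
      rw [Subgroup.closure_le]
      have hgc : g ∈ Subgroup.closure ({g, c} : Set G) := Subgroup.subset_closure (by simp)
      have hcc' : c ∈ Subgroup.closure ({g, c} : Set G) := Subgroup.subset_closure (by simp)
      have hbc : b ∈ Subgroup.closure ({g, c} : Set G) := by
        rw [show b = a⁻¹ * c by rw [hab]; group]
        exact Subgroup.mul_mem _ (Subgroup.inv_mem _ (Subgroup.zpowers_le.2 hgc ha)) hcc'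
      have hrb : r ∈ Subgroup.zpowers b := by
        rcases mem_zpowers_three hr3 hb with e | e | e
        · exact absurd e hb1
        · exact e ▸ Subgroup.mem_zpowers b
        · refine Subgroup.mem_zpowers_iff.2 ⟨2, ?_⟩
          rw [zpow_ofNat, e, ← pow_mul, show 2 * 2 = 3 + 1 from rfl, pow_succ, hr3, one_mul]
      rintro x (rfl | rfl)
      · exact hgc
      · exact Subgroup.zpowers_le.2 hbc hrb
    have hgcc : Commute g c := (hEc c hcE).1.symm
    have hform : ∀ x ∈ E, ∃ i j : ℕ, x = g ^ i * c ^ j := by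
      intro x hx
      let L : Subgroup G :=
      { carrier := {x | ∃ i j : ℕ, x = g ^ i * c ^ j}
        one_mem' := ⟨0, 0, by simp⟩
        mul_mem' := by
          rintro _ _ ⟨i, j, rfl⟩ ⟨k, l, rfl⟩
          refine ⟨i + k, j + l, ?_⟩
          rw [pow_add, pow_add, mul_assoc (g ^ i) (c ^ j), ← mul_assoc (c ^ j) (g ^ k),
            ← (hgcc.pow_pow k j).eq]
          group
        inv_mem' := by
          rintro _ ⟨i, j, rfl⟩
          refine ⟨2 * i, 2 * j, ?_⟩
          apply inv_eq_of_mul_eq_one_right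
          rw [mul_assoc, ← mul_assoc (c ^ j), ← (hgcc.pow_pow (2 * i) j).eq, mul_assoc (g ^ (2 * i)),
            ← pow_add, ← mul_assoc, ← pow_add, show i + 2 * i = 3 * i by omega,
            show j + 2 * j = 3 * j by omega, pow_mul, pow_mul, D.g_three, hc3, one_pow, one_pow, one_mul] }
      have : Subgroup.closure ({g, c} : Set G) ≤ L := by
        rw [Subgroup.closure_le]
        rintro w (rfl | rfl)
        · exact ⟨1, 0, by simp⟩
        · exact ⟨0, 1, by simp⟩
      exact this (hcl hx)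
    obtain ⟨i, j, hij⟩ := hform r hrE
    obtain ⟨a', k, hak⟩ := hform y hyE
    have hgp : g ^ i ≠ 1 := by
      intro e
      rw [e, one_mul] at hij
      have hm : r ∈ Subgroup.zpowers c := hij ▸ Subgroup.pow_mem _ (Subgroup.mem_zpowers c) _
      have : Subgroup.zpowers r = Subgroup.zpowers c :=
        Subgroup.eq_of_le_of_card_ge (Subgroup.zpowers_le.2 hm) (by rw [Nat.card_zpowers, Nat.card_zpowers, hro, hco])
      exact hnr (this ▸ Subgroup.mem_zpowers c)
    -- conjugation by powers of `u` moves `g` through `g ^ _ * c ^ _`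
    have hcu : ∀ n : ℕ, Commute (u ^ n) c := fun n => (show Commute u c from hcc u huP).pow_left n
    obtain ⟨k', hk'⟩ : ∃ k : ℕ, y = g * c ^ k := by
      have hu27 : u ^ 27 = 1 := by
        have := pow_card_eq_one' (x := (⟨u, huP⟩ : Pg))
        rw [hP27] at this
        exact congrArg Subtype.val this
      refine ⟨k, ?_⟩
      have hpow : ∀ n : ℕ, ∃ m : ℕ, u ^ n * g * (u ^ n)⁻¹ = g ^ (a' ^ n) * c ^ m := by
        intro n
        induction n with
        | zero => exact ⟨0, by simp⟩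
        | succ n ih =>
          obtain ⟨m, hm⟩ := ih
          refine ⟨k * a' ^ n + m, ?_⟩
          rw [pow_succ', show u * u ^ n * g * (u * u ^ n)⁻¹ = u * (u ^ n * g * (u ^ n)⁻¹) * u⁻¹ by group,
            hm, show u * (g ^ (a' ^ n) * c ^ m) * u⁻¹ = (u * g ^ (a' ^ n) * u⁻¹) * (u * c ^ m * u⁻¹) by group,
            ← conj_pow, ← hy, hak, (hgcc.pow_pow a' k).mul_pow, ← pow_mul, ← pow_mul,
            show u * c ^ m * u⁻¹ = c ^ m by
              rw [((show Commute u c from hcc u huP).pow_right m).eq, mul_inv_cancel_right],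
            ← pow_succ', mul_assoc, ← pow_add]
      obtain ⟨m, hm⟩ := hpow 27
      rw [hu27, one_mul, inv_one, mul_one] at hm
      have h1 : g ^ (a' % 3) = g ^ a' := by
        conv_rhs => rw [← Nat.mod_add_div a' 3, pow_add, pow_mul, D.g_three, one_pow, mul_one]
      have hmc : c ^ m = (g ^ (a' ^ 27))⁻¹ * g := by
        rw [eq_inv_mul_iff_mul_eq]; exact hm.symm
      have hcm1 : c ^ m = 1 := by
        by_contra hne
        apply hcg
        have hmg : c ^ m ∈ Subgroup.zpowers g := by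
          rw [hmc]
          exact Subgroup.mul_mem _ (Subgroup.inv_mem _ (Subgroup.pow_mem _ (Subgroup.mem_zpowers g) _))
            (Subgroup.mem_zpowers g)
        have hz : Subgroup.zpowers (c ^ m) = Subgroup.zpowers c := by
          refine Subgroup.eq_of_le_of_card_ge (Subgroup.zpowers_le.2 (Subgroup.pow_mem _ (Subgroup.mem_zpowers c) _)) ?_
          rw [Nat.card_zpowers, Nat.card_zpowers, hco,
            orderOf_eq_prime (by rw [← pow_mul, mul_comm, pow_mul, hc3, one_pow]) hne]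
        exact (Subgroup.zpowers_le.2 hmg) (hz ▸ Subgroup.mem_zpowers c)
      rw [hcm1, mul_one] at hm
      have hmod : a' ^ 27 % 3 = 1 := by
        have h2 : g ^ (a' ^ 27 % 3) = g := by
          conv_rhs => rw [hm, ← Nat.mod_add_div (a' ^ 27) 3, pow_add, pow_mul, D.g_three, one_pow, mul_one]
        have h3 := pow_injOn_Iio_orderOf (x := g) (Set.mem_Iio.2 (by rw [D.orderOf_g]; omega))
          (Set.mem_Iio.2 (by rw [D.orderOf_g]; norm_num)) (h2.trans (pow_one g).symm)
        exact h3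
      have ha' : a' % 3 = 1 := by
        rw [Nat.pow_mod] at hmod
        have : a' % 3 < 3 := Nat.mod_lt _ (by norm_num)
        interval_cases h : a' % 3 <;> first | omega | norm_num at hmod
      rw [hak, ← h1, ha', pow_one]
    have hk1 : c ^ k' ≠ 1 := by
      intro e
      rw [e, mul_one, hy] at hk'
      exact hug (mul_inv_eq_iff_eq_mul.1 hk')
    have hpow : ∀ n : ℕ, u ^ n * g ^ i * (u ^ n)⁻¹ = g ^ i * c ^ (k' * i * n) := by
      intro n
      induction n with
      | zero => simp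
      | succ n ih =>
        rw [pow_succ', show u * u ^ n * g ^ i * (u * u ^ n)⁻¹ = u * (u ^ n * g ^ i * (u ^ n)⁻¹) * u⁻¹ by group,
          ih, show u * (g ^ i * c ^ (k' * i * n)) * u⁻¹ =
            (u * g ^ i * u⁻¹) * (u * c ^ (k' * i * n) * u⁻¹) by group, ← conj_pow, ← hy, hk',
          (hgcc.pow_right k').mul_pow, ← pow_mul,
          show u * c ^ (k' * i * n) * u⁻¹ = c ^ (k' * i * n) by
            rw [((show Commute u c from hcc u huP).pow_right _).eq, mul_inv_cancel_right],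
          mul_assoc, ← pow_add]
        ring_nf
    obtain ⟨n, hn⟩ : ∃ n : ℕ, c ^ (k' * i * n) = c ^ j := by
      have hne : c ^ (k' * i) ≠ 1 := by
        intro e
        have h3k : ¬ 3 ∣ k' := fun ⟨m, hm⟩ => hk1 (by rw [hm, pow_mul, hc3, one_pow])
        have h3i : ¬ 3 ∣ i := fun ⟨m, hm⟩ => hgp (by rw [hm, pow_mul, D.g_three, one_pow])
        have := orderOf_dvd_of_pow_eq_one e
        rw [hco] at this
        rcases Nat.prime_three.dvd_mul.1 this with h' | h'
        exacts [h3k h', h3i h']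
      have hz : Subgroup.zpowers (c ^ (k' * i)) = Subgroup.zpowers c := by
        refine Subgroup.eq_of_le_of_card_ge (Subgroup.zpowers_le.2 (Subgroup.pow_mem _ (Subgroup.mem_zpowers c) _)) ?_
        rw [Nat.card_zpowers, Nat.card_zpowers, hco,
          orderOf_eq_prime (by rw [← pow_mul, mul_comm, pow_mul, hc3, one_pow]) hne]
      obtain ⟨n, hn⟩ := mem_powers_iff_mem_zpowers.2 (hz.ge (Subgroup.pow_mem _ (Subgroup.mem_zpowers c) j))
      exact ⟨n, by rw [pow_mul]; exact hn⟩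
    have hconj : u ^ n * g ^ i * (u ^ n)⁻¹ = r := by rw [hpow, hn, ← hij]
    refine D.g_not_z (i := (u ^ n)⁻¹ * z * (u ^ n)⁻¹⁻¹) (isConj_iff.2 ⟨u ^ n, by group⟩) ?_
    have h4 : Commute ((u ^ n)⁻¹ * z * (u ^ n)⁻¹⁻¹) (g ^ i) := by
      have e : g ^ i = (u ^ n)⁻¹ * r * (u ^ n)⁻¹⁻¹ := by rw [← hconj]; group
      rw [e]
      exact (Commute.conj_iff _).2 (show Commute r z from hrz).symm
    have hgz : g ∈ Subgroup.zpowers (g ^ i) := by
      have : Subgroup.zpowers (g ^ i) = Subgroup.zpowers g := by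
        refine Subgroup.eq_of_le_of_card_ge (Subgroup.zpowers_le.2 (Subgroup.pow_mem _ (Subgroup.mem_zpowers g) _)) ?_
        rw [Nat.card_zpowers, Nat.card_zpowers, D.orderOf_g,
          orderOf_eq_prime (by rw [← pow_mul, mul_comm, pow_mul, D.g_three, one_pow]) hgp]
      rw [this]; exact Subgroup.mem_zpowers g
    obtain ⟨m, hm⟩ := Subgroup.mem_zpowers_iff.1 hgz
    exact hm ▸ (h4.zpow_right m).eq
  have hzc : Subgroup.zpowers c = Subgroup.zpowers r :=
    Subgroup.eq_of_le_of_card_ge (Subgroup.zpowers_le.2 hcr) (by rw [Nat.card_zpowers, Nat.card_zpowers, hro, hco])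
  have hrc : ∀ x ∈ Pg, x * r = r * x := by
    intro x hx
    obtain ⟨m, hm⟩ := Subgroup.mem_zpowers_iff.1 (hzc.ge (Subgroup.mem_zpowers r))
    rw [← hm]
    exact ((show Commute x c from hcc x hx).zpow_right m).eq
  -- elements of `E`
  obtain ⟨i0, hi0, hi0g⟩ := D.exists_inv_g
  have hclassE : ∀ x ∈ E, x ∈ Subgroup.zpowers r ∨ IsConj x g := by
    intro x hx
    obtain ⟨a, ha, b, hb, rfl⟩ := hEmem x hx
    by_cases ha1 : a = 1
    · left; rw [ha1, one_mul]; exact hb
    right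
    -- some power of `u` sends `a` to `a * b`
    set y := u * a * u⁻¹ * a⁻¹ with hy
    have haE : a ∈ E := Subgroup.zpowers_le.2 hgE ha
    have hyE : y ∈ E := E.mul_mem (hEn a haE) (E.inv_mem haE)
    have hag : IsConj a g := by
      rcases mem_zpowers_three D.g_three ha with e | e | e
      · exact absurd e ha1
      · rw [e]
      · refine (isConj_iff.2 ⟨i0, ?_⟩).symm
        rw [hi0g, e, inv_eq_of_mul_eq_one_right (show g * g ^ 2 = 1 by rw [← pow_succ', D.g_three])]
    have hconjE : ∀ w ∈ E, ∀ v ∈ E, u * (w * v) * u⁻¹ = u * w * u⁻¹ * (u * v * u⁻¹) := fun w _ v _ => by group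
    -- `y` is central in `P`
    have hyr : y ∈ Subgroup.zpowers r := by
      set L := Pg ⊓ Subgroup.centralizer (Pg : Set G)
      have hLE : L ≤ E := fun x hx => hCE x (Subgroup.mem_centralizer_iff.1 hx.2 g (hP hgE)).symm
        (Subgroup.mem_centralizer_iff.1 hx.2 r (hP hrE)).symm
      obtain ⟨a', ha', b', hb', hab⟩ := hEmem y hyE
      by_cases h1 : a' = 1
      · rw [hab, h1, one_mul]; exact hb'
      exfalso
      -- otherwise `u` induces a map of `E / ⟨r⟩` without fixed points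
      obtain ⟨i, rfl⟩ := mem_powers_iff_mem_zpowers.2 ha'
      obtain ⟨j, hj⟩ := mem_powers_iff_mem_zpowers.2 ha
      have hu3 : ∀ w ∈ E, u ^ 3 * w * (u ^ 3)⁻¹ = w := by
        intro w hw
        have hu3E : u ^ 3 ∈ E := by
          haveI := Subgroup.normal_of_index_eq_minFac_card (G := Pg) (H := E.subgroupOf Pg) (by
            have := (E.subgroupOf Pg).card_mul_index
            rw [(Nat.card_congr (Subgroup.subgroupOfEquivOfLe hP).toEquiv).trans hE9, hP27] at this
            rw [show (E.subgroupOf Pg).index = 3 by omega, hP27]; norm_num)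
          have hpw := pow_card_eq_one' (x := QuotientGroup.mk' (E.subgroupOf Pg) ⟨u, huP⟩)
          have hidx : Nat.card (Pg ⧸ E.subgroupOf Pg) = 3 := by
            have := Subgroup.card_eq_card_quotient_mul_card_subgroup (E.subgroupOf Pg)
            rw [(Nat.card_congr (Subgroup.subgroupOfEquivOfLe hP).toEquiv).trans hE9, hP27] at this
            omega
          rw [hidx, ← map_pow] at hpw
          exact (QuotientGroup.eq_one_iff ((⟨u, huP⟩ : Pg) ^ 3)).1 hpw
        obtain ⟨a1, ha1', b1, hb1', e1⟩ := hEmem _ hu3E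
        obtain ⟨a2, ha2', b2, hb2', e2⟩ := hEmem _ hw
        have hcom : Commute (u ^ 3) w := by
          have hg' := (hEc _ hu3E).1
          have hr' := (hEc _ hu3E).2
          rw [e2]
          obtain ⟨p, rfl⟩ := Subgroup.mem_zpowers_iff.1 ha2'
          obtain ⟨q, rfl⟩ := Subgroup.mem_zpowers_iff.1 hb2'
          exact ((show Commute (u ^ 3) g from hg').zpow_right p).mul_right ((show Commute (u ^ 3) r from hr').zpow_right q)
        rw [hcom.eq, mul_inv_cancel_right]
      have hgi : g ^ i ≠ 1 := h1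
      obtain ⟨l, hl⟩ : ∃ l : ℕ, a ^ l = g ^ i := by
        have hz : Subgroup.zpowers a = Subgroup.zpowers g := by
          refine Subgroup.eq_of_le_of_card_ge (Subgroup.zpowers_le.2 ha) ?_
          have h3 : a ^ 3 = 1 := hE3 a haE
          rw [Nat.card_zpowers, Nat.card_zpowers, D.orderOf_g, orderOf_eq_prime h3 ha1]
        exact mem_powers_iff_mem_zpowers.2 (hz.ge (Subgroup.pow_mem _ (Subgroup.mem_zpowers g) i))
      obtain ⟨m, hm⟩ := mem_powers_iff_mem_zpowers.2 hb'
      have hua : u * a * u⁻¹ = a ^ (l + 1) * r ^ m := by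
        have har : Commute a r := (hEc a haE).2
        rw [pow_succ, mul_assoc (a ^ l), (har.pow_right m).eq, ← mul_assoc, hl,
          show g ^ i * r ^ m * a = y * a by rw [hab]; simp [← hm], hy, inv_mul_cancel_right]
      have hn : ∀ n : ℕ, ∃ m' : ℕ, u ^ n * a * (u ^ n)⁻¹ = a ^ ((l + 1) ^ n) * r ^ m' := by
        intro n
        induction n with
        | zero => exact ⟨0, by simp⟩
        | succ n ih =>
          obtain ⟨m', hm'⟩ := ih
          refine ⟨m * (l + 1) ^ n + m', ?_⟩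
          rw [pow_succ', show u * u ^ n * a * (u * u ^ n)⁻¹ = u * (u ^ n * a * (u ^ n)⁻¹) * u⁻¹ by group,
            hm', show u * (a ^ ((l + 1) ^ n) * r ^ m') * u⁻¹ =
              (u * a ^ ((l + 1) ^ n) * u⁻¹) * (u * r ^ m' * u⁻¹) by group, ← conj_pow, hua,
            ((show Commute a r from (hEc a haE).2).pow_pow _ _).mul_pow, ← pow_mul, ← pow_mul,
            show u * r ^ m' * u⁻¹ = r ^ m' by
              rw [((show Commute u r from hrc u huP).pow_right _).eq, mul_inv_cancel_right],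
            ← pow_succ', mul_assoc, ← pow_add]
      obtain ⟨m', hm'⟩ := hn 3
      rw [hu3 a haE] at hm'
      have hA1 : a ^ ((l + 1) ^ 3) * a⁻¹ = 1 := by
        have hr' : a ^ ((l + 1) ^ 3) * a⁻¹ ∈ Subgroup.zpowers g ⊓ Subgroup.zpowers r := by
          refine ⟨Subgroup.mul_mem _ (Subgroup.pow_mem _ ha _) (Subgroup.inv_mem _ ha), ?_⟩
          have e : a ^ ((l + 1) ^ 3) * a⁻¹ = (r ^ m')⁻¹ := by
            have hc : Commute (a ^ ((l + 1) ^ 3)) (r ^ m') := (show Commute a r from (hEc a haE).2).pow_pow _ _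
            rw [mul_inv_eq_iff_eq_mul]
            conv_rhs => arg 2; rw [hm', hc.eq]
            rw [inv_mul_cancel_left]
          rw [e]
          exact Subgroup.inv_mem _ (Subgroup.pow_mem _ (Subgroup.mem_zpowers r) _)
        rwa [hinf, Subgroup.mem_bot] at hr'
      have hoa : orderOf a = 3 := orderOf_eq_prime (hE3 a haE) ha1
      have h3 : (l + 1) ^ 3 % 3 = 1 := by
        have h4 : a ^ ((l + 1) ^ 3) = a := mul_inv_eq_one.1 hA1
        have h5 := pow_mod_orderOf a ((l + 1) ^ 3)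
        rw [hoa, h4] at h5
        exact pow_injOn_Iio_orderOf (x := a) (Set.mem_Iio.2 (by rw [hoa]; omega))
          (Set.mem_Iio.2 (by rw [hoa]; norm_num)) (h5.trans (pow_one a).symm)
      have hl3 : l % 3 ≠ 0 := by
        intro e
        apply hgi
        rw [← hl, ← Nat.mod_add_div l 3, e, zero_add, pow_mul, hE3 a haE, one_pow]
      rw [Nat.pow_mod, Nat.add_mod] at h3
      have hlt : l % 3 < 3 := Nat.mod_lt _ (by norm_num)
      interval_cases l % 3 <;> first | omega | norm_num at h3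
    have hy1 : y ≠ 1 := by
      intro e
      have hua : Commute u a := mul_inv_eq_iff_eq_mul.1 (mul_inv_eq_one.1 e)
      apply hug
      have hz : Subgroup.zpowers a = Subgroup.zpowers g := by
        refine Subgroup.eq_of_le_of_card_ge (Subgroup.zpowers_le.2 ha) ?_
        rw [Nat.card_zpowers, Nat.card_zpowers, D.orderOf_g, orderOf_eq_prime (hE3 a haE) ha1]
      obtain ⟨m, hm⟩ := Subgroup.mem_zpowers_iff.1 (hz.ge (Subgroup.mem_zpowers g))
      rw [← hm]
      exact (hua.zpow_right m).eq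
    have hzy : Subgroup.zpowers y = Subgroup.zpowers r := by
      refine Subgroup.eq_of_le_of_card_ge (Subgroup.zpowers_le.2 hyr) ?_
      rw [Nat.card_zpowers, Nat.card_zpowers, hro, orderOf_eq_prime (hE3 y hyE) hy1]
    obtain ⟨n, hn⟩ := mem_powers_iff_mem_zpowers.2 (hzy.ge hb)
    have hpw : ∀ n : ℕ, u ^ n * a * (u ^ n)⁻¹ = a * y ^ n := by
      intro n
      induction n with
      | zero => simp
      | succ n ih =>
        rw [pow_succ', show u * u ^ n * a * (u * u ^ n)⁻¹ = u * (u ^ n * a * (u ^ n)⁻¹) * u⁻¹ by group, ih,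
          show u * (a * y ^ n) * u⁻¹ = (u * a * u⁻¹) * (u * y ^ n * u⁻¹) by group,
          show u * y ^ n * u⁻¹ = y ^ n by
            obtain ⟨q, hq⟩ := Subgroup.mem_zpowers_iff.1 hyr
            rw [← hq, (((show Commute u r from hrc u huP).zpow_right q).pow_right n).eq, mul_inv_cancel_right]]
        have hay : Commute a y := by
          obtain ⟨q, hq⟩ := Subgroup.mem_zpowers_iff.1 hyr
          rw [← hq]; exact (show Commute a r from (hEc a haE).2).zpow_right q
        rw [show u * a * u⁻¹ = y * a by rw [hy]; group, ← hay.eq, mul_assoc, ← pow_succ']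
    refine IsConj.trans (isConj_iff.2 ⟨u ^ n, ?_⟩).symm hag
    rw [hpw]; exact congrArg (a * ·) hn
  -- the normaliser of `E`
  set NE := Subgroup.normalizer (E : Set G) with hNE
  have hrfix : ∀ n ∈ NE, n * r * n⁻¹ ∈ Subgroup.zpowers r := by
    intro n hn
    rcases hclassE _ ((Subgroup.mem_normalizer_iff.1 hn r).1 hrE) with h | h
    · exact h
    exfalso
    obtain ⟨w, hw⟩ := isConj_iff.1 h
    refine D.g_not_z (i := (w * n) * z * (w * n)⁻¹) (isConj_iff.2 ⟨(w * n)⁻¹, by group⟩) ?_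
    have e : g = (w * n) * r * (w * n)⁻¹ := by rw [← hw]; group
    rw [e]
    exact ((Commute.conj_iff _).2 (show Commute r z from hrz).symm).eq
  have hstab : NE ⊓ Subgroup.centralizer ({g} : Set G) ≤ E := by
    intro n hn
    obtain ⟨s, hs, b, hb, e, -⟩ := D.mem_R_of_comm hr (Subgroup.mem_centralizer_singleton_iff.1 hn.2)
    have hbr : Commute b r := (D.R_comm hr (Subgroup.zpowers_le.2 D.g_mem hb)).symm
    have h := hrfix n hn.1
    rw [e, show s * b * r * (s * b)⁻¹ = s * (b * r) * b⁻¹ * s⁻¹ by group, hbr.eq,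
      show s * (r * b) * b⁻¹ * s⁻¹ = s * r * s⁻¹ by group] at h
    rw [e]
    exact E.mul_mem (Subgroup.zpowers_le.2 hrE (D.cent_R_r hr hro hrV hs h)) (Subgroup.zpowers_le.2 hgE hb)
  have hPNE : ∀ n : G, n ∈ Pg → n ∈ NE := by
    have hfwd : ∀ n ∈ Pg, ∀ x ∈ E, n * x * n⁻¹ ∈ E := by
      intro n hn x hx
      have hnrm := Subgroup.normal_of_index_eq_minFac_card (G := Pg) (H := E.subgroupOf Pg) (by
        have := (E.subgroupOf Pg).card_mul_index
        rw [(Nat.card_congr (Subgroup.subgroupOfEquivOfLe hP).toEquiv).trans hE9, hP27] at this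
        rw [show (E.subgroupOf Pg).index = 3 by omega, hP27]; norm_num)
      exact hnrm.conj_mem (⟨x, hP hx⟩ : Pg) hx (⟨n, hn⟩ : Pg)
    intro n hn
    refine Subgroup.mem_normalizer_iff.2 fun x => ⟨hfwd n hn x, fun hx => ?_⟩
    have := hfwd n⁻¹ (Pg.inv_mem hn) _ hx
    rwa [show n⁻¹ * (n * x * n⁻¹) * n⁻¹⁻¹ = x by group] at this
  have hiNE : i0 ∈ NE := by
    have hir : Commute i0 r := (D.R_comm hr hi0).symm
    have hfwd : ∀ {w : G}, (w * g * w⁻¹ ∈ E) → (w * r * w⁻¹ ∈ E) → ∀ x ∈ E, w * x * w⁻¹ ∈ E := by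
      intro w hwg hwr
      have : E ≤ E.comap (MulAut.conj w).toMonoidHom := by
        rw [Subgroup.closure_le]
        rintro x (rfl | rfl)
        exacts [hwg, hwr]
      exact this
    have hg' : i0 * g * i0⁻¹ ∈ E := by rw [hi0g]; exact E.inv_mem hgE
    have hr' : i0 * r * i0⁻¹ ∈ E := by rw [hir.eq, mul_inv_cancel_right]; exact hrE
    have hf := hfwd hg' hr'
    have hg'' : i0⁻¹ * g * i0⁻¹⁻¹ ∈ E := by
      have : i0⁻¹ * g * i0⁻¹⁻¹ = g⁻¹ := by
        conv_lhs => rw [show g = i0 * g⁻¹ * i0⁻¹ by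
          rw [show i0 * g⁻¹ * i0⁻¹ = (i0 * g * i0⁻¹)⁻¹ by group, hi0g, inv_inv]]
        group
      rw [this]; exact E.inv_mem hgE
    have hr'' : i0⁻¹ * r * i0⁻¹⁻¹ ∈ E := by rw [hir.inv_left.eq, mul_inv_cancel_right]; exact hrE
    refine Subgroup.mem_normalizer_iff.2 fun x => ⟨hf x, fun hx => ?_⟩
    have := hfwd hg'' hr'' _ hx
    rwa [show i0⁻¹ * (i0 * x * i0⁻¹) * i0⁻¹⁻¹ = x by group] at this
  have hiP : i0 ∉ Pg := by
    intro h
    have hsq : (i0 * g * i0⁻¹) = g⁻¹ := hi0g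
    -- a 3-element cannot invert `g`
    have hodd : ∃ k : ℕ, i0 ^ (3 ^ k) = 1 := by
      obtain ⟨k, hk⟩ := P.2 ⟨i0, h⟩
      exact ⟨k, congrArg Subtype.val hk⟩
    obtain ⟨k, hk⟩ := hodd
    have hn : ∀ n : ℕ, i0 ^ (2 * n) * g * (i0 ^ (2 * n))⁻¹ = g := by
      intro n
      induction n with
      | zero => simp
      | succ n ih =>
        rw [show 2 * (n + 1) = (2 * n + 1) + 1 by ring, pow_succ', pow_succ',
          show i0 * (i0 * i0 ^ (2 * n)) * g * (i0 * (i0 * i0 ^ (2 * n)))⁻¹ =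
          i0 * (i0 * (i0 ^ (2 * n) * g * (i0 ^ (2 * n))⁻¹) * i0⁻¹) * i0⁻¹ by group, ih, hi0g,
          show i0 * g⁻¹ * i0⁻¹ = (i0 * g * i0⁻¹)⁻¹ by group, hi0g, inv_inv]
    obtain ⟨m, hm⟩ := (Odd.pow (show Odd 3 by decide) : Odd (3 ^ k))
    have h2 : i0 * g * i0⁻¹ = g := by
      calc i0 * g * i0⁻¹ = i0 * (i0 ^ (2 * m) * g * (i0 ^ (2 * m))⁻¹) * i0⁻¹ := by rw [hn]
        _ = i0 ^ (2 * m + 1) * g * (i0 ^ (2 * m + 1))⁻¹ := by rw [pow_succ']; group
        _ = g := by rw [← hm, hk]; group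
    rw [hi0g] at h2
    have : g ^ 2 = 1 := by rw [pow_two]; nth_rw 1 [← h2]; group
    exact D.g_ne (eq_one_of_coprime_pow D.g_three this (by norm_num))
  have hNE54 : Nat.card NE = 54 := by
    have hle : Nat.card NE ≤ 54 := by
      have h := card_orbit NE g
      have hs : Nat.card (NE ⊓ Subgroup.centralizer ({g} : Set G) : Subgroup G) ≤ 9 :=
        hE9 ▸ Subgroup.card_le_of_le hstab
      have ho : ((Finset.univ.filter fun n => n ∈ NE).image fun n => n * g * n⁻¹).card ≤ 6 := by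
        refine (Finset.card_le_card (t := (Finset.univ.filter fun x => x ∈ E) \
          (Finset.univ.filter fun x => x ∈ Subgroup.zpowers r)) ?_).trans ?_
        · intro x hx
          obtain ⟨n, hn, rfl⟩ := Finset.mem_image.1 hx
          have hn' := (Finset.mem_filter.1 hn).2
          refine Finset.mem_sdiff.2 ⟨Finset.mem_filter.2 ⟨Finset.mem_univ _,
            (Subgroup.mem_normalizer_iff.1 hn' g).1 hgE⟩, fun h' => ?_⟩
          obtain ⟨j, hj⟩ := Subgroup.mem_zpowers_iff.1 (Finset.mem_filter.1 h').2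
          refine D.g_not_z (i := n⁻¹ * z * n⁻¹⁻¹) (isConj_iff.2 ⟨n, by group⟩) ?_
          have e : g = n⁻¹ * r ^ j * n⁻¹⁻¹ := by rw [hj]; group
          rw [e]
          exact ((Commute.conj_iff _).2 ((show Commute r z from hrz).symm.zpow_right j)).eq
        · rw [Finset.card_sdiff_of_subset, ← Fintype.card_subtype, ← Fintype.card_subtype,
            ← Nat.card_eq_fintype_card, ← Nat.card_eq_fintype_card]
          · show Nat.card E - Nat.card (Subgroup.zpowers r) ≤ 6
            rw [hE9, Nat.card_zpowers, hro]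
          · intro x hx
            exact Finset.mem_filter.2 ⟨Finset.mem_univ _, Subgroup.zpowers_le.2 hrE (Finset.mem_filter.1 hx).2⟩
      calc Nat.card NE = _ := h.symm
        _ ≤ 6 * 9 := Nat.mul_le_mul ho hs
    have hd : 27 ∣ Nat.card NE := hP27 ▸ Subgroup.card_dvd_of_le hPNE
    have hne : Nat.card NE ≠ 27 := by
      intro e
      have : Pg = NE := Subgroup.eq_of_le_of_card_ge hPNE (by rw [hP27, e])
      exact hiP (this.ge hiNE)
    have hpos : 0 < Nat.card NE := Nat.card_pos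
    omega
  -- the normaliser of `P`
  set NP := Subgroup.normalizer (Pg : Set G) with hNP
  have hNENP : NE ≤ NP := by
    have hidx : (Pg.subgroupOf NE).index = 2 := by
      have := (Pg.subgroupOf NE).card_mul_index
      rw [(Nat.card_congr (Subgroup.subgroupOfEquivOfLe hPNE).toEquiv).trans hP27, hNE54] at this
      omega
    have hnrm := Subgroup.normal_of_index_eq_two hidx
    intro n hn
    refine Subgroup.mem_normalizer_iff.2 fun x => ⟨fun hx => ?_, fun hx => ?_⟩
    · exact hnrm.conj_mem (⟨x, hPNE x hx⟩ : NE) hx (⟨n, hn⟩ : NE)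
    · have := hnrm.conj_mem (⟨_, hPNE _ hx⟩ : NE) hx ((⟨n, hn⟩ : NE)⁻¹)
      change n⁻¹ * (n * x * n⁻¹) * n⁻¹⁻¹ ∈ Pg at this
      rwa [show n⁻¹ * (n * x * n⁻¹) * n⁻¹⁻¹ = x by group] at this
  have hNPr : ∀ n ∈ NP, n * r * n⁻¹ ∈ Subgroup.zpowers r := by
    intro n hn
    set y := n * r * n⁻¹
    have hyP : y ∈ Pg := (Subgroup.mem_normalizer_iff.1 hn r).1 (hP hrE)
    have hyc : ∀ x ∈ Pg, x * y = y * x := by
      intro x hx
      have hx' : n⁻¹ * x * n ∈ Pg := by
        apply (Subgroup.mem_normalizer_iff.1 hn (n⁻¹ * x * n)).2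
        rwa [show n * (n⁻¹ * x * n) * n⁻¹ = x by group]
      calc x * y = n * (n⁻¹ * x * n * r) * n⁻¹ := by simp only [y]; group
        _ = y * x := by rw [hrc _ hx']; simp only [y]; group
    have hyE : y ∈ E := hCE y (hyc g (hP hgE)).symm (hyc r (hP hrE)).symm
    rcases hclassE y hyE with h | h
    · exact h
    exfalso
    obtain ⟨w, hw⟩ := isConj_iff.1 h
    refine D.g_not_z (i := (w * n) * z * (w * n)⁻¹) (isConj_iff.2 ⟨(w * n)⁻¹, by group⟩) ?_
    have e : g = (w * n) * r * (w * n)⁻¹ := by rw [← hw]; simp only [y]; group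
    rw [e]
    exact ((Commute.conj_iff _).2 (show Commute r z from hrz).symm).eq
  set Orb := (Finset.univ.filter fun n => n ∈ NP).image fun n => E.map (MulAut.conj n).toMonoidHom with hOr
  have hmem' : ∀ n x : G, x ∈ E.map (MulAut.conj n).toMonoidHom ↔ n⁻¹ * x * n ∈ E := by
    intro n x
    constructor
    · rintro ⟨y, hy, rfl⟩
      show n⁻¹ * (n * y * n⁻¹) * n ∈ E
      rwa [show n⁻¹ * (n * y * n⁻¹) * n = y by group]
    · exact fun h => ⟨_, h, show n * (n⁻¹ * x * n) * n⁻¹ = x by group⟩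
  have hO1 : ∀ L ∈ Orb, Nat.card L = 9 ∧ L ≤ Pg ∧ r ∈ L := by
    intro L hL
    obtain ⟨n, hn, rfl⟩ := Finset.mem_image.1 hL
    have hn' := (Finset.mem_filter.1 hn).2
    refine ⟨?_, ?_, (hmem' n r).2 ?_⟩
    · rw [← Nat.card_congr (Subgroup.equivMapOfInjective E _ (MulAut.conj n).injective).toEquiv, hE9]
    · rintro _ ⟨x, hx, rfl⟩
      exact (Subgroup.mem_normalizer_iff.1 hn' x).1 (hP hx)
    · have := hNPr n⁻¹ (NP.inv_mem hn')
      rw [inv_inv] at this
      exact Subgroup.zpowers_le.2 hrE this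
  have hfib : Nat.card NP = Orb.card * 54 := by
    rw [Nat.card_eq_fintype_card, Fintype.card_subtype,
      Finset.card_eq_sum_card_image (fun n => E.map (MulAut.conj n).toMonoidHom) (Finset.univ.filter fun n => n ∈ NP),
      Finset.sum_const_nat]
    intro L hL
    obtain ⟨n0, hn0, rfl⟩ := Finset.mem_image.1 hL
    have hn0' := (Finset.mem_filter.1 hn0).2
    rw [← hNE54, Nat.card_eq_fintype_card, Fintype.card_subtype]
    refine (Finset.card_bij (fun m _ => n0 * m) ?_ (fun _ _ _ _ e => mul_left_cancel e) ?_).symm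
    · intro m hm
      have hm' := (Finset.mem_filter.1 hm).2
      refine Finset.mem_filter.2 ⟨Finset.mem_filter.2 ⟨Finset.mem_univ _, NP.mul_mem hn0' (hNENP hm')⟩, ?_⟩
      ext x
      rw [hmem', hmem', show (n0 * m)⁻¹ * x * (n0 * m) = m⁻¹ * (n0⁻¹ * x * n0) * m by group]
      have := Subgroup.mem_normalizer_iff.1 (NE.inv_mem hm') (n0⁻¹ * x * n0)
      rw [inv_inv] at this
      exact this.symm
    · intro m hm
      obtain ⟨hm1, hm2⟩ := Finset.mem_filter.1 hm
      refine ⟨n0⁻¹ * m, Finset.mem_filter.2 ⟨Finset.mem_univ _, Subgroup.mem_normalizer_iff.2 fun x => ?_⟩,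
        by group⟩
      have h := SetLike.ext_iff.1 hm2 (m * x * m⁻¹)
      rw [hmem', hmem', show m⁻¹ * (m * x * m⁻¹) * m = x by group] at h
      rw [show n0⁻¹ * m * x * (n0⁻¹ * m)⁻¹ = n0⁻¹ * (m * x * m⁻¹) * n0 by group]
      exact h
  set U := Orb.biUnion fun L => (Finset.univ.filter fun x => x ∈ L ∧ x ∉ Subgroup.zpowers r) with hU
  have hU6 : U.card = 6 * Orb.card := by
    rw [hU, Finset.card_biUnion, Finset.sum_const_nat, mul_comm]
    · intro L hL
      obtain ⟨h9, -, hrL⟩ := hO1 L hL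
      rw [show (Finset.univ.filter fun x => x ∈ L ∧ x ∉ Subgroup.zpowers r) =
        (Finset.univ.filter fun x => x ∈ L) \ (Finset.univ.filter fun x => x ∈ Subgroup.zpowers r) by ext; simp,
        Finset.card_sdiff_of_subset, ← Fintype.card_subtype, ← Fintype.card_subtype,
        ← Nat.card_eq_fintype_card, ← Nat.card_eq_fintype_card]
      · show Nat.card L - Nat.card (Subgroup.zpowers r) = 6
        rw [h9, Nat.card_zpowers, hro]
      · intro x hx
        exact Finset.mem_filter.2 ⟨Finset.mem_univ _, Subgroup.zpowers_le.2 hrL (Finset.mem_filter.1 hx).2⟩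
    · intro L hL L' hL' hne
      simp only [Function.onFun, Finset.disjoint_left, Finset.mem_filter, Finset.mem_univ, true_and]
      rintro x ⟨hxL, hxr⟩ ⟨hxL', -⟩
      obtain ⟨h9, -, hrL⟩ := hO1 L hL
      obtain ⟨h9', -, hrL'⟩ := hO1 L' hL'
      have hd : Nat.card (L ⊓ L' : Subgroup G) ∣ 3 ^ 2 := by
        have := Subgroup.card_dvd_of_le (inf_le_left : L ⊓ L' ≤ L)
        rwa [h9] at this
      obtain ⟨i, hi, hic⟩ := (Nat.dvd_prime_pow Nat.prime_three).1 hd
      by_cases hi2 : i = 2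
      · subst hi2
        exact hne ((Subgroup.eq_of_le_of_card_ge (inf_le_left : L ⊓ L' ≤ L) (by rw [hic, h9]; norm_num)).symm.trans
          (Subgroup.eq_of_le_of_card_ge (inf_le_right : L ⊓ L' ≤ L') (by rw [hic, h9']; norm_num)))
      · apply hxr
        have hle : Subgroup.zpowers r ≤ L ⊓ L' := Subgroup.zpowers_le.2 ⟨hrL, hrL'⟩
        rw [Subgroup.eq_of_le_of_card_ge hle (by
          rw [Nat.card_zpowers, hro, hic]
          calc 3 ^ i ≤ 3 ^ 1 := Nat.pow_le_pow_right (by norm_num) (by omega)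
            _ = 3 := pow_one 3)]
        exact ⟨hxL, hxL'⟩
  set P24 := (Finset.univ.filter fun x => x ∈ Pg ∧ x ∉ Subgroup.zpowers r)
  have hP24 : P24.card = 24 := by
    rw [show P24 = (Finset.univ.filter fun x => x ∈ Pg) \ (Finset.univ.filter fun x => x ∈ Subgroup.zpowers r) by
      ext; simp [P24], Finset.card_sdiff_of_subset, ← Fintype.card_subtype, ← Fintype.card_subtype,
      ← Nat.card_eq_fintype_card, ← Nat.card_eq_fintype_card]
    · show Nat.card Pg - Nat.card (Subgroup.zpowers r) = 24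
      rw [hP27, Nat.card_zpowers, hro]
    · intro x hx
      exact Finset.mem_filter.2 ⟨Finset.mem_univ _, Subgroup.zpowers_le.2 (hP hrE) (Finset.mem_filter.1 hx).2⟩
  have hUP : U ⊆ P24 := by
    intro x hx
    obtain ⟨L, hL, hx'⟩ := Finset.mem_biUnion.1 hx
    obtain ⟨hxL, hxr⟩ := (Finset.mem_filter.1 hx').2
    exact Finset.mem_filter.2 ⟨Finset.mem_univ _, (hO1 L hL).2.1 hxL, hxr⟩
  have hO4 : Orb.card ≤ 4 := by
    have := Finset.card_le_card hUP
    rw [hU6, hP24] at this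
    omega
  have hOn1 : Orb.card ≠ 1 := by
    intro e
    have hNPNE : NP = NE := (Subgroup.eq_of_le_of_card_ge hNENP (by rw [hfib, e, hNE54])).symm
    obtain ⟨s, hs⟩ := D.inverted_in_C hrC hro
    -- `N(E)` centralises `r`
    have hcent : ∀ n ∈ NE, n * r = r * n := by
      intro n hn
      have hle : Pg ⊔ Subgroup.zpowers i0 = NE := by
        refine Subgroup.eq_of_le_of_card_ge (sup_le hPNE (Subgroup.zpowers_le.2 hiNE)) ?_
        have h1 := Subgroup.card_dvd_of_le (le_sup_left : Pg ≤ Pg ⊔ Subgroup.zpowers i0)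
        have h2 := Subgroup.card_dvd_of_le (sup_le hPNE (Subgroup.zpowers_le.2 hiNE))
        rw [hP27] at h1
        rw [hNE54] at h2 ⊢
        have h3 : Nat.card (Pg ⊔ Subgroup.zpowers i0 : Subgroup G) ≠ 27 := by
          intro e'
          have heq : Pg = Pg ⊔ Subgroup.zpowers i0 := Subgroup.eq_of_le_of_card_ge le_sup_left (by rw [hP27, e'])
          exact hiP (heq.ge (Subgroup.mem_sup_right (Subgroup.mem_zpowers i0)))
        obtain ⟨m, hm⟩ := h1
        have hpos : 0 < Nat.card (Pg ⊔ Subgroup.zpowers i0 : Subgroup G) := Nat.card_pos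
        omega
      have hle2 : Pg ⊔ Subgroup.zpowers i0 ≤ Subgroup.centralizer ({r} : Set G) :=
        sup_le (fun x hx => Subgroup.mem_centralizer_singleton_iff.2 (hrc x hx))
          (Subgroup.zpowers_le.2 (Subgroup.mem_centralizer_singleton_iff.2 (D.R_comm hr hi0).symm))
      exact Subgroup.mem_centralizer_singleton_iff.1 (hle2 (hle.ge hn))
    set H := Subgroup.centralizer ({r} : Set G)
    have hPH : Pg ≤ H := fun x hx => Subgroup.mem_centralizer_singleton_iff.2 (hrc x hx)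
    have hPs : Pg.map (MulAut.conj s).toMonoidHom ≤ H := by
      rintro _ ⟨x, hx, rfl⟩
      refine Subgroup.mem_centralizer_singleton_iff.2 ?_
      show s * x * s⁻¹ * r = r * (s * x * s⁻¹)
      have hr' : r = (s * r * s⁻¹)⁻¹ := by rw [hs, inv_inv]
      have hc : Commute (s * x * s⁻¹) (s * r * s⁻¹) := (Commute.conj_iff s).2 (hrc x hx)
      rw [hr']
      exact hc.inv_right.eq
    have hp1 : IsPGroup 3 (Pg.subgroupOf H) := IsPGroup.of_card (n := 3) (by
      rw [(Nat.card_congr (Subgroup.subgroupOfEquivOfLe hPH).toEquiv).trans hP27]; norm_num)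
    have hp2 : IsPGroup 3 ((Pg.map (MulAut.conj s).toMonoidHom).subgroupOf H) := IsPGroup.of_card (n := 3) (by
      rw [Nat.card_congr (Subgroup.subgroupOfEquivOfLe hPs).toEquiv,
        ← Nat.card_congr (Subgroup.equivMapOfInjective Pg _ (MulAut.conj s).injective).toEquiv, hP27]
      norm_num)
    obtain ⟨T1, hT1⟩ := hp1.exists_le_sylow
    obtain ⟨T2, hT2⟩ := hp2.exists_le_sylow
    obtain ⟨c', hc'⟩ := MulAction.exists_smul_eq H T2 T1
    have hT1eq : ∀ x : H, x ∈ (T1 : Subgroup H) → (x : G) ∈ Pg := by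
      have hp : IsPGroup 3 ((T1 : Subgroup H).map H.subtype) := T1.2.map _
      have hle : Pg ≤ (T1 : Subgroup H).map H.subtype := fun x hx => ⟨⟨x, hPH hx⟩, hT1 hx, rfl⟩
      have heq := P.3 hp hle
      exact fun x hx => heq.le ⟨x, hx, rfl⟩
    have hn : (c' : G) * s ∈ NP := by
      have hfwd : ∀ x ∈ Pg, (c' : G) * s * x * ((c' : G) * s)⁻¹ ∈ Pg := by
        intro x hx
        have hm : s * x * s⁻¹ ∈ Pg.map (MulAut.conj s).toMonoidHom := ⟨x, hx, rfl⟩
        have h1 : c' * (⟨s * x * s⁻¹, hPs hm⟩ : H) * c'⁻¹ ∈ (T1 : Subgroup H) := by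
          rw [← hc', Sylow.coe_subgroup_smul]
          exact ⟨⟨s * x * s⁻¹, hPs hm⟩, hT2 hm, rfl⟩
        have h2 := hT1eq _ h1
        change (c' : G) * (s * x * s⁻¹) * (c' : G)⁻¹ ∈ Pg at h2
        rwa [show (c' : G) * (s * x * s⁻¹) * (c' : G)⁻¹ = (c' : G) * s * x * ((c' : G) * s)⁻¹ by group] at h2
      let φ : Pg → Pg := fun w => ⟨_, hfwd w.1 w.2⟩
      have hφ : Function.Injective φ := fun v w h =>
        Subtype.ext (mul_left_cancel (mul_right_cancel (congrArg Subtype.val h)))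
      refine Subgroup.mem_normalizer_iff.2 fun x => ⟨hfwd x, fun hx => ?_⟩
      obtain ⟨w, hw⟩ := (Finite.injective_iff_surjective.1 hφ) ⟨_, hx⟩
      exact (mul_left_cancel (mul_right_cancel (congrArg Subtype.val hw))) ▸ w.2
    have h1 : Commute ((c' : G) * s) r := hcent _ (hNPNE.le hn)
    have h2 : r⁻¹ = r := by
      calc r⁻¹ = (c' : G) * r⁻¹ * (c' : G)⁻¹ := by
            rw [((show Commute (c' : G) r from Subgroup.mem_centralizer_singleton_iff.1 c'.2).inv_right).eq,
              mul_inv_cancel_right]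
        _ = (c' : G) * s * r * ((c' : G) * s)⁻¹ := by rw [← hs]; group
        _ = r := by rw [h1.eq, mul_inv_cancel_right]
    have : r ^ 2 = 1 := by rw [pow_two]; nth_rw 1 [← h2]; group
    exact hr1 (eq_one_of_coprime_pow hr3 this (by norm_num))
  have hNP216 : Orb.card = 4 := by
    have hidx := NP.card_mul_index
    rw [D.order, hfib] at hidx
    have hmod : NP.index % 3 = 1 := by
      have := card_sylow_modEq_one 3 G
      rw [Sylow.card_eq_index_normalizer P] at this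
      exact this
    have h2 : Orb.card * NP.index = 11200 := by
      apply Nat.eq_of_mul_eq_mul_left (show 0 < 54 by norm_num)
      rw [← mul_assoc, mul_comm 54, hidx]
    have h5 : (Orb.card * NP.index) % 3 = 11200 % 3 := by rw [h2]
    rw [Nat.mul_mod, hmod, mul_one, Nat.mod_mod] at h5
    omega
  have hUeq : U = P24 := Finset.eq_of_subset_of_card_le hUP (by rw [hU6, hNP216, hP24])
  have hPclass : ∀ x ∈ Pg, x ≠ 1 → x ^ 3 = 1 ∧ (IsConj x g ∨ IsConj x r) := by
    intro x hx hx1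
    by_cases hxr : x ∈ Subgroup.zpowers r
    · rcases mem_zpowers_three hr3 hxr with e | e | e
      · exact absurd e hx1
      · exact ⟨e ▸ hr3, Or.inr (by rw [e])⟩
      · refine ⟨by rw [e, ← pow_mul, mul_comm, pow_mul, hr3, one_pow], Or.inr ?_⟩
        obtain ⟨s, hs⟩ := D.inverted_in_C hrC hro
        refine (isConj_iff.2 ⟨s, ?_⟩).symm
        rw [hs, e, inv_eq_of_mul_eq_one_right (show r * r ^ 2 = 1 by rw [← pow_succ', hr3])]
    have : x ∈ U := hUeq ▸ Finset.mem_filter.2 ⟨Finset.mem_univ _, hx, hxr⟩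
    obtain ⟨L, hL, hxL⟩ := Finset.mem_biUnion.1 this
    obtain ⟨n, hn, rfl⟩ := Finset.mem_image.1 hL
    obtain ⟨hxL', -⟩ := (Finset.mem_filter.1 hxL).2
    rw [hmem'] at hxL'
    have hx3 := hE3 _ hxL'
    rw [show n⁻¹ * x * n = n⁻¹ * x * n⁻¹⁻¹ by group, conj_pow, conj_eq_one_iff] at hx3
    refine ⟨hx3, ?_⟩
    rcases hclassE _ hxL' with h | h
    · exfalso
      apply hxr
      have hn' := (Finset.mem_filter.1 hn).2
      obtain ⟨j, hj⟩ := Subgroup.mem_zpowers_iff.1 h
      rw [show x = n * (n⁻¹ * x * n) * n⁻¹ by group, ← hj, ← conj_zpow]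
      exact Subgroup.zpow_mem _ (hNPr n hn') j
    · exact Or.inl ((isConj_iff.2 ⟨n⁻¹, by group⟩).trans h)
  refine ⟨?_, fun P' => ?_⟩
  · intro c0 hc0
    obtain ⟨Py, hPy⟩ := (IsPGroup.of_card (p := 3) (G := Subgroup.zpowers c0) (n := 1)
      (by rw [Nat.card_zpowers, hc0, pow_one])).exists_le_sylow
    obtain ⟨e, he⟩ := MulAction.exists_smul_eq G Py P
    have hm : e * c0 * e⁻¹ ∈ Pg := by
      rw [hPg, ← he, Sylow.coe_subgroup_smul]; exact ⟨c0, hPy (Subgroup.mem_zpowers c0), rfl⟩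
    have hc01 : e * c0 * e⁻¹ ≠ 1 := fun h => by
      rw [conj_eq_one_iff] at h; rw [h, orderOf_one] at hc0; omega
    have hce : IsConj c0 (e * c0 * e⁻¹) := isConj_iff.2 ⟨e, rfl⟩
    exact (hPclass _ hm hc01).2.imp hce.trans hce.trans
  · obtain ⟨e, he⟩ := MulAction.exists_smul_eq G P P'
    have hmem : ∀ x : G, x ∈ P' → e⁻¹ * x * e ∈ Pg := by
      intro x hx
      have hx' : x ∈ (P' : Subgroup G) := hx
      rw [← he, Sylow.coe_subgroup_smul] at hx'
      obtain ⟨y, hy, rfl⟩ := hx'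
      show e⁻¹ * (e * y * e⁻¹) * e ∈ Pg
      rwa [show e⁻¹ * (e * y * e⁻¹) * e = y by group]
    have hmem2 : ∀ x : G, x ∈ Pg → e * x * e⁻¹ ∈ P' := by
      intro x hx
      show e * x * e⁻¹ ∈ (P' : Subgroup G)
      rw [← he, Sylow.coe_subgroup_smul]
      exact ⟨x, hx, rfl⟩
    refine ⟨fun a ha => ?_, fun hcom => ?_, h27 P', ?_⟩
    · have h := hmem a ha
      by_cases h1 : e⁻¹ * a * e = 1
      · have : a = 1 := by
          rw [show a = e * (e⁻¹ * a * e) * e⁻¹ by group, h1]; group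
        rw [this, one_pow]
      · have h3 := (hPclass _ h h1).1
        rw [show e⁻¹ * a * e = e⁻¹ * a * e⁻¹⁻¹ by group, conj_pow, conj_eq_one_iff] at h3
        exact h3
    · apply hug
      have := hcom _ (hmem2 u huP) _ (hmem2 g (hP hgE))
      exact (Commute.conj_iff e).1 this
    · rw [← he, Sylow.coe_subgroup_smul,
        show MulAut.conj e • (P : Subgroup G) = (P : Subgroup G).map (MulAut.conj e).toMonoidHom from rfl,
        ← Subgroup.map_equiv_normalizer_eq,
        ← Nat.card_congr (Subgroup.equivMapOfInjective _ _ (MulAut.conj e).injective).toEquiv]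
      show Nat.card NP = 216
      rw [hfib, hNP216]

end Cent

end CfsgLib.J2Type
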